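import Mathlib
import Cfsg.Agent.Base
import Cfsg.Agent.Lib.SpX.Ev
import Cfsg.Agent.Lib.U5F.Card
import Cfsg.Agent.Lib.Cover.Fields

/-!
The Sylow `p`-subgroup of the four-dimensional unitary group in coordinates: hermitian `2 × 2` matrices
`(a, b; b̄, c)` extended by the shears `t`.
-/

set_option autoImplicit false

namespace U4F

open Subgroup H93.SX
open H68 (SylowIn)
open scoped commutatorElement

/-- hermitian matrices -/
@[ext] structure Hm (K : Type*) [Field K] [StarRing K] where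
  a : K
  b : K
  c : K
  ha : star a = a
  hc : star c = c

/-- The unipotent group of the four-dimensional unitary group. -/
@[ext] structure Uf (K : Type*) [Field K] [StarRing K] where
  t : K
  a : K
  b : K
  c : K
  ha : star a = a
  hc : star c = c

variable {K : Type*} [Field K] [StarRing K]

namespace Hm
variable {v w : Hm K}

instance : Add (Hm K) := ⟨fun v w => ⟨v.a + w.a, v.b + w.b, v.c + w.c, by simp [v.ha, w.ha], by simp [v.hc, w.hc]⟩⟩
instance : Zero (Hm K) := ⟨⟨0, 0, 0, by simp, by simp⟩⟩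
instance : Neg (Hm K) := ⟨fun v => ⟨-v.a, -v.b, -v.c, by simp [v.ha], by simp [v.hc]⟩⟩

@[simp] theorem add_a : (v + w).a = v.a + w.a := rfl
@[simp] theorem add_b : (v + w).b = v.b + w.b := rfl
@[simp] theorem add_c : (v + w).c = v.c + w.c := rfl
@[simp] theorem zero_a : (0 : Hm K).a = 0 := rfl
@[simp] theorem zero_b : (0 : Hm K).b = 0 := rfl
@[simp] theorem zero_c : (0 : Hm K).c = 0 := rfl
@[simp] theorem neg_a : (-v).a = -v.a := rfl
@[simp] theorem neg_b : (-v).b = -v.b := rfl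
@[simp] theorem neg_c : (-v).c = -v.c := rfl

instance : AddGroup (Hm K) := AddGroup.ofLeftAxioms (fun _ _ _ => by ext <;> simp [add_assoc])
  (fun _ => by ext <;> simp) fun _ => by ext <;> simp

instance : AddCommGroup (Hm K) := { (inferInstance : AddGroup (Hm K)) with
  add_comm := fun _ _ => by ext <;> simp [add_comm] }

@[simp] theorem sub_a : (v - w).a = v.a - w.a := by simp [sub_eq_add_neg]
@[simp] theorem sub_b : (v - w).b = v.b - w.b := by simp [sub_eq_add_neg]
@[simp] theorem sub_c : (v - w).c = v.c - w.c := by simp [sub_eq_add_neg]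
@[simp] theorem sa (v : Hm K) : star v.a = v.a := v.ha
@[simp] theorem sc (v : Hm K) : star v.c = v.c := v.hc

theorem eq_zero : v = 0 ↔ v.a = 0 ∧ v.b = 0 ∧ v.c = 0 := Hm.ext_iff

instance [Finite K] : Finite (Hm K) := Finite.of_injective (fun v : Hm K => (v.a, v.b, v.c)) fun x y h => by
  simp only [Prod.mk.injEq] at h
  exact Hm.ext_iff.2 h

instance [DecidableEq K] : DecidableEq (Hm K) := fun _ _ => decidable_of_iff _ Hm.ext_iff.symm

end Hm

namespace Uf
variable {x y : Uf K}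

@[simp] theorem sa (x : Uf K) : star x.a = x.a := x.ha
@[simp] theorem sc (x : Uf K) : star x.c = x.c := x.hc

instance : Mul (Uf K) := ⟨fun x y => ⟨x.t + y.t,
  x.a + y.a + x.t * star y.b + star x.t * y.b + x.t * star x.t * y.c, x.b + y.b + x.t * y.c, x.c + y.c,
  by simp only [star_add, star_mul', star_star, sa, sc]; ring, by simp⟩⟩
instance : One (Uf K) := ⟨⟨0, 0, 0, 0, by simp, by simp⟩⟩
instance : Inv (Uf K) := ⟨fun x => ⟨-x.t, -x.a + x.t * star x.b + star x.t * x.b - x.t * star x.t * x.c,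
  -x.b + x.t * x.c, -x.c, by simp only [star_add, star_sub, star_neg, star_mul', star_star, sa, sc]; ring,
  by simp⟩⟩

@[simp] theorem mul_t : (x * y).t = x.t + y.t := rfl
@[simp] theorem mul_a : (x * y).a =
    x.a + y.a + x.t * star y.b + star x.t * y.b + x.t * star x.t * y.c := rfl
@[simp] theorem mul_b : (x * y).b = x.b + y.b + x.t * y.c := rfl
@[simp] theorem mul_c : (x * y).c = x.c + y.c := rfl
@[simp] theorem one_t : (1 : Uf K).t = 0 := rfl
@[simp] theorem one_a : (1 : Uf K).a = 0 := rfl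
@[simp] theorem one_b : (1 : Uf K).b = 0 := rfl
@[simp] theorem one_c : (1 : Uf K).c = 0 := rfl
@[simp] theorem inv_t : x⁻¹.t = -x.t := rfl
@[simp] theorem inv_a : x⁻¹.a = -x.a + x.t * star x.b + star x.t * x.b - x.t * star x.t * x.c := rfl
@[simp] theorem inv_b : x⁻¹.b = -x.b + x.t * x.c := rfl
@[simp] theorem inv_c : x⁻¹.c = -x.c := rfl

instance : Group (Uf K) := Group.ofLeftAxioms
  (fun _ _ _ => by ext <;> simp only [mul_t, mul_a, mul_b, mul_c, star_add, star_mul', sc] <;> ring)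
  (fun _ => by ext <;> simp) fun _ => by
    ext <;> simp only [mul_t, mul_a, mul_b, mul_c, inv_t, inv_a, inv_b, inv_c, one_t, one_a, one_b, one_c,
      star_neg] <;> ring

@[simp] theorem comm_t : ⁅x, y⁆.t = 0 := by simp [commutatorElement_def]
@[simp] theorem comm_c : ⁅x, y⁆.c = 0 := by simp [commutatorElement_def]
@[simp] theorem comm_b : ⁅x, y⁆.b = x.t * y.c - y.t * x.c := by simp [commutatorElement_def]; ring
theorem comm_a : ⁅x, y⁆.a = x.t * star y.b + star x.t * y.b + x.t * star x.t * y.c -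
    (y.t * star x.b + star y.t * x.b + y.t * star y.t * x.c) := by
  simp [commutatorElement_def]; ring

theorem eq_one : x = 1 ↔ x.t = 0 ∧ x.a = 0 ∧ x.b = 0 ∧ x.c = 0 := Uf.ext_iff

instance [Finite K] : Finite (Uf K) := Finite.of_injective
  (fun x : Uf K => (x.t, x.a, x.b, x.c)) fun x y h => by
    simp only [Prod.mk.injEq] at h
    exact Uf.ext_iff.2 h

instance [DecidableEq K] : DecidableEq (Uf K) := fun _ _ => decidable_of_iff _ Uf.ext_iff.symm

end Uf

open U4F.Uf

variable {x y : Uf K}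

variable (K) in
/-- The abelian radical. -/
def VV : Subgroup (Uf K) where
  carrier := {x | x.t = 0}
  one_mem' := rfl
  mul_mem' := fun {a b} ha hb => by simp_all
  inv_mem' := fun {a} ha => by simp_all

variable (K) in
/-- The special radical. -/
def QQ : Subgroup (Uf K) where
  carrier := {x | x.c = 0}
  one_mem' := rfl
  mul_mem' := fun {a b} ha hb => by simp_all
  inv_mem' := fun {a} ha => by simp_all

variable (K) in
/-- The derived group. -/
def WW : Subgroup (Uf K) where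
  carrier := {x | x.t = 0 ∧ x.c = 0}
  one_mem' := ⟨rfl, rfl⟩
  mul_mem' := fun {a b} ha hb => by simp_all
  inv_mem' := fun {a} ha => by simp_all

variable (K) in
/-- The centre. -/
def ZZ : Subgroup (Uf K) where
  carrier := {x | x.t = 0 ∧ x.b = 0 ∧ x.c = 0}
  one_mem' := ⟨rfl, rfl, rfl⟩
  mul_mem' := fun {a b} ha hb => by simp_all
  inv_mem' := fun {a} ha => by simp_all

/-- The overgroup of the abelian radical given by the line through `t`. -/
def Et (t : K) : Subgroup (Uf K) where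
  carrier := {x | x.t * star t = star x.t * t}
  one_mem' := by simp
  mul_mem' := fun {a b} ha hb => by
    simp only [Set.mem_ofPred_eq, mul_t, star_add] at *; linear_combination ha + hb
  inv_mem' := fun {a} ha => by
    simp only [Set.mem_ofPred_eq, inv_t, star_neg] at *; linear_combination -ha

/-- The elementary abelian subgroup given by the line through `t` (characteristic two). -/
def Xt (t : K) : Subgroup (Uf K) where
  carrier := {x | x.t * star t = star x.t * t ∧ x.b * star t = star x.b * t ∧ x.c = 0}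
  one_mem' := by simp
  mul_mem' := fun {a b} ha hb => by
    simp only [Set.mem_ofPred_eq, mul_t, mul_b, mul_c, star_add, hb.2.2, ha.2.2, mul_zero, add_zero] at *
    exact ⟨by linear_combination ha.1 + hb.1, by linear_combination ha.2.1 + hb.2.1, trivial⟩
  inv_mem' := fun {a} ha => by
    simp only [Set.mem_ofPred_eq, inv_t, inv_b, inv_c, star_neg, ha.2.2, mul_zero, add_zero, neg_zero] at *
    exact ⟨by linear_combination -ha.1, by linear_combination -ha.2.1, trivial⟩

@[simp] theorem mem_Xt {t : K} :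
    x ∈ Xt t ↔ x.t * star t = star x.t * t ∧ x.b * star t = star x.b * t ∧ x.c = 0 := Iff.rfl
@[simp] theorem mem_VV : x ∈ VV K ↔ x.t = 0 := Iff.rfl
@[simp] theorem mem_QQ : x ∈ QQ K ↔ x.c = 0 := Iff.rfl
@[simp] theorem mem_WW : x ∈ WW K ↔ x.t = 0 ∧ x.c = 0 := Iff.rfl
@[simp] theorem mem_ZZ : x ∈ ZZ K ↔ x.t = 0 ∧ x.b = 0 ∧ x.c = 0 := Iff.rfl
@[simp] theorem mem_Et {t : K} : x ∈ Et t ↔ x.t * star t = star x.t * t := Iff.rfl

theorem comm_W (x y : Uf K) : ⁅x, y⁆ ∈ WW K := by simp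
theorem comm_Z (x : Uf K) (h : y ∈ WW K) : ⁅x, y⁆ ∈ ZZ K := by simp_all
theorem comm_Z0 (x : Uf K) (h : y ∈ ZZ K) : ⁅x, y⁆ = 1 := by simp_all [eq_one, comm_a]
theorem comm_V (h : x ∈ VV K) (h' : y ∈ VV K) : ⁅x, y⁆ = 1 := by simp_all [eq_one, comm_a]
theorem comm_Q (h : x ∈ QQ K) (h' : y ∈ QQ K) : ⁅x, y⁆ ∈ ZZ K := by simp_all

theorem seW {E : Subgroup (Uf K)} (h : WW K ≤ E) : Se E (WW K) (ZZ K) ⊥ :=
  ⟨h, fun _ h => ⟨h.1, h.2.2⟩, bot_le, fun t x _ => comm_W t x, fun t _ => comm_Z t,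
    fun t _ h => comm_Z0 t h, fun _ _ h => by simp_all⟩
theorem seT : Se ⊤ (WW K) (ZZ K) ⊥ := seW le_top
theorem seV : Se (VV K) (WW K) (ZZ K) ⊥ := seW fun _ h => h.1
theorem seQ : Se (QQ K) (WW K) (ZZ K) ⊥ := seW fun _ h => h.2

/-- The standard (diagonal and field) endomorphisms; `l` is meant to be fixed by `star`. -/
def dl (n l : K) (hl : star l = l) (σ : K ≃⋆+* K) : Uf K →* Uf K := MonoidHom.mk' (fun x =>
  ⟨n * σ x.t, n * star n * l * σ x.a, n * l * σ x.b, l * σ x.c,
    by simp only [star_mul', star_star, ← map_star, sa, hl]; ring,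
    by simp only [star_mul', ← map_star, Uf.sc, hl]⟩)
  fun x y => by ext <;> simp [star_mul', map_star, hl] <;> ring

section
variable {n l : K} {hl : star l = l} {σ : K ≃⋆+* K}
@[simp] theorem dl_t : (dl n l hl σ x).t = n * σ x.t := rfl
@[simp] theorem dl_a : (dl n l hl σ x).a = n * star n * l * σ x.a := rfl
@[simp] theorem dl_b : (dl n l hl σ x).b = n * l * σ x.b := rfl
@[simp] theorem dl_c : (dl n l hl σ x).c = l * σ x.c := rfl
end

/-- The Weyl element on the abelian radical. -/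
def w2 (x : Uf K) : Uf K := ⟨0, x.c, -star x.b, x.a, x.hc, x.ha⟩

/-- coordinates on `VV` -/
def cV (x : Uf K) : Hm K := ⟨x.a, x.b, x.c, x.ha, x.hc⟩
/-- coordinates on `QQ / ZZ` -/
def cQ (x : Uf K) : K × K := (x.b, x.t)

/-- the shear -/
def sh (t : K) (v : Hm K) : Hm K := ⟨v.a + t * star v.b + star t * v.b + t * star t * v.c, v.b + t * v.c, v.c,
  by simp only [star_add, star_mul', star_star, Hm.sa, Hm.sc]; ring, v.hc⟩
/-- the opposite shear -/
def sl (s : K) (v : Hm K) : Hm K := ⟨v.a, v.b + s * v.a, v.c + s * star v.b + star s * v.b + s * star s * v.a,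
  v.ha, by simp only [star_add, star_mul', star_star, Hm.sa, Hm.sc]; ring⟩
/-- the change of coordinates given by an additive map on the fixed field -/
def th (α : K →+ K) (h : ∀ c, star c = c → star (α c) = α c) (v : Hm K) : Hm K :=
  ⟨v.a + α v.c, v.b, v.c, by rw [star_add, v.ha, h _ v.hc], v.hc⟩

variable (K) in
def hZ : AddSubgroup (Hm K) where
  carrier := {v | v.b = 0 ∧ v.c = 0}
  zero_mem' := ⟨rfl, rfl⟩
  add_mem' := fun {a b} ha hb => by simp_all
  neg_mem' := fun {a} ha => by simp_all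

variable (K) in
def hW : AddSubgroup (Hm K) where
  carrier := {v | v.c = 0}
  zero_mem' := rfl
  add_mem' := fun {a b} ha hb => by simp_all
  neg_mem' := fun {a} ha => by simp_all

@[simp] theorem mem_hZ {v : Hm K} : v ∈ hZ K ↔ v.b = 0 ∧ v.c = 0 := Iff.rfl
@[simp] theorem mem_hW {v : Hm K} : v ∈ hW K ↔ v.c = 0 := Iff.rfl

/-- The matrix of an element. -/
def mx (x : Uf K) : Matrix (Fin 4) (Fin 4) K :=
  !![1, x.t, x.a - x.b * star x.t, x.b;
    0, 1, star x.b - x.c * star x.t, x.c;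
    0, 0, 1, 0;
    0, 0, -star x.t, 1]

variable (K) in
/-- The skew-hermitian form. -/
def JJ : Matrix (Fin 4) (Fin 4) K := !![0, 0, 1, 0; 0, 0, 0, 1; -1, 0, 0, 0; 0, -1, 0, 0]

/-- A diagonal unitary matrix. -/
def dg (d e : K) : Matrix (Fin 4) (Fin 4) K := Matrix.diagonal ![d, e, (star d)⁻¹, (star e)⁻¹]

/-- the alternating form on `QQ / ZZ` -/
def be (x y : K × K) : K := x.2 * star y.1 + star x.2 * y.1 - (y.2 * star x.1 + star y.2 * x.1)
/-- the quadratic form on `QQ / ZZ` -/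
def qf (x : K × K) : K := x.2 * star x.1 + star x.2 * x.1

section
variable {G : Type*} [Group G]

/-- A group of additive automorphisms of the hermitian matrices whose Sylow subgroup is the shear group. -/
structure OV (K : Type*) [Field K] [StarRing K] [DistribMulAction G (Hm K)] (p : ℕ) (H U : Subgroup G) :
    Prop where
  syl : SylowIn p U H
  act : ∀ g ∈ U, ∃ t : K, ∀ v : Hm K, g • v = sh t v
  ex : ∀ t : K, ∃ g ∈ U, ∀ v : Hm K, g • v = sh t v

/-- a strongly embedded subgroup -/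
structure Emb (H A M : Subgroup G) : Prop where
  le : A ≤ M
  lt : ¬ H ≤ M
  tri : ∀ a ∈ A, a ≠ 1 → ∀ g ∈ H, g⁻¹ * a * g ∈ M → g ∈ M

/-- trivial intersections -/
def TI (K : Type*) [Field K] [StarRing K] [DistribMulAction G (Hm K)] (H U : Subgroup G) : Prop :=
  ∀ g ∈ H, ∀ u ∈ U, u ≠ 1 → g * u * g⁻¹ ∈ U → g ∈ sb G (hZ K) ⊓ sb G (hW K)

/-- A group of additive automorphisms of `K × K` that respects the alternating form and whose Sylow
subgroup is the group of shears with parameter in the fixed field. -/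
structure OQ (K : Type*) [Field K] [StarRing K] [DistribMulAction G (K × K)] (p : ℕ) (H R : Subgroup G) :
    Prop where
  syl : SylowIn p R H
  act : ∀ g ∈ R, ∃ e : K, star e = e ∧ ∀ v : K × K, g • v = (v.1 + e * v.2, v.2)
  ex : ∀ e : K, star e = e → ∃ g ∈ R, ∀ v : K × K, g • v = (v.1 + e * v.2, v.2)
  form : ∀ g ∈ H, ∀ x y x' y' : K × K, be x y = be x' y' → be (g • x) (g • y) = be (g • x') (g • y')

/-- The images of the axis are the standard ones, and the Weyl element occurs. -/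
def LQ (K : Type*) [Field K] [StarRing K] [DistribMulAction G (K × K)] (H : Subgroup G) : Prop :=
  (∀ g ∈ H, g ∈ sb G (ax K) ∨ ∃ e : K, star e = e ∧ ∀ b : K, (g • ((b, 0) : K × K)).1 = e * (g • ((b, 0) : K × K)).2) ∧
    ∃ w ∈ H, ∀ v : K × K, w • v = (-v.2, v.1)

end

section
variable {Γ : Type*} [Group Γ]

/-- The standard automorphism with the given parameters is induced. -/
def Dl (ι : Uf K →* Γ) (n l : K) (σ : K ≃⋆+* K) : Prop := ∃ hl g, ∀ x, Cj ι g x (dl n l hl σ x)

/-- Every induced automorphism of the whole group is standard up to an inner automorphism. -/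
def Std (ι : Uf K →* Γ) : Prop :=
  ∀ g ∈ nr ι ⊤, ∃ s n l hl σ, n ≠ 0 ∧ l ≠ 0 ∧ ∀ x, Cj ι g x (s * dl n l hl σ x * s⁻¹)

/-- the torus of `Ω₄⁻` -/
def T2 (ι : Uf K →* Γ) : Prop := ∀ m : K, m ≠ 0 → Dl ι (m ^ 2) (m * star m)⁻¹ .refl
/-- the torus of `SL₂` -/
def T1 (ι : Uf K →* Γ) : Prop := ∀ e : K, e ≠ 0 → star e = e → Dl ι e⁻¹ (e ^ 2) .refl

def W2 (ι : Uf K →* Γ) : Prop := ∃ g, ∀ x ∈ VV K, Cj ι g x (w2 x)

/-- `g` acts on `QQ / ZZ` as `φ` -/
def AQ (ι : Uf K →* Γ) (g : Γ) (φ : K × K → K × K) : Prop :=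
  g ∈ nr ι (QQ K) ∧ ∀ x ∈ QQ K, ∀ y ∈ QQ K, Cj ι g x y → cQ y = φ (cQ x)

/-- `g` acts on `VV` as `φ` -/
def AV (ι : Uf K →* Γ) (g : Γ) (φ : Hm K → Hm K) : Prop :=
  g ∈ nr ι (VV K) ∧ ∀ x ∈ VV K, ∀ y ∈ VV K, Cj ι g x y → cV y = φ (cV x)

def W1 (ι : Uf K →* Γ) : Prop := ∃ g, AQ ι g fun v => (-v.2, v.1)

def SQ (ι : Uf K →* Γ) : Prop := ∀ g ∈ nr ι (QQ K), g ∈ nr ι (WW K) ∨
  ∃ e : K, star e = e ∧ ∀ x ∈ WW K, ∀ y, Cj ι g x y → y.b = e * y.t

/-- trivial intersections in the automizer of `VV` -/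
def TV {ι : Uf K →* Γ} (i : Function.Injective ι) : Prop :=
  TI K (au i (VV K) cV ⊤) (au i (VV K) cV ι.range)

/-- only inner automorphisms of the whole group are induced -/
def Inn (ι : Uf K →* Γ) : Prop := ∀ g ∈ nr ι ⊤, ∃ s, ∀ x, Cj ι g x (s * x * s⁻¹)

/-- the image is a Sylow subgroup -/
def Mo (p : ℕ) (ι : Uf K →* Γ) : Prop :=
  Function.Injective ι ∧ ∃ P : Sylow p Γ, (P : Subgroup Γ) = ι.range

/-- the standard configuration -/
structure Sd {ι : Uf K →* Γ} (i : Function.Injective ι) : Prop where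
  std : Std ι
  w2 : W2 ι
  tv : TV i

end

/-! the fields with four and nine elements -/

open H30 H19.Cov

instance : StarRing F4 where
  star x := x * x
  star_involutive := by unfold Function.Involutive; decide
  star_mul := by decide
  star_add := by decide

instance : StarRing F9 where
  star x := x * x * x
  star_involutive := by unfold Function.Involutive; decide +kernel
  star_mul := by decide +kernel
  star_add := by decide +kernel

instance : CharP F9 3 := (CharP.charP_iff_prime_eq_zero (by norm_num)).2 (by decide +kernel)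

/-- `i` -/
def ii : F9 := ⟨3⟩

/-- the two automorphisms -/
def sB {K : Type*} [Field K] [StarRing K] (b : Bool) : K ≃⋆+* K :=
  cond b { (starRingAut : RingAut K) with map_star' := fun _ => rfl } .refl

/-- the reflection with the cell `m` -/
def jm (m : F9) (v : F9 × F9) : F9 × F9 :=
  (-ii * m * star v.1 + ii * (m * star m + 1) * v.2, ii * v.1 - ii * m * star v.2)

/-- the translation of the cells -/
def tc (c : F9) (v : F9 × F9) : F9 × F9 := (v.1 + c * star v.2, v.2)

/-- the action of a standard automorphism on the cells -/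
def dm (n l : F9) (b : Bool) (m : F9) : F9 := l * (n * n * n * n * n * n) * cond b (star m) m

def Sg {Γ : Type*} [Group Γ] (ι : Uf F9 →* Γ) (m : F9) : Prop := ∃ g, AQ ι g (jm m)

/-- the data of the model attached to the set `X` of cells -/
structure Ty {Γ : Type*} [Group Γ] (ι : Uf F9 →* Γ) (X : Set F9) : Prop where
  ne : X.Nonempty
  neg : ∀ m ∈ X, -m ∈ X
  inv : ∀ n l b, n ≠ 0 → l ≠ 0 → Dl ι n l (sB b) → ∀ m ∈ X, dm n l b m ∈ X
  full : ∀ n l b, n ≠ 0 → l ≠ 0 → star l = l → (∀ m ∈ X, dm n l b m = m) → Dl ι n l (sB b)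
  sg : ∀ k, Sg ι k ↔ ∀ m ∈ X, (k - m) * star (k - m) ≠ -1

/-- nine lattice vectors permuted by the normalisers -/
structure LD {Γ Λ : Type*} [Group Γ] [AddCommGroup Λ] [DistribMulAction Γ Λ] (ψ : Uf F9 →* Γ)
    (u : F9 → Λ) : Prop where
  inj : Function.Injective ψ
  fix : ∀ x m, ψ x • u m = u m
  ne : ∀ m k, u m = u k → m = k
  ne' : ∀ m k, u m ≠ -u k
  w2 : ∃ g, (∀ x ∈ VV F9, Cj ψ g x (w2 x)) ∧ ∀ m, g • u m = u m
  tr : ∀ c, ∃ g, AQ ψ g (tc c) ∧ ∀ m, g • u m = u (m + c)
  dd : ∀ n l hl b, n ≠ 0 → l ≠ 0 → ∃ g, (∀ x, Cj ψ g x (dl n l hl (sB b) x)) ∧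
    ∀ m, g • u m = u (dm n l b m)
  jj : ∃ g, AQ ψ g (jm 0) ∧ (∀ m, m * star m ≠ -1 → g • u m = u m) ∧
    ∀ m, m * star m = -1 → ∀ k, g • u m ≠ u k ∧ g • u m ≠ -u k
  cen : ∀ g, (∀ x ∈ QQ F9, Cj ψ g x x) → (∀ m, g • u m = u m) ∨ ∀ m, g • u m = -u m
  syl : ¬ 3 ^ 7 ∣ Nat.card (MulAction.stabilizer Γ (u 0))

/-- the extra involutions over the field with four elements -/
def mv (t s : F4) (v : Hm F4) : Hm F4 :=
  ⟨v.a + v.c + (v.b * star t + star v.b * t),
    v.c * s + (v.a + (v.b * star (t + s) + star v.b * (t + s))) * t, v.b * star t + star v.b * t,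
    by simp only [star_add, star_mul', star_star, Hm.sa, Hm.sc]; ring,
    by simp only [star_add, star_mul', star_star]; ring⟩

def Mv {Γ : Type*} [Group Γ] (ι : Uf F4 →* Γ) (t s : F4) : Prop :=
  t ≠ 0 ∧ s ≠ 0 ∧ t ≠ s ∧ ∃ g, AV ι g (mv t s)

theorem u4defs_eq_defs : True := by
  have := @VV.eq_1.{0}
  have := @QQ.eq_1.{0}
  have := @WW.eq_1.{0}
  have := @ZZ.eq_1.{0}
  have := @Et.eq_1.{0}
  have := @dl.eq_1.{0}
  have := @w2.eq_1.{0}
  have := @cV.eq_1.{0}
  have := @cQ.eq_1.{0}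
  have := @sh.eq_1.{0}
  have := @sl.eq_1.{0}
  have := @th.eq_1.{0}
  have := @hZ.eq_1.{0}
  have := @hW.eq_1.{0}
  have := @be.eq_1.{0}
  have := @qf.eq_1.{0}
  have := @TI.eq_1.{0, 0}
  have := @LQ.eq_1.{0, 0}
  have := @Dl.eq_1.{0, 0}
  have := @Std.eq_1.{0, 0}
  have := @T2.eq_1.{0, 0}
  have := @T1.eq_1.{0, 0}
  have := @W2.eq_1.{0, 0}
  have := @AQ.eq_1.{0, 0}
  have := @AV.eq_1.{0, 0}
  have := @W1.eq_1.{0, 0}
  have := @SQ.eq_1.{0, 0}
  have := @TV.eq_1.{0, 0}
  have := @ii.eq_1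
  have := @sB.eq_1.{0}
  have := @jm.eq_1
  have := @tc.eq_1
  have := @dm.eq_1
  have := @Sg.eq_1.{0}
  have := @mv.eq_1
  have := @Mv.eq_1.{0}
  have := @Xt.eq_1.{0}
  have := @Inn.eq_1.{0, 0}
  have := @Mo.eq_1.{0, 0}
  have := @mx.eq_1.{0}
  have := @JJ.eq_1.{0}
  have := @dg.eq_1.{0}
  trivial

end U4F
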