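import Mathlib
import Cfsg.Agent.Base
import Cfsg.Agent.Lib.U4F.Defs

set_option autoImplicit false

namespace U4F

open Subgroup H93.SX
open H68 (SylowIn)
open U5F (qq)
open scoped commutatorElement

universe u v

variable {K : Type*} [Field K] [StarRing K] [Finite K]

theorem Ar.pow_fix {e : K} (he : star e = e) : e ^ qq K = e := by
  let F : Subfield K := RingHom.eqLocusField (starRingEnd K) (RingHom.id K)
  haveI := Fintype.ofFinite F
  have h1 : Fintype.card F = qq K := by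
    rw [← Nat.card_eq_fintype_card]; rfl
  have := congrArg Subtype.val (FiniteField.pow_card (⟨e, he⟩ : F))
  rwa [h1] at this

theorem Ar.qq_pow (p : ℕ) [Fact p.Prime] [CharP K p] : ∃ n, qq K = p ^ n := by
  let F : Subfield K := RingHom.eqLocusField (starRingEnd K) (RingHom.id K)
  haveI := Fintype.ofFinite F
  have h1 : Fintype.card F = qq K := by
    rw [← Nat.card_eq_fintype_card]; rfl
  obtain ⟨n, -, h⟩ := FiniteField.card F p
  exact ⟨n, h1 ▸ h⟩

theorem Ar.fix_of_pow {x : K} (hx : x ^ qq K = x) : star x = x := by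
  classical
  by_contra hn
  haveI := Fintype.ofFinite K
  have h1 := U5F.one_lt_qq (K := K)
  have hne := FiniteField.X_pow_card_sub_X_ne_zero K h1
  have hd := FiniteField.X_pow_card_sub_X_natDegree_eq K h1
  have hs : insert x (Finset.univ.filter fun k : K => star k = k) ⊆
      (Polynomial.X ^ qq K - Polynomial.X : Polynomial K).roots.toFinset := fun y hy => by
    rw [Multiset.mem_toFinset, Polynomial.mem_roots hne]
    rcases Finset.mem_insert.1 hy with rfl | hy
    · simp [hx]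
    · simp [Ar.pow_fix (Finset.mem_filter.1 hy).2]
  have h2 := (Finset.card_le_card hs).trans ((Multiset.toFinset_card_le _).trans
    (Polynomial.card_roots' _))
  rw [Finset.card_insert_of_notMem (by simpa using hn), hd, ← Fintype.card_subtype,
    ← Nat.card_eq_fintype_card] at h2
  exact absurd h2 (Nat.not_succ_le_self _)

omit [Finite K] in
theorem Ar.cnt (A B C : Set K) (hC : ∀ c ∈ C, star c = c) (H : Subgroup (Uf K))
    (h : ∀ x, x ∈ H ↔ x.t ∈ A ∧ x.b ∈ B ∧ x.c ∈ C) :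
    Nat.card H = Nat.card A * (Nat.card B * (Nat.card C * qq K)) := by
  rw [qq, ← Nat.card_prod, ← Nat.card_prod, ← Nat.card_prod]
  exact Nat.card_congr
    { toFun := fun x => (⟨x.1.t, ((h _).1 x.2).1⟩, ⟨x.1.b, ((h _).1 x.2).2.1⟩,
        ⟨x.1.c, ((h _).1 x.2).2.2⟩, ⟨x.1.a, x.1.ha⟩)
      invFun := fun y => ⟨⟨y.1, y.2.2.2, y.2.1, y.2.2.1, y.2.2.2.2, hC _ y.2.2.1.2⟩,
        (h _).2 ⟨y.1.2, y.2.1.2, y.2.2.1.2⟩⟩
      left_inv := fun x => rfl
      right_inv := fun y => rfl }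

omit [Finite K] in
theorem Ar.cnt' (B C : Set K) (hC : ∀ c ∈ C, star c = c) (H : AddSubgroup (Hm K))
    (h : ∀ x, x ∈ H ↔ x.b ∈ B ∧ x.c ∈ C) :
    Nat.card H = Nat.card B * (Nat.card C * qq K) := by
  rw [qq, ← Nat.card_prod, ← Nat.card_prod]
  exact Nat.card_congr
    { toFun := fun x => (⟨x.1.b, ((h _).1 x.2).1⟩, ⟨x.1.c, ((h _).1 x.2).2⟩, ⟨x.1.a, x.1.ha⟩)
      invFun := fun y => ⟨⟨y.2.2, y.1, y.2.1, y.2.2.2, hC _ y.2.1.2⟩, (h _).2 ⟨y.1.2, y.2.1.2⟩⟩
      left_inv := fun x => rfl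
      right_inv := fun y => rfl }

omit [Finite K] in
theorem Ar.cF : Nat.card {k : K | star k = k} = qq K := rfl

theorem Ar.cU (hs : ∃ e : K, star e ≠ e) : Nat.card (Set.univ : Set K) = qq K ^ 2 := by
  rw [Nat.card_univ, U5F.card_K hs]

omit [Finite K] in
theorem Ar.c0 : Nat.card ({0} : Set K) = 1 := Nat.card_unique

omit [Finite K] in
/-- transport along an isomorphism of fields with involution -/
def Ar.tr {L : Type*} [Field L] [StarRing L] (σ : L ≃+* K) (h : ∀ x, σ (star x) = star (σ x)) :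
    Uf L ≃* Uf K where
  toFun x := ⟨σ x.t, σ x.a, σ x.b, σ x.c, by rw [← h, x.ha], by rw [← h, x.hc]⟩
  invFun x := ⟨σ.symm x.t, σ.symm x.a, σ.symm x.b, σ.symm x.c,
    σ.injective (by rw [h, σ.apply_symm_apply, x.ha]),
    σ.injective (by rw [h, σ.apply_symm_apply, x.hc])⟩
  left_inv x := by ext <;> simp
  right_inv x := by ext <;> simp
  map_mul' x y := by ext <;> simp [h]

theorem star_pow (hs : ∃ e : K, star e ≠ e) (x : K) : star x = x ^ qq K := by
  obtain ⟨p, hp⟩ := CharP.exists K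
  haveI := Fact.mk (CharP.char_is_prime K p)
  obtain ⟨n, hn⟩ := Ar.qq_pow (K := K) p
  have h1 : (x + star x) ^ qq K = x + star x := Ar.pow_fix (by rw [star_add, star_star, add_comm])
  have h2 : (x * star x) ^ qq K = x * star x := Ar.pow_fix (by rw [star_mul', star_star, mul_comm])
  rw [hn, add_pow_char_pow, ← hn] at h1
  rw [mul_pow] at h2
  have h3 : (x ^ qq K - x) * (x ^ qq K - star x) = 0 := by
    linear_combination x ^ qq K * h1 - h2
  rcases mul_eq_zero.1 h3 with h | h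
  · rw [sub_eq_zero.1 h, Ar.fix_of_pow (sub_eq_zero.1 h)]
  · exact (sub_eq_zero.1 h).symm

theorem tr_zero (hs : ∃ e : K, star e ≠ e) {b : K} (h : ∀ t : K, t * star b + star t * b = 0) : b = 0 := by
  by_contra hb
  obtain ⟨e, he⟩ := hs
  have h1 := h b
  have h2 := h (e * b)
  rw [star_mul'] at h2
  have h3 := h (star e * b)
  have hN : b * star b ≠ 0 := mul_ne_zero hb (star_ne_zero.2 hb)
  have h4 : (e + star e) * (b * star b) = 0 := by linear_combination h2
  have h5 := h (e * e * b)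
  rw [star_mul', star_mul'] at h5
  have h6 := (mul_eq_zero.1 h4).resolve_right hN
  have h7 : (2 : K) * (b * star b) = 0 := by linear_combination h1
  have h8 := (mul_eq_zero.1 h7).resolve_right hN
  exact he (by linear_combination h6 - e * h8)

theorem card_Uf (hs : ∃ e : K, star e ≠ e) : Nat.card (Uf K) = qq K ^ 6 := by
  rw [← card_top, Ar.cnt Set.univ Set.univ {k : K | star k = k} (fun _ h => h) ⊤
    fun x => by simp, Ar.cU hs, Ar.cF]
  ring

theorem card_VV (hs : ∃ e : K, star e ≠ e) : Nat.card (VV K) = qq K ^ 4 := by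
  rw [Ar.cnt {0} Set.univ {k : K | star k = k} (fun _ h => h) _ fun x => by simp, Ar.cU hs, Ar.cF,
    Ar.c0]
  ring

theorem card_QQ (hs : ∃ e : K, star e ≠ e) : Nat.card (QQ K) = qq K ^ 5 := by
  rw [Ar.cnt Set.univ Set.univ {0} (by simp) _ fun x => by simp, Ar.cU hs, Ar.c0]
  ring

theorem card_WW (hs : ∃ e : K, star e ≠ e) : Nat.card (WW K) = qq K ^ 3 := by
  rw [Ar.cnt {0} Set.univ {0} (by simp) _ fun x => by simp, Ar.cU hs, Ar.c0]
  ring

theorem card_ZZ : Nat.card (ZZ K) = qq K := by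
  rw [Ar.cnt {0} {0} {0} (by simp) _ fun x => by simp, Ar.c0]
  ring

theorem card_Hm (hs : ∃ e : K, star e ≠ e) : Nat.card (Hm K) = qq K ^ 4 := by
  rw [← AddSubgroup.card_top, Ar.cnt' Set.univ {k : K | star k = k} (fun _ h => h) ⊤
    fun x => by simp, Ar.cU hs, Ar.cF]
  ring

theorem card_hW (hs : ∃ e : K, star e ≠ e) : Nat.card (hW K) = qq K ^ 3 := by
  rw [Ar.cnt' Set.univ {0} (by simp) _ fun x => by simp, Ar.cU hs, Ar.c0]
  ring

theorem card_hZ : Nat.card (hZ K) = qq K := by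
  rw [Ar.cnt' {0} {0} (by simp) _ fun x => by simp, Ar.c0]
  ring

theorem pg_uf (p : ℕ) [Fact p.Prime] [CharP K p] : IsPGroup p (Uf K) := by
  haveI := Fintype.ofFinite K
  obtain ⟨n, -, h⟩ := FiniteField.card K p
  obtain ⟨m, hm⟩ := Ar.qq_pow (K := K) p
  refine IsPGroup.of_card (n := n + (n + (m + m))) ?_
  rw [← card_top, Ar.cnt Set.univ Set.univ {k : K | star k = k} (fun _ h => h) ⊤
    fun x => by simp, Ar.cF, Nat.card_univ, Nat.card_eq_fintype_card, h, hm]
  ring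

theorem hM_Hm (p : ℕ) [CharP K p] : ∃ n, ∀ x : Hm K, p ^ n • x = 0 := by
  have h : ∀ (n : ℕ) (x : Hm K), (n • x).a = n * x.a ∧ (n • x).b = n * x.b ∧ (n • x).c = n * x.c := by
    intro n x
    induction n with
    | zero => simp
    | succ n ih =>
      simp only [succ_nsmul, Hm.add_a, Hm.add_b, Hm.add_c, ih.1, ih.2.1, ih.2.2, Nat.cast_succ]
      refine ⟨?_, ?_, ?_⟩ <;> ring
  refine ⟨1, fun x => Hm.eq_zero.2 ?_⟩
  rw [pow_one, (h p x).1, (h p x).2.1, (h p x).2.2, CharP.cast_eq_zero]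
  simp

theorem field_cases (hs : ∃ e : K, star e ≠ e) : Nat.card K = 4 ∨ Nat.card K = 9 ∨ ∃ e : K, star e = e ∧ e ≠ 0 ∧ e ^ 2 ≠ 1 := by
  classical
  by_cases h : ∃ e : K, star e = e ∧ e ≠ 0 ∧ e ^ 2 ≠ 1
  · exact Or.inr (Or.inr h)
  push Not at h
  haveI := Fintype.ofFinite K
  have hs' : (Finset.univ.filter fun k : K => star k = k) ⊆ {0, 1, -1} := fun y hy => by
    by_cases h0 : y = 0
    · simp [h0]
    · rcases sq_eq_one_iff.1 (h y (Finset.mem_filter.1 hy).2 h0) with e | e <;> simp [e]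
  have h2 := (Finset.card_le_card hs').trans Finset.card_le_three
  rw [← Fintype.card_subtype, ← Nat.card_eq_fintype_card] at h2
  have h3 : qq K ≤ 3 := h2
  have h1 := U5F.one_lt_qq (K := K)
  rw [U5F.card_K hs]
  interval_cases qq K <;> simp

theorem tr4 (hs : ∃ e : K, star e ≠ e) (h : Nat.card K = 4) : Nonempty (Uf H30.F4 ≃* Uf K) := by
  haveI := Fintype.ofFinite K
  have hq : qq K = 2 := by
    have := U5F.card_K hs
    rw [h] at this
    exact (Nat.pow_left_injective two_ne_zero (this.symm.trans (by norm_num)))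
  let σ : H30.F4 ≃+* K := FiniteField.ringEquivOfCardEq (by
    rw [← Nat.card_eq_fintype_card, ← Nat.card_eq_fintype_card, h, H30.F4.natCard_eq])
  exact ⟨Ar.tr σ fun x => by
    rw [star_pow hs, hq, sq, ← map_mul]; rfl⟩

theorem tr9 (hs : ∃ e : K, star e ≠ e) (h : Nat.card K = 9) : Nonempty (Uf H19.Cov.F9 ≃* Uf K) := by
  haveI := Fintype.ofFinite K
  have hq : qq K = 3 := by
    have := U5F.card_K hs
    rw [h] at this
    exact (Nat.pow_left_injective two_ne_zero (this.symm.trans (by norm_num)))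
  let σ : H19.Cov.F9 ≃+* K := FiniteField.ringEquivOfCardEq (by
    rw [← Nat.card_eq_fintype_card, ← Nat.card_eq_fintype_card, h, H19.Cov.F9.natCard_eq])
  exact ⟨Ar.tr σ fun x => by
    rw [star_pow hs, hq, pow_three', ← map_mul, ← map_mul]; rfl⟩

theorem hs4 : ∃ e : H30.F4, star e ≠ e := by
  exact ⟨.w, by decide⟩

theorem hs9 : ∃ e : H19.Cov.F9, star e ≠ e := by
  exact ⟨ii, by decide +kernel⟩

theorem sB4 (σ : H30.F4 ≃⋆+* H30.F4) : ∃ b, σ = sB b := by
  have h0 : ∀ x : H30.F4, x = 0 ∨ x = 1 ∨ x = .w ∨ x = .w + 1 := by decide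
  have h1 : ∀ y : H30.F4, y * y = y + 1 → y = .w ∨ y = star .w := by decide
  have h2 : σ .w * σ .w = σ .w + 1 := by
    rw [← map_mul, ← map_one σ, ← map_add]; rfl
  have key : ∀ τ : H30.F4 ≃⋆+* H30.F4, σ .w = τ .w → σ = τ := fun τ e => by
    ext x
    rcases h0 x with rfl | rfl | rfl | rfl <;> simp [e]
  rcases h1 _ h2 with e | e
  · exact ⟨false, key _ e⟩
  · exact ⟨true, key _ e⟩

theorem sB9 (σ : H19.Cov.F9 ≃⋆+* H19.Cov.F9) : ∃ b, σ = sB b := by
  have h0 : ∀ x : H19.Cov.F9, x = 0 ∨ x = 1 ∨ x = -1 ∨ x = ii ∨ x = ii + 1 ∨ x = ii - 1 ∨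
      x = -ii ∨ x = -ii + 1 ∨ x = -ii - 1 := by decide +kernel
  have h1 : ∀ y : H19.Cov.F9, y * y = -1 → y = ii ∨ y = star ii := by decide +kernel
  have h2 : σ ii * σ ii = -1 := by
    rw [← map_mul, show ii * ii = -1 by decide +kernel, map_neg, map_one]
  have key : ∀ τ : H19.Cov.F9 ≃⋆+* H19.Cov.F9, σ ii = τ ii → σ = τ := fun τ e => by
    ext1 x
    rcases h0 x with rfl | rfl | rfl | rfl | rfl | rfl | rfl | rfl | rfl <;> simp [e]
  rcases h1 _ h2 with e | e
  · exact ⟨false, key _ e⟩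
  · exact ⟨true, key _ e⟩

end U4F
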