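import Mathlib
import Cfsg.Agent.Base
import Cfsg.Agent.Lib.U4F.Ar

set_option autoImplicit false

namespace U4F

open Subgroup H93.SX
open H68 (SylowIn)
open U5F (qq)
open scoped commutatorElement

universe u v

variable {K : Type*} {Γ : Type u} {Γ' : Type v} [Field K] [StarRing K] [Finite K] [Group Γ] [Finite Γ]
  [Group Γ'] [Finite Γ'] {p : ℕ} [Fact p.Prime] [CharP K p] {ι : Uf K →* Γ} {ψ : Uf K →* Γ'}
  {E : Subgroup (Uf K)} {g : Γ} {k : Γ'} {x y : Uf K} {t n l n' l' : K} {σ σ' : K ≃⋆+* K}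

namespace Au

theorem z_iff (hs : ∃ e : K, star e ≠ e) : x ∈ ZZ K ↔ ∀ y : Uf K, ⁅x, y⁆ = 1 := by
  refine ⟨fun h y => by rw [← commutatorElement_inv, comm_Z0 y h, inv_one], fun h => ?_⟩
  have h1 := congrArg Uf.b (h ⟨1, 0, 0, 0, by simp, by simp⟩)
  have h2 := congrArg Uf.b (h ⟨0, 0, 0, 1, by simp, by simp⟩)
  simp only [Uf.comm_b, Uf.one_b, mul_zero, one_mul, zero_sub, neg_eq_zero, mul_one, zero_mul, sub_zero] at h1 h2
  refine ⟨h2, tr_zero hs fun s => ?_, h1⟩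
  have h3 := congrArg Uf.a (h ⟨s, 0, 0, 0, by simp, by simp⟩)
  simp only [Uf.comm_a, Uf.one_a, h1, star_zero] at h3
  linear_combination -h3

omit [Finite K] in
theorem w_iff : x ∈ WW K ↔ ∀ y, ⁅x, y⁆ ∈ ZZ K := by
  refine ⟨fun h y => by simp_all, fun h => ?_⟩
  have h1 := (h ⟨1, 0, 0, 0, by simp, by simp⟩).2.1
  have h2 := (h ⟨0, 0, 0, 1, by simp, by simp⟩).2.1
  simp only [Uf.comm_b, mul_zero, one_mul, zero_sub, neg_eq_zero, mul_one, zero_mul, sub_zero] at h1 h2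
  exact ⟨h2, h1⟩

theorem v_iff (hs : ∃ e : K, star e ≠ e) : x ∈ VV K ↔ ∀ w, w ∈ WW K → ⁅x, w⁆ = 1 := by
  refine ⟨fun h w hw => comm_V h hw.1, fun h => tr_zero hs fun s => ?_⟩
  have h3 := congrArg Uf.a (h ⟨0, 0, s, 0, by simp, by simp⟩ ⟨rfl, rfl⟩)
  simp only [Uf.comm_a, Uf.one_a, star_zero] at h3
  linear_combination h3

omit [Finite K] in
theorem q_iff (hs : ∃ e : K, star e ≠ e) :
    x ∈ QQ K ↔ ¬ ∀ w, w ∈ WW K → ∃ y, ⁅x, y⁆ * w⁻¹ ∈ ZZ K := by
  constructor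
  · intro hx h
    have hc : x.c = 0 := hx
    have k : ∀ b : K, ∃ f : K, star f = f ∧ x.t * f = b := fun b => by
      obtain ⟨y, hy⟩ := h ⟨0, 0, b, 0, by simp, by simp⟩ ⟨rfl, rfl⟩
      have := hy.2.1
      simp only [Uf.mul_b, Uf.comm_b, Uf.inv_b, Uf.comm_t, hc] at this
      exact ⟨y.c, y.hc, by linear_combination this⟩
    obtain ⟨e, he⟩ := hs
    obtain ⟨f, -, e1⟩ := k 1
    obtain ⟨f', hf', e2⟩ := k (x.t * e)
    exact he (mul_left_cancel₀ (left_ne_zero_of_mul_eq_one e1) e2 ▸ hf')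
  · intro h
    by_contra hc
    have hc' : x.c ≠ 0 := hc
    refine h fun w hw => ⟨⟨-(w.b / x.c), 0, 0, 0, by simp, by simp⟩, ?_, ?_, ?_⟩
    · simp [hw.1]
    · simp only [Uf.mul_b, Uf.comm_b, Uf.inv_b, Uf.comm_t, hw.1]
      field_simp
      ring
    · simp [hw.2]

theorem zq_iff (hs : ∃ e : K, star e ≠ e) : x ∈ ZZ K ↔ x ∈ QQ K ∧ ∀ y ∈ QQ K, ⁅x, y⁆ = 1 := by
  refine ⟨fun h => ⟨h.2.2, fun y _ => (z_iff hs).1 h y⟩, fun ⟨h1, h⟩ => ⟨?_, tr_zero hs fun s => ?_, h1⟩⟩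
  · exact (v_iff hs).2 fun w hw => h w hw.2
  · have h3 := congrArg Uf.a (h ⟨s, 0, 0, 0, by simp, by simp⟩ rfl)
    simp only [Uf.comm_a, Uf.one_a, show x.c = 0 from h1, star_zero] at h3
    linear_combination -h3

omit [Finite K] in
theorem ev_iff (hs : ∃ e : K, star e ≠ e) [CharP K 2] (ht : t ≠ 0) (hx : x ∈ Et t) :
    x ∈ VV K ↔ ¬ ∀ w ∈ Et t, (∀ y ∈ Et t, ⁅w, y⁆ = 1) → ∃ y ∈ Et t, ⁅x, y⁆ = w := by
  have two : (2 : K) = 0 := CharP.cast_eq_zero K 2
  constructor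
  · intro hv h
    have h0 : x.t = 0 := hv
    obtain ⟨y, -, e1⟩ := h ⟨0, 1, 0, 0, by simp, by simp⟩ (by simp) fun y _ => (by
      rw [← commutatorElement_inv, comm_Z0 y ⟨rfl, rfl, rfl⟩, inv_one])
    obtain ⟨y', -, e2⟩ := h ⟨0, 0, t, 0, by simp, by simp⟩ (by simp) fun y hy => (by
      have hy' : y.t * star t = star y.t * t := hy
      refine Uf.eq_one.2 ⟨Uf.comm_t, ?_, by simp, Uf.comm_c⟩
      simp only [Uf.comm_a, star_zero]
      linear_combination hy' - y.t * star t * two)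
    have a1 := congrArg Uf.a e1
    have b1 := congrArg Uf.b e1
    have b2 := congrArg Uf.b e2
    simp only [Uf.comm_a, Uf.comm_b, h0, zero_mul, zero_sub, neg_eq_zero, mul_eq_zero, star_zero] at a1 b1 b2
    rcases b1 with k | k
    · simp [k] at a1
    · rw [k, mul_zero, neg_zero] at b2
      exact ht b2.symm
  · intro h
    by_contra hv
    have h0 : x.t ≠ 0 := hv
    have hx' : x.t * star t = star x.t * t := hx
    refine h fun w _ hw => ?_
    have h1 := congrArg Uf.b (hw ⟨0, 0, 0, 1, by simp, by simp⟩ (by simp))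
    have h2 := congrArg Uf.b (hw ⟨t, 0, 0, 0, by simp, by simp⟩ (mul_comm t (star t)))
    have h3 := congrArg Uf.a (hw ⟨t, 0, 0, 0, by simp, by simp⟩ (mul_comm t (star t)))
    simp only [Uf.comm_b, Uf.one_b, mul_zero, zero_sub, neg_eq_zero, mul_one, zero_mul, sub_zero, mul_eq_zero, ht,
      false_or] at h1 h2
    simp only [Uf.comm_a, Uf.one_a, h2, star_zero] at h3
    have s0 : star x.t ≠ 0 := star_ne_zero.2 h0
    have t0 : star t ≠ 0 := star_ne_zero.2 ht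
    have hf : star (w.b / x.t) = w.b / x.t := by
      rw [star_div₀, div_eq_div_iff s0 h0]
      refine mul_left_cancel₀ (mul_ne_zero ht t0) ?_
      linear_combination (t * star w.b) * hx' - (star x.t * t) * h3 - star x.t * t * star t * w.b * two
    obtain ⟨c, hc⟩ := U5F.exists_tr hs (k := w.a - x.t * star x.t * (w.b / x.t)) (by
      rw [star_sub, star_mul', star_mul', star_star, hf, w.ha, mul_comm (star x.t)])
    refine ⟨⟨0, 0, c / star x.t, w.b / x.t, by simp, hf⟩, by simp, ?_⟩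
    ext
    · rw [Uf.comm_t, h1]
    · simp only [Uf.comm_a, star_div₀, star_star, star_zero]
      rw [mul_div_cancel₀ _ h0, mul_div_cancel₀ _ s0]
      linear_combination hc
    · simp only [Uf.comm_b]
      rw [mul_div_cancel₀ _ h0]
      ring
    · rw [Uf.comm_c, h2]

theorem aZ (hs : ∃ e : K, star e ≠ e) (α : Uf K ≃* Uf K) {x : Uf K} : α x ∈ ZZ K ↔ x ∈ ZZ K := by
  rw [z_iff hs, z_iff hs, α.surjective.forall]
  simp only [← map_commutatorElement, MulEquiv.map_eq_one_iff]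

theorem aW (hs : ∃ e : K, star e ≠ e) (α : Uf K ≃* Uf K) {x : Uf K} : α x ∈ WW K ↔ x ∈ WW K := by
  rw [w_iff, w_iff, α.surjective.forall]
  simp only [← map_commutatorElement, aZ hs]

end Au

theorem aut_W (hs : ∃ e : K, star e ≠ e) (α : Uf K ≃* Uf K) : α x ∈ WW K ↔ x ∈ WW K := by
  exact Au.aW hs α

theorem aut_Z (hs : ∃ e : K, star e ≠ e) (α : Uf K ≃* Uf K) : α x ∈ ZZ K ↔ x ∈ ZZ K := by
  exact Au.aZ hs α

theorem aut_V (hs : ∃ e : K, star e ≠ e) (α : Uf K ≃* Uf K) : α x ∈ VV K ↔ x ∈ VV K := by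
  rw [Au.v_iff hs, Au.v_iff hs, α.surjective.forall]
  simp only [← map_commutatorElement, Au.aW hs, MulEquiv.map_eq_one_iff]

theorem aut_Q (hs : ∃ e : K, star e ≠ e) (α : Uf K ≃* Uf K) : α x ∈ QQ K ↔ x ∈ QQ K := by
  rw [Au.q_iff hs, Au.q_iff hs, α.surjective.forall]
  simp only [Au.aW hs]
  refine not_congr (forall₂_congr fun w _ => ?_)
  rw [α.surjective.exists]
  simp only [← map_commutatorElement, ← map_inv, ← map_mul, Au.aZ hs]

theorem exists_aut (i : Function.Injective ι) (hg : g ∈ nr ι ⊤) : ∃ α : Uf K ≃* Uf K, ∀ x, Cj ι g x (α x) := by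
  choose f _ e using fun x => nr_cj hg (mem_top x)
  let φ : Uf K →* Uf K := MonoidHom.mk' f fun a b => (e _).uniq i ((e a).mul (e b))
  have : Function.Injective φ := fun a b h => (e a).symm.uniq i (by rw [show f a = f b from h]; exact (e b).symm)
  exact ⟨MulEquiv.ofBijective φ (Finite.injective_iff_bijective.1 this), e⟩

theorem top_W (hs : ∃ e : K, star e ≠ e) (i : Function.Injective ι) : nr ι ⊤ ≤ nr ι (WW K) := by
  intro g hg
  obtain ⟨α, e⟩ := exists_aut i hg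
  exact mem_nr fun x hx => ⟨α x, (aut_W hs α).2 hx, e x⟩

theorem top_Z (hs : ∃ e : K, star e ≠ e) (i : Function.Injective ι) : nr ι ⊤ ≤ nr ι (ZZ K) := by
  intro g hg
  obtain ⟨α, e⟩ := exists_aut i hg
  exact mem_nr fun x hx => ⟨α x, (aut_Z hs α).2 hx, e x⟩

theorem top_V (hs : ∃ e : K, star e ≠ e) (i : Function.Injective ι) : nr ι ⊤ ≤ nr ι (VV K) := by
  intro g hg
  obtain ⟨α, e⟩ := exists_aut i hg
  exact mem_nr fun x hx => ⟨α x, (aut_V hs α).2 hx, e x⟩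

theorem top_Q (hs : ∃ e : K, star e ≠ e) (i : Function.Injective ι) : nr ι ⊤ ≤ nr ι (QQ K) := by
  intro g hg
  obtain ⟨α, e⟩ := exists_aut i hg
  exact mem_nr fun x hx => ⟨α x, (aut_Q hs α).2 hx, e x⟩

theorem Q_Z (hs : ∃ e : K, star e ≠ e) (i : Function.Injective ι) : nr ι (QQ K) ≤ nr ι (ZZ K) := by
  exact fun g hg => U5F.nr_cent i hg hg fun x => Au.zq_iff hs

theorem Et_V (hs : ∃ e : K, star e ≠ e) [CharP K 2] (i : Function.Injective ι) (ht : t ≠ 0) : nr ι (Et t) ≤ nr ι (VV K) := by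
  intro g hg
  have le : VV K ≤ Et t := fun x hx => by simp [show x.t = 0 from hx]
  refine mem_nr_of hg le fun x hx y hy e => (Au.ev_iff hs ht hy).2 fun h => (Au.ev_iff hs ht (le hx)).1 hx
    fun w hw hz => ?_
  obtain ⟨w', hw', e1⟩ := nr_cj hg hw
  obtain ⟨u', hu', k⟩ := h w' hw' fun v' hv' => by
    obtain ⟨v, hv, e2⟩ := nr_cj' hg hv'
    have := e1.comm e2
    rw [hz v hv] at this
    exact this.uniq i (by simp [Cj])
  obtain ⟨u, hu, e2⟩ := nr_cj' hg hu'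
  exact ⟨u, hu, (e.comm e2).symm.uniq i (k ▸ e1.symm)⟩

end U4F
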