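import Mathlib
import Cfsg.Agent.Base
import Cfsg.Agent.Lib.U4F.Ar

set_option autoImplicit false

namespace U4F

open Subgroup H93.SX
open H68 (SylowIn)
open U5F (qq)
open scoped commutatorElement

universe u v

variable {K : Type*} [Field K] [StarRing K] [Finite K]

theorem CA.exists_e (hs : ∃ e : K, star e ≠ e) : ∃ e : K, star e ≠ e ∧ e + star e = 1 := by
  obtain ⟨e, he⟩ := hs
  by_cases h0 : e + star e = 0
  · have h2 : (2 : K) ≠ 0 := fun h => he (by linear_combination h0 - e * h)
    refine ⟨e + 2⁻¹, fun h => he ?_, ?_⟩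
    · rw [star_add, star_inv₀, star_ofNat] at h
      exact add_right_cancel h
    · rw [star_add, star_inv₀, star_ofNat]
      field_simp
      linear_combination 2 * h0
  · have h1 : star (e + star e) = e + star e := by rw [star_add, star_star, add_comm]
    refine ⟨e / (e + star e), fun h => he ?_, ?_⟩
    · rw [star_div₀, h1, div_left_inj' h0] at h
      exact h
    · rw [star_div₀, h1, ← add_div, div_self h0]

theorem CA.decomp {e : K} (he : star e ≠ e) (t : K) : ∃ c d : K, star c = c ∧ star d = d ∧ t = c + e * d := by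
  have h0 : e - star e ≠ 0 := sub_ne_zero.2 he.symm
  have h1 : star e - e ≠ 0 := sub_ne_zero.2 he
  have hd : star ((t - star t) / (e - star e)) = (t - star t) / (e - star e) := by
    rw [star_div₀, star_sub, star_sub, star_star, star_star, div_eq_div_iff h1 h0]
    ring
  refine ⟨t - e * ((t - star t) / (e - star e)), _, ?_, hd, by ring⟩
  rw [star_sub, star_mul', hd]
  field_simp
  ring

theorem CA.semi (hs : ∃ e : K, star e ≠ e) (y : K ≃+ K) {e : K}
    (h : ∀ t ≠ 0, ∃ r, star r = r ∧ y (t * e) = r * y t) (b : K) : y (b * e) * y 1 = y e * y b := by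
  have hy : ∀ t, t ≠ 0 → y t ≠ 0 := fun t ht h0 => ht (y.map_eq_zero_iff.1 h0)
  have key : ∀ u v : K, u ≠ 0 → star (y v / y u) ≠ y v / y u → y (u * e) * y v = y (v * e) * y u := by
    intro u v hu hn
    have hv : v ≠ 0 := fun h0 => hn (by rw [h0, map_zero, zero_div, star_zero])
    have huv : u + v ≠ 0 := fun h0 => hn (by
      rw [(neg_eq_of_add_eq_zero_right h0).symm, map_neg, neg_div, div_self (hy u hu), star_neg, star_one])
    obtain ⟨r, hr, e1⟩ := h u hu
    obtain ⟨r', hr', e2⟩ := h v hv
    obtain ⟨r'', hr'', e3⟩ := h _ huv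
    rw [add_mul, map_add, map_add, e1, e2] at e3
    have e4 : (r - r'') = (r'' - r') * (y v / y u) := by
      field_simp [hy u hu]
      linear_combination e3
    have e5 : r'' - r' = 0 := by
      by_contra h0
      apply hn
      have e6 := congrArg star e4
      rw [star_sub, hr, hr'', star_mul', star_sub, hr', hr'', e4] at e6
      exact (mul_left_cancel₀ h0 e6).symm
    rw [e5, zero_mul] at e4
    rw [e1, e2, sub_eq_zero.1 e4, sub_eq_zero.1 e5]
    ring
  by_cases hb : b = 0
  · simp [hb]
  have h1 := hy 1 one_ne_zero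
  by_cases hn : star (y b / y 1) = y b / y 1
  · obtain ⟨θ, hθ⟩ := hs
    obtain ⟨v, hv⟩ := y.surjective (θ * y 1)
    have a1 := key 1 v one_ne_zero (by rwa [hv, mul_div_assoc, div_self h1, mul_one])
    have a2 := key b v hb (by
      have : y v / y b = θ / (y b / y 1) := by rw [hv]; field_simp
      rw [this, star_div₀, hn]
      intro h0
      exact hθ ((div_left_inj' (div_ne_zero (hy b hb) h1)).1 h0))
    have hv0 : y v ≠ 0 := by
      rw [hv]
      exact mul_ne_zero (fun h0 => hθ (by rw [h0, star_zero])) h1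
    rw [one_mul] at a1
    apply mul_right_cancel₀ hv0
    linear_combination y 1 * a2 - y b * a1
  · have a1 := key 1 b one_ne_zero hn
    rw [one_mul] at a1
    exact a1.symm

theorem CA.der {d : K → K} (h : ∀ e c, star e = e → star c = c → d (e * c) = e * d c + c * d e) {c : K}
    (hc : star c = c) : d c = 0 := by
  have key : ∀ n : ℕ, d (c ^ (n + 1)) = (n + 1 : ℕ) * c ^ n * d c := by
    intro n
    induction n with
    | zero => simp
    | succ n ih =>
      rw [pow_succ', h c _ hc (by rw [_root_.star_pow, hc]), ih]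
      push_cast
      ring
  have := Fintype.ofFinite K
  have h1 := key (Fintype.card K - 1)
  rw [Nat.sub_add_cancel Fintype.card_pos, FiniteField.pow_card, FiniteField.cast_card_eq_zero] at h1
  simpa using h1

theorem co_alg (hs : ∃ e : K, star e ≠ e) (y : K ≃+ K) (γ β lam : K →+ K) (s : K → K)
    (h1 : ∀ c, star c = c → star (γ c) = γ c) (h2 : ∀ c, star c = c → γ c = 0 → c = 0)
    (h3 : ∀ b, star (lam b) = lam b)
    (h : ∀ t ≠ 0, ∀ c, star c = c →
      y (t * c) = s t * γ (t * star (β c) + star t * β c + t * star t * c - lam (t * c))) :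
    (∀ c, star c = c → β c = β 1 * c) ∧ (∀ b, lam b = b * star (β 1) + star b * β 1) ∧
      (∀ e c, star e = e → star c = c → γ (e * c) * γ 1 = γ e * γ c) ∧
      ∀ e b, star e = e → y (e * b) * γ 1 = γ e * y b := by
  obtain ⟨e₀, he₀, te⟩ := CA.exists_e hs
  let q : K → K → K := fun t c => t * star (β c) + star t * β c + t * star t * c - lam (t * c)
  have hq : ∀ t c, star c = c → star (q t c) = q t c := fun t c hc => by
    simp only [q, star_sub, star_add, star_mul', star_star, hc, h3]
    ring
  have hy : ∀ t, t ≠ 0 → y t ≠ 0 := fun t ht h0 => ht (y.map_eq_zero_iff.1 h0)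
  have y1 := hy 1 one_ne_zero
  have ht1 : ∀ t ≠ 0, y t = s t * γ (q t 1) := fun t ht => by
    have : y (t * 1) = s t * γ (q t 1) := h t ht 1 (star_one _)
    rwa [mul_one] at this
  have hs0 : ∀ t ≠ 0, s t ≠ 0 := fun t ht h0 => hy t ht (by rw [ht1 t ht, h0, zero_mul])
  have hg0 : ∀ t ≠ 0, γ (q t 1) ≠ 0 := fun t ht h0 => hy t ht (by rw [ht1 t ht, h0, mul_zero])
  have sem : ∀ e, star e = e → ∀ b, y (b * e) * y 1 = y e * y b := fun e he b =>
    CA.semi hs y (fun t ht => ⟨γ (q t e) / γ (q t 1), by
      rw [star_div₀, h1 _ (hq t e he), h1 _ (hq t 1 (star_one _))], by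
      rw [h t ht e he, ht1 t ht]
      field_simp [hg0 t ht]
      rfl⟩) b
  have gq : ∀ t ≠ 0, ∀ c, star c = c → γ (q t c) * y 1 = y c * γ (q t 1) := fun t ht c hc => by
    have a := sem c hc t
    rw [h t ht c hc, ht1 t ht] at a
    apply mul_left_cancel₀ (hs0 t ht)
    linear_combination a
  have e0 : e₀ ≠ 0 := fun h0 => he₀ (by rw [h0, star_zero])
  have e1 : e₀ + 1 ≠ 0 := fun h0 => he₀ (by rw [eq_neg_of_add_eq_zero_left h0, star_neg, star_one])
  have pol : ∀ c, c = q (e₀ + 1) c - q e₀ c - q 1 c := fun c => by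
    simp only [q, star_add, star_one, add_mul, map_add]
    linear_combination (-c) * te
  have gy : ∀ c, star c = c → γ c * y 1 = y c * γ 1 := fun c hc => by
    have a := congrArg γ (pol c)
    have a' := congrArg γ (pol 1)
    rw [map_sub, map_sub] at a a'
    rw [a, a']
    linear_combination gq _ e1 c hc - gq _ e0 c hc - gq _ one_ne_zero c hc
  have g1 : γ 1 ≠ 0 := fun h0 => one_ne_zero (h2 1 (star_one _) h0)
  have r4 : ∀ e b, star e = e → y (e * b) * γ 1 = γ e * y b := fun e b he => by
    apply mul_right_cancel₀ y1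
    rw [mul_comm e b]
    linear_combination γ 1 * sem e he b - y b * gy e he
  have r3 : ∀ e c, star e = e → star c = c → γ (e * c) * γ 1 = γ e * γ c := fun e c he hc => by
    apply mul_right_cancel₀ y1
    linear_combination γ 1 * gy (e * c) (by rw [star_mul', he, hc]) + γ 1 * r4 e c he - γ e * gy c hc
  have ql : ∀ t c, star c = c → q t c = c * q t 1 := fun t c hc => by
    by_cases ht : t = 0
    · simp [q, ht]
    refine sub_eq_zero.1 (h2 _ (by rw [star_sub, star_mul', hq t c hc, hc, hq t 1 (star_one _)]) ?_)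
    rw [map_sub]
    apply mul_right_cancel₀ (mul_ne_zero g1 y1)
    linear_combination γ 1 * gq t ht c hc - y 1 * r3 c _ hc (hq t 1 (star_one _)) - γ (q t 1) * gy c hc
  have ll : ∀ t c, star c = c →
      lam (t * c) = c * lam t + (t * star (β c - c * β 1) + star t * (β c - c * β 1)) := fun t c hc => by
    have a := ql t c hc
    simp only [q, mul_one] at a
    rw [star_sub, star_mul', hc]
    linear_combination -a
  have r1 : ∀ c, star c = c → β c = β 1 * c := fun c hc => by
    have a := CA.der (d := fun c => β c - c * β 1) (fun e c he hc => by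
      refine sub_eq_zero.1 (tr_zero hs fun t => ?_)
      have b1 := ll t (e * c) (by rw [star_mul', he, hc])
      have b2 := ll (t * e) c hc
      have b3 := ll t e he
      rw [mul_assoc, b1, b3] at b2
      simp only [star_sub, star_add, star_mul', he, hc] at b2 ⊢
      linear_combination b2) hc
    linear_combination a
  have lf : ∀ t c, star c = c → lam (t * c) = c * lam t := fun t c hc => by
    rw [ll t c hc, r1 c hc, mul_comm (β 1) c, sub_self, star_zero]
    ring
  refine ⟨r1, ?_, r3, r4⟩
  let φ : K → K := fun t => t * star (β 1) + star t * β 1 - lam t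
  have φs : ∀ t, star (φ t) = φ t := fun t => by
    simp only [φ, star_sub, star_add, star_mul', star_star, h3]
    ring
  have d0 : star e₀ - e₀ ≠ 0 := sub_ne_zero.2 he₀
  have d1 : e₀ - star e₀ ≠ 0 := sub_ne_zero.2 he₀.symm
  obtain ⟨m, hm⟩ : ∃ m, ∀ t, φ t = t * star m + star t * m := by
    refine ⟨(φ e₀ - e₀ * φ 1) / (star e₀ - e₀), fun t => ?_⟩
    obtain ⟨c, d, hc, hd, rfl⟩ := CA.decomp he₀ t
    have a : φ (c + e₀ * d) = c * φ 1 + d * φ e₀ := by
      have l1 := lf 1 c hc
      rw [one_mul] at l1
      simp only [φ, map_add, star_add, star_mul', star_one, hc, hd, lf e₀ d hd, l1]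
      ring
    have b1 := φs e₀
    have b2 := φs 1
    rw [a]
    generalize φ e₀ = u at b1 ⊢
    generalize φ 1 = w at b2 ⊢
    simp only [star_div₀, star_sub, star_mul', star_star, star_add, hc, hd, b1, b2]
    field_simp
    ring
  obtain ⟨r, hr, hr1⟩ := U5F.exists_norm_one hs
  have m0 : m = 0 := by
    by_contra h0
    refine hg0 _ (mul_ne_zero (sub_ne_zero.2 hr1) h0) ?_
    have a : q ((r - 1) * m) 1 = φ ((r - 1) * m) + (r - 1) * m * star ((r - 1) * m) := by
      simp only [q, φ, mul_one]
      ring
    have b : q ((r - 1) * m) 1 = 0 := by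
      rw [a, hm, star_mul', star_sub, star_one]
      linear_combination (m * star m) * hr
    rw [b, map_zero]
  intro b
  have a := hm b
  simp only [φ, m0, star_zero, mul_zero, add_zero] at a
  linear_combination -a

end U4F
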