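import Mathlib
import Cfsg.Agent.Base
import Cfsg.Agent.Lib.U4F.Ar

set_option autoImplicit false

namespace U4F

open Subgroup H93.SX
open H68 (SylowIn)
open U5F (qq)
open scoped commutatorElement

universe u v

variable {K : Type*} [Field K] [StarRing K] [Finite K]

omit [Finite K] in
theorem CS.exT {c : K} (hc : star c = c) (d : K) :
    ∃ T : K →+ selfAdjoint K, ∀ s, (T s : K) = (s * star d + star s * d) * c :=
  ⟨AddMonoidHom.mk' (fun s => ⟨(s * star d + star s * d) * c, by
      rw [selfAdjoint.mem_iff]; simp only [star_mul', star_add, star_star, hc]; ring⟩)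
    fun a b => Subtype.ext (by simp only [AddSubgroup.coe_add, star_add]; ring), fun _ => rfl⟩

omit [Finite K] in
theorem CS.norm_eq [Fintype K] (hs : ∃ e : K, star e ≠ e) {A : Type*} [AddCommGroup A] [Finite A]
    (j : selfAdjoint K →+ A) (f : K → A) {c : K} (h0 : c ≠ 0) (hc : star c = c)
    (h : ∀ (s t : K) (k : selfAdjoint K), (k : K) = (s * star t + star s * t) * c →
      f (s + t) = f s + f t + j k) (ψ : AddChar A ℂ) {k : selfAdjoint K} (hk : ψ (j k) ≠ 1) :
    ‖∑ t, ψ (f t)‖ = qq K := by
  classical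
  choose T hT using CS.exT hc
  have f0 : f 0 = 0 := by simpa using h 0 0 0 (by simp)
  have h1 : ∀ d : K, ∑ s, ψ (j (T d s)) = if d = 0 then (Fintype.card K : ℂ) else 0 := fun d => by
    split_ifs with hd
    · have : ∀ s, T d s = 0 := fun s => Subtype.ext (by rw [hT, hd]; simp)
      simp [this]
    · refine (AddChar.sum_eq_zero_iff_ne_zero (ψ := ψ.compAddMonoidHom (j.comp (T d)))).2 fun h' => hk ?_
      obtain ⟨e, he⟩ := U5F.exists_tr hs (k := (k : K) / c) (by rw [star_div₀, hc, selfAdjoint.mem_iff.1 k.2])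
      have hd' : star d ≠ 0 := star_ne_zero.2 hd
      have : T d (e / star d) = k := Subtype.ext (by
        rw [hT, star_div₀, star_star, div_mul_cancel₀ _ hd', div_mul_cancel₀ _ hd, he, div_mul_cancel₀ _ h0])
      simpa [this] using DFunLike.congr_fun h' (e / star d)
  have h2 : (starRingEnd ℂ) (∑ t, ψ (f t)) * ∑ t, ψ (f t) = Fintype.card K := by
    rw [map_sum, Finset.sum_mul]
    have : ∀ s, (starRingEnd ℂ) (ψ (f s)) * ∑ t, ψ (f t) = ∑ d, ψ (f d) * ψ (j (T d s)) := fun s => by
      rw [← Equiv.sum_comp (Equiv.addLeft s), Finset.mul_sum]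
      refine Finset.sum_congr rfl fun d _ => ?_
      rw [Equiv.coe_addLeft, h s d _ (hT d s), ← AddChar.map_neg_eq_conj, ← AddChar.map_add_eq_mul,
        ← AddChar.map_add_eq_mul]
      congr 1; abel
    simp only [this]
    rw [Finset.sum_comm]
    simp only [← Finset.mul_sum, h1]
    simp [f0]
  rw [Complex.conj_mul', ← Nat.card_eq_fintype_card, U5F.card_K hs] at h2
  exact (pow_left_inj₀ (norm_nonneg _) (Nat.cast_nonneg _) two_ne_zero).1 (by exact_mod_cast h2)

theorem char_sum (hs : ∃ e : K, star e ≠ e) {A : Type*} [AddCommGroup A] [Finite A] (hA : Nat.card A = qq K)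
    (j : selfAdjoint K →+ A) (f : K → A) {c : K} (h0 : c ≠ 0) (hc : star c = c)
    (h : ∀ (s t : K) (k : selfAdjoint K), (k : K) = (s * star t + star s * t) * c →
      f (s + t) = f s + f t + j k) (r : selfAdjoint K) :
    Nat.card j.ker ≤ Nat.card {t : K // f t = j r} := by
  classical
  haveI := Fintype.ofFinite K
  haveI := Fintype.ofFinite A
  have hF : Fintype.card (selfAdjoint K) = qq K := Nat.card_eq_fintype_card.symm
  have hK : Fintype.card K = qq K ^ 2 := by rw [← Nat.card_eq_fintype_card, U5F.card_K hs]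
  rw [Nat.card_eq_fintype_card] at hA
  have key : ∀ ψ : AddChar A ℂ, (if ψ = 0 then (qq K : ℝ) ^ 2 else 0) + (∑ k, ψ (j k)).re ≤
      (∑ t, ψ (f t - j r)).re + qq K := fun ψ => by
    by_cases hj : ∀ k, ψ (j k) = 1
    · choose T hT using CS.exT hc
      have f0 : f 0 = 0 := by simpa using h 0 0 0 (by simp)
      let χ : AddChar K ℂ :=
        { toFun := fun t => ψ (f t), map_zero_eq_one' := by rw [f0, AddChar.map_zero_eq_one]
          map_add_eq_mul' := fun s t => by
            rw [h s t _ (hT t s), AddChar.map_add_eq_mul, AddChar.map_add_eq_mul, hj, mul_one] }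
      have e : ∑ t, ψ (f t - j r) = ∑ t, χ t := Finset.sum_congr rfl fun t _ => by
        rw [sub_eq_add_neg, ← map_neg, AddChar.map_add_eq_mul, hj, mul_one]; rfl
      have e2 : (∑ k, ψ (j k)).re = qq K := by simp [hj, hF]
      rw [e2, add_le_add_iff_right]
      split_ifs with h1
      · simp [h1, hK, sq]
      · rw [e, AddChar.sum_eq_ite]; split_ifs <;> simp
    · push Not at hj
      obtain ⟨k, hk⟩ := hj
      have e2 : ∑ k, ψ (j k) = 0 :=
        (AddChar.sum_eq_zero_iff_ne_zero (ψ := ψ.compAddMonoidHom j)).2 fun h' =>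
          hk (by simpa using DFunLike.congr_fun h' k)
      have e : ‖∑ t, ψ (f t - j r)‖ = qq K := by
        simp only [sub_eq_add_neg, AddChar.map_add_eq_mul, ← Finset.sum_mul]
        rw [norm_mul, AddChar.norm_apply, mul_one, CS.norm_eq hs j f h0 hc h ψ hk]
      rw [if_neg fun h' => hk (by simp [h']), e2, ← e]
      have := (abs_le.1 (Complex.abs_re_le_norm (∑ t, ψ (f t - j r)))).1
      simp only [Complex.zero_re]; linarith
  have h1 := Finset.sum_le_sum fun ψ (_ : ψ ∈ Finset.univ) => key ψ
  rw [Finset.sum_add_distrib, Finset.sum_add_distrib, ← Complex.re_sum, ← Complex.re_sum, Finset.sum_comm,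
    Finset.sum_comm (f := fun (ψ : AddChar A ℂ) t => ψ (f t - j r))] at h1
  simp only [AddChar.sum_apply_eq_ite, ← Finset.sum_filter, Finset.sum_const, sub_eq_zero, Finset.card_univ,
    AddChar.card_eq, hA, nsmul_eq_mul, Finset.filter_eq', Finset.mem_univ, if_true, Finset.card_singleton,
    ← Nat.cast_mul, Complex.natCast_re] at h1
  have q0 : 0 < qq K := lt_trans one_pos U5F.one_lt_qq
  rw [Nat.card_eq_fintype_card, Nat.card_eq_fintype_card, Fintype.card_subtype, Fintype.card_subtype]
  refine Nat.le_of_mul_le_mul_right ?_ q0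
  simp only [AddMonoidHom.mem_ker]
  have h2 := h1
  push_cast at h2
  exact_mod_cast (by nlinarith [h2] : ((Finset.univ.filter fun k => j k = 0).card : ℝ) * qq K ≤
    ((Finset.univ.filter fun t => f t = j r).card : ℝ) * qq K)

end U4F
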