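import Mathlib
import Cfsg.Agent.Base
import Cfsg.Agent.Lib.U4F.Ar

set_option autoImplicit false

namespace U4F

open Subgroup H93.SX
open H68 (SylowIn)
open U5F (qq)
open scoped commutatorElement

universe u v

variable {K G : Type*} [Field K] [StarRing K] [Finite K] [Group G] [Finite G]
  [DistribMulAction G (Hm K)] [FaithfulSMul G (Hm K)] {p : ℕ} [Fact p.Prime] [CharP K p]
  {H U : Subgroup G} {g h : G} {z : Hm K}

namespace Ti

theorem sh_a (t : K) (v : Hm K) :
    (sh t v).a = v.a + t * star v.b + star t * v.b + t * star t * v.c := rfl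
theorem sh_b (t : K) (v : Hm K) : (sh t v).b = v.b + t * v.c := rfl
theorem sh_c (t : K) (v : Hm K) : (sh t v).c = v.c := rfl

theorem eq_of_act {u u' : G} {t : K} (h : ∀ v : Hm K, u • v = sh t v) (h' : ∀ v : Hm K, u' • v = sh t v) :
    u = u' := FaithfulSMul.eq_of_smul_eq_smul (α := Hm K) fun v => by rw [h, h']

theorem ne_zero {u : G} {t : K} (h : ∀ v : Hm K, u • v = sh t v) (h1 : u ≠ 1) : t ≠ 0 := by
  rintro rfl
  refine h1 (eq_of_act h fun v => ?_)
  rw [one_smul]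
  ext <;> simp [sh_a, sh_b, sh_c]

theorem cj_sub (g u : G) (v : Hm K) : g • (u • v - v) = (g * u * g⁻¹) • g • v - g • v := by
  rw [smul_sub, mul_smul, mul_smul, inv_smul_smul]

/-- the commutator space of `u` -/
def Yr (K : Type*) [Field K] [StarRing K] [DistribMulAction G (Hm K)] (u : G) : AddSubgroup (Hm K) :=
  (DistribSMul.toAddMonoidHom (Hm K) u - AddMonoidHom.id (Hm K)).range

theorem mem_Yr {u : G} {y : Hm K} : y ∈ Yr K u ↔ ∃ x, u • x - x = y := Iff.rfl

/-- an element commuting with `u` and acting trivially on `M > [M, u] > 0` lies in `U` -/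
theorem mem_U (o : OV K p H U) (hc : ∀ x ∈ U, ∀ y ∈ U, x * y = y * x) {u : G} (hu : u ∈ U) (hh : h ∈ H)
    (c : u * h = h * u) (hs : h ∈ st G ⊥ (Yr K u)) : h ∈ U := by
  have hU : U ≤ H ⊓ centralizer {u} := le_inf o.syl.le fun x hx =>
    mem_centralizer_singleton_iff.2 (hc x hx u hu)
  refine (o.syl.mono hU inf_le_left).le_of_le_normalizer
    (Q := (H ⊓ centralizer {u}) ⊓ st G ⊥ (Yr K u)) ((pg_st (hM_Hm p)).to_inf_right) inf_le_left
    (fun x hx => H90.mem_normalizer_of_conj_mem fun y hy => ⟨?_, ?_⟩)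
    ⟨⟨hh, mem_centralizer_singleton_iff.2 c.symm⟩, hs⟩
  · exact (H ⊓ centralizer {u}).mul_mem ((H ⊓ centralizer {u}).mul_mem (hU hx) hy.1)
      ((H ⊓ centralizer {u}).inv_mem (hU hx))
  · refine conj_mem_st (mem_sb fun v hv => ?_) (mem_sb fun v hv => ?_) hy.2
    · rw [AddSubgroup.mem_bot.1 hv, smul_zero]; exact zero_mem _
    · obtain ⟨w, rfl⟩ := mem_Yr.1 hv
      exact mem_Yr.2 ⟨x • w, by rw [cj_sub, hc x hx u hu, mul_inv_cancel_right]⟩

theorem two_zero (h2 : p = 2) : (2 : K) = 0 := by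
  subst h2
  exact_mod_cast CharP.cast_eq_zero K 2

/-- conjugating the shears on the line through `t₀` -/
theorem line (hs : ∃ e : K, star e ≠ e) (o : OV K p H U) (hc : ∀ x ∈ U, ∀ y ∈ U, x * y = y * x)
    (h2 : (2 : K) = 0) (hg : g ∈ H) {u : G} (hu : u ∈ U) (hu' : g * u * g⁻¹ ∈ U) {t s f : K}
    (ht : ∀ v : Hm K, u • v = sh t v) (hs' : ∀ v : Hm K, (g * u * g⁻¹) • v = sh s v) (s0 : s ≠ 0)
    (hf : star f = f) (hh : h ∈ U) (ha : ∀ v : Hm K, h • v = sh (f * t) v) :
    ∃ k : K, star k = k ∧ ∀ v : Hm K, (g * h * g⁻¹) • v = sh (k * s) v := by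
  obtain ⟨ε, hε⟩ := U5F.exists_one hs
  have fx : ∀ y ∈ Yr K (g * u * g⁻¹), (g * h * g⁻¹) • y = y := by
    intro y hy
    obtain ⟨x, rfl⟩ := mem_Yr.1 hy
    have e1 : h • (u • g⁻¹ • x - g⁻¹ • x) = u • g⁻¹ • x - g⁻¹ • x := by
      rw [ha, ht]
      ext
      · simp only [sh_a, sh_b, sh_c, Hm.sub_a, Hm.sub_b, Hm.sub_c, star_sub, star_add, star_mul', hf, Hm.sc]
        linear_combination (f * t * star t * (g⁻¹ • x).c) * h2
      · simp only [sh_b, sh_c, Hm.sub_b, Hm.sub_c]; ring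
      · rfl
    have e2 := cj_sub g u (g⁻¹ • x)
    rw [smul_inv_smul] at e2
    rw [← e2, mul_smul, mul_smul, inv_smul_smul, e1]
  have hm : g * h * g⁻¹ ∈ U := by
    refine mem_U o hc hu' (mul_mem (mul_mem hg (o.syl.le hh)) (inv_mem hg)) ?_
      (mem_st.2 ⟨fun x => ?_, fun y hy => ?_, fun y hy => ?_⟩)
    · calc g * u * g⁻¹ * (g * h * g⁻¹) = g * (u * h) * g⁻¹ := by group
        _ = g * h * g⁻¹ * (g * u * g⁻¹) := by rw [hc u hu h hh]; group
    · have e2 := cj_sub g h (g⁻¹ • x)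
      rw [smul_inv_smul] at e2
      generalize g⁻¹ • x = w at e2
      refine mem_Yr.2 ⟨g • (⟨0, f * w.b + t * (f ^ 2 - f) * w.c * ε, f * w.c, star_zero _,
        by rw [star_mul', hf, w.hc]⟩ : Hm K), ?_⟩
      rw [← cj_sub, ← e2, ha, ht]
      congr 1
      ext
      · simp only [sh_a, Hm.sub_a, star_sub, star_add, star_mul', _root_.star_pow, hf, Hm.sc]
        linear_combination (t * star t * (f ^ 2 - f) * w.c) * hε
      · simp only [sh_b, Hm.sub_b]; ring
      · simp only [sh_c, Hm.sub_c]; ring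
    · rw [fx y hy, sub_self]; exact zero_mem _
    · rw [AddSubgroup.mem_bot.1 hy, smul_zero]
  obtain ⟨r, hr⟩ := o.act _ hm
  have e3 := congrArg Hm.a (fx _ (mem_Yr.2 ⟨⟨0, 0, 1, star_zero _, star_one _⟩, rfl⟩))
  rw [hr, hs'] at e3
  simp only [sh_a, sh_b, sh_c, Hm.sub_a, Hm.sub_b, Hm.sub_c, star_sub, star_add, star_mul', star_zero,
    star_one] at e3
  have s0' : star s ≠ 0 := star_ne_zero.2 s0
  refine ⟨r / s, ?_, fun v => by rw [hr, div_mul_cancel₀ _ s0]⟩
  rw [star_div₀, div_eq_div_iff s0' s0]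
  linear_combination e3 - (r * star s) * h2

end Ti

open Ti

theorem OV.le (o : OV K p H U) : U ≤ st G (hZ K) (hW K) := by
  intro g hg
  obtain ⟨t, ht⟩ := o.act g hg
  refine mem_st.2 ⟨fun x => ?_, fun x hx => ?_, fun x hx => ?_⟩
  · simp [ht, sh_c]
  · have := mem_hW.1 hx
    simp [ht, sh_b, sh_c, this]
  · obtain ⟨h1, h2⟩ := mem_hZ.1 hx
    rw [ht]
    ext <;> simp [sh_a, sh_b, sh_c, h1, h2]

theorem OV.comm (o : OV K p H U) : ∀ x ∈ U, ∀ y ∈ U, x * y = y * x := by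
  intro x hx y hy
  obtain ⟨t, ht⟩ := o.act x hx
  obtain ⟨s, hs⟩ := o.act y hy
  refine FaithfulSMul.eq_of_smul_eq_smul (α := Hm K) fun v => ?_
  rw [mul_smul, mul_smul, ht, hs, hs, ht]
  ext
  · simp only [sh_a, sh_b, sh_c, star_add, star_mul', Hm.sc]; ring
  · simp only [sh_b, sh_c]; ring
  · rfl

theorem OV.nsb (hs : ∃ e : K, star e ≠ e) (o : OV K p H U) (hn : ∀ x, x ∈ U ↔ g * x * g⁻¹ ∈ U) : g ∈ sb G (hZ K) ⊓ sb G (hW K) := by
  have key : ∀ u ∈ U, ∀ v : Hm K, ∃ u' ∈ U, u • g • v - g • v = g • (u' • v - v) := by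
    intro u hu v
    have e : g * (g⁻¹ * u * g) * g⁻¹ = u := by group
    exact ⟨g⁻¹ * u * g, (hn _).2 (e.symm ▸ hu), by rw [cj_sub, e]⟩
  have hZ' : g ∈ sb G (hZ K) := by
    refine mem_sb fun x hx => ?_
    have h1 : ∀ t : K, sh t (g • x) = g • x := fun t => by
      obtain ⟨u, hu, ht⟩ := o.ex t
      obtain ⟨u', hu', e⟩ := key u hu x
      rw [(mem_st.1 (o.le hu')).2.2 x hx, sub_self, smul_zero, ht] at e
      exact sub_eq_zero.1 e
    have h2 : (g • x).c = 0 := by simpa [sh_b] using congrArg Hm.b (h1 1)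
    refine ⟨tr_zero hs fun t => ?_, h2⟩
    have := congrArg Hm.a (h1 t)
    rw [sh_a, h2] at this
    linear_combination this
  refine ⟨hZ', mem_sb fun x hx => ?_⟩
  obtain ⟨u, hu, ht⟩ := o.ex 1
  obtain ⟨u', hu', e⟩ := key u hu x
  have h1 := sb_mem hZ' ((mem_st.1 (o.le hu')).2.1 x hx)
  rw [← e, ht] at h1
  simpa [sh_b] using h1.1

theorem OV.ti_odd (hs : ∃ e : K, star e ≠ e) (o : OV K p H U) (h2 : p ≠ 2) : TI K H U := by
  intro g hg u hu u1 hu'
  have two : (2 : K) ≠ 0 := fun h => h2 ((Nat.prime_dvd_prime_iff_eq Fact.out Nat.prime_two).1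
    ((CharP.cast_eq_zero_iff K p 2).1 (by exact_mod_cast h)))
  obtain ⟨t, ht⟩ := o.act u hu
  obtain ⟨s, hs'⟩ := o.act _ hu'
  have t0 := ne_zero ht u1
  have s0 := ne_zero hs' (fun h => u1 (by simpa using h))
  have t0' : star t ≠ 0 := star_ne_zero.2 t0
  have hZ' : g ∈ sb G (hZ K) := by
    refine mem_sb fun x hx => ?_
    obtain ⟨h1, h3⟩ := mem_hZ.1 hx
    let v : Hm K := ⟨0, 0, x.a / (2 * t * star t), star_zero _, by
      rw [star_div₀, x.ha, star_mul', star_mul', star_star, star_ofNat]; ring⟩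
    have e : x = u • (u • v - v) - (u • v - v) := by
      rw [ht, ht]
      ext
      · simp only [sh_a, sh_b, sh_c, Hm.sub_a, Hm.sub_b, Hm.sub_c, star_sub, star_add, star_mul', Hm.sc]
        simp only [v]
        field_simp
        ring
      · simp [sh_b, sh_c, h1]
      · simp [sh_c, h3]
    rw [e, cj_sub, cj_sub]
    exact (mem_st.1 (o.le hu')).2.1 _ ((mem_st.1 (o.le hu')).1 _)
  refine ⟨hZ', mem_sb fun x hx => ?_⟩
  have h1 := sb_mem hZ' ((mem_st.1 (o.le hu)).2.1 x hx)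
  rw [cj_sub, hs'] at h1
  simpa [sh_b, s0] using h1.1

theorem OV.ti_even (hs : ∃ e : K, star e ≠ e) (o : OV K p H U) (h2 : p = 2) (h3 : ∃ e : K, star e = e ∧ e ≠ 0 ∧ e ^ 2 ≠ 1) :
    TI K H U := by
  intro g hg u hu u1 hu'
  have two : (2 : K) = 0 := two_zero h2
  obtain ⟨e, he, e0, e1⟩ := h3
  obtain ⟨ε, hε⟩ := U5F.exists_one hs
  obtain ⟨t, ht⟩ := o.act u hu
  obtain ⟨s, hs'⟩ := o.act _ hu'
  have t0 := ne_zero ht u1
  have s0 := ne_zero hs' (fun h => u1 (by simpa using h))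
  have t0' : star t ≠ 0 := star_ne_zero.2 t0
  have s0' : star s ≠ 0 := star_ne_zero.2 s0
  obtain ⟨a, ha, hat⟩ := o.ex (e * t)
  obtain ⟨b, hb, hbt⟩ := o.ex (e * e * t)
  obtain ⟨f, hf, haf⟩ := line hs o o.comm two hg hu hu' ht hs' s0 he ha hat
  obtain ⟨k, hk, hbk⟩ := line hs o o.comm two hg hu hu' ht hs' s0 (f := e * e)
    (by rw [star_mul', he]) hb hbt
  have f0 : f ≠ 0 := by
    rintro rfl
    have h1 : g * a * g⁻¹ = 1 := by
      by_contra h1
      exact ne_zero haf h1 (zero_mul _)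
    have h4 : a = 1 := by simpa using h1
    have := congrArg Hm.b (hat ⟨0, 0, 1, star_zero _, star_one _⟩)
    rw [h4, one_smul, sh_b] at this
    exact mul_ne_zero e0 t0 (by simpa using this.symm)
  have f1 : f - 1 ≠ 0 := by
    intro h1
    rw [sub_eq_zero.1 h1, one_mul] at haf
    have h4 : a = u := by simpa using eq_of_act haf hs'
    have := congrArg Hm.b (hat ⟨0, 0, 1, star_zero _, star_one _⟩)
    rw [h4, ht, sh_b, sh_b] at this
    have h5 : e = 1 := mul_right_cancel₀ t0 (by simpa using this.symm)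
    exact e1 (by rw [h5, one_pow])
  have hW' : g ∈ sb G (hW K) := by
    refine mem_sb fun v hv => ?_
    have hv' := mem_hW.1 hv
    let x : Hm K := ⟨e * v.a, e * v.b, 0, by rw [star_mul', he, v.ha], star_zero _⟩
    have a1 : u • x - x = a • v - v := by
      rw [ht, hat]
      ext
      · simp only [x, sh_a, Hm.sub_a, star_mul', he, hv']; ring
      · simp only [x, sh_b, Hm.sub_b, hv']; ring
      · simp only [x, sh_c, Hm.sub_c, hv']
    have a2 : a • x - x = b • v - v := by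
      rw [hat, hbt]
      ext
      · simp only [x, sh_a, Hm.sub_a, star_mul', he, hv']; ring
      · simp only [x, sh_b, Hm.sub_b, hv']; ring
      · simp only [x, sh_c, Hm.sub_c, hv']
    have b1 := congrArg (g • ·) a1
    have b2 := congrArg (g • ·) a2
    simp only [cj_sub, hs', haf, hbk] at b1 b2
    generalize g • x = X at b1 b2
    generalize g • v = V at b1 b2
    rw [mem_hW]
    by_contra c0
    have c1 := congrArg Hm.b b1
    have c2 := congrArg Hm.b b2
    have d1 := congrArg Hm.a b1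
    have d2 := congrArg Hm.a b2
    simp only [sh_a, sh_b, Hm.sub_a, Hm.sub_b, star_mul', hf, hk] at c1 c2 d1 d2
    have c3 : X.c = f * V.c := mul_left_cancel₀ s0 (by linear_combination c1)
    have c4 : k = f * f := mul_right_cancel₀ (mul_ne_zero s0 c0) (by
      rw [c3] at c2; linear_combination -c2)
    rw [c3] at d1 d2
    rw [c4] at d2
    refine mul_ne_zero (mul_ne_zero (mul_ne_zero (mul_ne_zero (pow_ne_zero 2 f0) (pow_ne_zero 2 f1))
      s0) s0') c0 ?_
    linear_combination f * d1 - d2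
  refine ⟨mem_sb fun x hx => ?_, hW'⟩
  obtain ⟨h1, h4⟩ := mem_hZ.1 hx
  let w : Hm K := ⟨0, x.a * ε / star t, 0, star_zero _, star_zero _⟩
  have e2 : x = u • w - w := by
    rw [ht]
    ext
    · simp only [w, sh_a, Hm.sub_a, star_div₀, star_mul', star_star, Hm.sa]
      field_simp
      linear_combination (-x.a) * hε
    · simp [w, sh_b, h1]
    · simp [w, sh_c, h4]
  rw [e2, cj_sub]
  exact (mem_st.1 (o.le hu')).2.1 _ (sb_mem hW' (mem_hW.2 rfl))

end U4F
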