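import Mathlib
import Cfsg.Agent.Base
import Cfsg.Agent.Lib.U4F.Ti
import Cfsg.Agent.Lib.U4F.CS

set_option autoImplicit false

namespace U4F

open Subgroup H93.SX
open H68 (SylowIn)
open U5F (qq)
open scoped commutatorElement

universe u v

variable {K G : Type*} [Field K] [StarRing K] [Finite K] [Group G] [Finite G]
  [DistribMulAction G (Hm K)] [FaithfulSMul G (Hm K)] {p : ℕ} [Fact p.Prime] [CharP K p]
  {H U : Subgroup G} {g h : G} {z : Hm K}

namespace Orb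

omit [Finite G] [FaithfulSMul G (Hm K)] in
theorem idxW (hs : ∃ e : K, star e ≠ e) : (hW K).index = qq K := by
  have h := AddSubgroup.card_mul_index (hW K)
  rw [card_hW hs, card_Hm hs, pow_succ (qq K) 3] at h
  exact Nat.eq_of_mul_eq_mul_left (pow_pos (zero_lt_one.trans U5F.one_lt_qq) 3) h

omit [Finite G] [FaithfulSMul G (Hm K)] in
theorem idxZ (hs : ∃ e : K, star e ≠ e) : (hZ K).index = qq K ^ 3 := by
  have h := AddSubgroup.card_mul_index (hZ K)
  rw [card_hZ, card_Hm hs, pow_succ' (qq K) 3] at h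
  exact Nat.eq_of_mul_eq_mul_left (zero_lt_one.trans U5F.one_lt_qq) h

/-- the preimage of `hW` -/
def Yg (g : G) : AddSubgroup (Hm K) := (hW K).comap (DistribSMul.toAddMonoidHom (Hm K) g)

omit [Finite G] [FaithfulSMul G (Hm K)] [Finite K] in
theorem mem_Yg {v : Hm K} : v ∈ Yg g ↔ g • v ∈ hW K := Iff.rfl

omit [Finite G] [FaithfulSMul G (Hm K)] in
theorem idxY (hs : ∃ e : K, star e ≠ e) (g : G) : (Yg g : AddSubgroup (Hm K)).index = qq K := by
  rw [Yg, AddSubgroup.index_comap_of_surjective _ fun x => ⟨g⁻¹ • x, smul_inv_smul g x⟩, idxW hs]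

/-- the centre -/
def zz : selfAdjoint K →+ Hm K :=
  AddMonoidHom.mk' (fun k => ⟨k, 0, 0, k.2, star_zero K⟩) fun a b => by ext <;> simp

omit [Finite K] in
theorem zz_mem (k : selfAdjoint K) : zz k ∈ hZ K := ⟨rfl, rfl⟩

omit [Finite K] in
theorem zz_inj {k : selfAdjoint K} (h : zz k = 0) : k = 0 := Subtype.ext (congrArg Hm.a h)

omit [Finite K] in
theorem exists_zz (h : z ∈ hZ K) : ∃ k, zz k = z :=
  ⟨⟨z.a, z.ha⟩, Hm.ext rfl h.1.symm h.2.symm⟩

/-- the map from the centre to the quotient -/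
def jj (g : G) : selfAdjoint K →+ Hm K ⧸ (Yg g : AddSubgroup (Hm K)) :=
  (QuotientAddGroup.mk' (Yg g)).comp zz

omit [Finite G] [FaithfulSMul G (Hm K)] [Finite K] in
theorem jj_eq_zero {k : selfAdjoint K} : jj g k = 0 ↔ g • zz k ∈ hW K :=
  QuotientAddGroup.eq_zero_iff _

omit [Finite G] [FaithfulSMul G (Hm K)] in
theorem cs (hs : ∃ e : K, star e ≠ e) (g : G) {v : Hm K} (hv : v ∉ hW K) (r : selfAdjoint K) :
    Nat.card (jj (K := K) g).ker ≤
      Nat.card {t : K // (QuotientAddGroup.mk' (Yg g)) (sh t v - v) = jj g r} := by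
  refine char_sum hs (idxY hs g) (jj g) (fun t => (QuotientAddGroup.mk' (Yg g)) (sh t v - v)) hv v.hc
    (fun s t k hk => ?_) r
  have e : sh (s + t) v - v = (sh s v - v) + (sh t v - v) + zz k := by
    ext
    · simp only [sh, Hm.sub_a, Hm.add_a, star_add]
      show _ = _ + (k : K)
      rw [hk]; ring
    · simp only [sh, Hm.sub_b, Hm.add_b]
      show _ = _ + (0 : K)
      ring
    · simp only [sh, Hm.sub_c, Hm.add_c]
      show _ = _ + (0 : K)
      ring
  simp only [e, map_add]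
  rfl

end Orb

open Orb

theorem OV.zw (hs : ∃ e : K, star e ≠ e) (o : OV K p H U) (hg : g ∈ H) (h : g ∈ sb G (hZ K)) : g ∈ sb G (hW K) := by
  by_contra hn
  have hsb := o.le.trans (st_le_sb fun _ h => h.2)
  have h1 := ti (hM_Hm p) (o.syl.mono (le_inf o.syl.le (hsb.trans inf_le_left)) inf_le_left) o.le
    (fun _ h => h.2) inf_le_right (fun x hx y hy => by
      obtain ⟨u, hu, e⟩ := o.ex (y.b / x.c)
      refine ⟨u, hu, ?_⟩
      have hx' : x.c ≠ 0 := hx
      have hy' : y.c = 0 := hy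
      rw [e]
      constructor
      · simp only [sh, Hm.sub_b]
        field_simp
        ring
      · simp [sh, hy']) (⟨hg, h⟩ : g ∈ H ⊓ sb G (hZ K)) hn
  have h2 : (dd g (hW K)).index ≤ qq K * qq K := by
    have := AddSubgroup.index_inf_le (H := hW K) (K := Yg g)
    rwa [idxW hs, idxY hs] at this
  have h3 := Nat.le_of_dvd (Nat.pos_of_ne_zero AddSubgroup.index_ne_zero_of_finite)
    (AddSubgroup.index_dvd_of_le h1)
  rw [idxZ hs] at h3
  have h4 := U5F.one_lt_qq (K := K)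
  have h5 : qq K ^ 2 < qq K ^ 3 := Nat.pow_lt_pow_right h4 (by norm_num)
  rw [pow_two] at h5
  omega

theorem OV.zc (hs : ∃ e : K, star e ≠ e) (o : OV K p H U) (t : TI K H U) (hg : g ∈ H) (hz : z ∈ hZ K) (h : g • z ∈ hW K) :
    g • z ∈ hZ K := by
  by_cases hb : (g • z).b = 0
  · exact ⟨hb, h⟩
  obtain ⟨s, s0, hs'⟩ := U5F.exists_skew hs
  obtain ⟨u, hu, e⟩ := o.ex (s * (g • z).b)
  have hc : (g • z).c = 0 := h
  have fx : u • g • z = g • z := by
    rw [e]
    ext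
    · simp only [sh, hc, star_mul']
      linear_combination (star (g • z).b * (g • z).b) * hs'
    · simp [sh, hc]
    · rfl
  have u1 : u ≠ 1 := by
    rintro rfl
    have := congrArg Hm.b (e ⟨0, 0, 1, star_zero K, star_one K⟩)
    simp [sh, s0, hb] at this
  have hS : SylowIn p (H68.cj g U) (H ⊓ MulAction.stabilizer G (g • z)) :=
    (o.syl.cj_of_mem hg).mono (le_inf (o.syl.cj_of_mem hg).le fun x hx => by
      have := (o.le (H68.mem_cj.1 hx)).2.2 z hz
      rw [mul_smul, mul_smul, inv_smul_eq_iff] at this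
      exact this) inf_le_left
  obtain ⟨c, hc', hle⟩ := hS.exists_le_cj (o.syl.isPGroup.to_le (zpowers_le.2 hu))
    (zpowers_le.2 ⟨o.syl.le hu, fx⟩)
  have hm := hle (mem_zpowers u)
  rw [← H68.cj_mul, H68.mem_cj] at hm
  have h1 := t (c * g) (mul_mem hc'.1 hg) _ hm (fun e => u1 (by
    have : u = (c * g) * ((c * g)⁻¹ * u * (c * g)) * (c * g)⁻¹ := by group
    rw [this, e, mul_one, mul_inv_cancel])) (by convert hu using 1; group)
  have h2 := sb_mem h1.1 hz
  rwa [mul_smul, show c • g • z = g • z from hc'.2] at h2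

theorem OV.pt (hs : ∃ e : K, star e ≠ e) (o : OV K p H U) (t : TI K H U) (hg : g ∈ H) (hz : z ∈ hZ K) (h0 : z ≠ 0)
    (h : g • z ∈ hW K) : g ∈ sb G (hZ K) := by
  by_contra hn
  obtain ⟨z', hz', hv⟩ := exists_of_not_sb hn
  have hv' : g • z' ∉ hW K := fun e => hv (o.zc hs t hg hz' e)
  obtain ⟨k, hk⟩ := exists_zz (o.zc hs t hg hz h)
  have k0 : k ≠ 0 := by
    rintro rfl
    rw [map_zero, eq_comm, smul_eq_zero_iff_eq] at hk
    exact h0 hk
  have k1 : k ∈ (jj (K := K) g⁻¹).ker := by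
    rw [AddMonoidHom.mem_ker, jj_eq_zero, hk, inv_smul_smul]
    exact hz.2
  have h1 : 1 < Nat.card (jj (K := K) g⁻¹).ker :=
    Finite.one_lt_card_iff_nontrivial.2 ⟨⟨k, k1⟩, 0, fun e => k0 (congrArg Subtype.val e)⟩
  have h2 := Finite.one_lt_card_iff_nontrivial.1 (h1.trans_le (cs hs g⁻¹ hv' 0))
  obtain ⟨s, s0, e⟩ : ∃ s : K, s ≠ 0 ∧
      (QuotientAddGroup.mk' (Yg g⁻¹)) (sh s (g • z') - g • z') = jj g⁻¹ 0 := by
    obtain ⟨a, b, ab⟩ := h2
    by_cases ha : a.1 = 0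
    · exact ⟨b.1, fun e => ab (Subtype.ext (ha.trans e.symm)), b.2⟩
    · exact ⟨a.1, ha, a.2⟩
  rw [map_zero] at e
  have e1 : g⁻¹ • (sh s (g • z') - g • z') ∈ hW K :=
    mem_Yg.1 ((QuotientAddGroup.eq_zero_iff _).1 e)
  obtain ⟨u, hu, eu⟩ := o.ex s
  rw [← eu, smul_sub, inv_smul_smul] at e1
  have e2 : (g⁻¹ * u * g) • z' ∈ hW K := by
    simpa only [mul_smul, sub_add_cancel] using add_mem e1 (show z' ∈ hW K from hz'.2)
  have e3 := o.zc hs t (mul_mem (mul_mem (inv_mem hg) (o.syl.le hu)) hg) hz' e2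
  have e4 : g • ((g⁻¹ * u * g) • z' - z') = sh s (g • z') - g • z' := by
    rw [smul_sub, mul_smul, mul_smul, smul_inv_smul, eu]
  have e5 := o.zc hs t hg (sub_mem e3 hz') (by rw [e4]; simp [sh])
  rw [e4] at e5
  have e6 := e5.1
  simp only [sh, Hm.sub_b, add_sub_cancel_left, mul_eq_zero, s0, false_or] at e6
  exact hv' e6

theorem OV.one (hs : ∃ e : K, star e ≠ e) (o : OV K p H U) (t : TI K H U) (hg : g ∈ H) (hh : h ∈ H) (h1 : g ∉ sb G (hZ K))
    (h2 : h ∉ sb G (hZ K)) : ∃ u ∈ U, g⁻¹ * u * h ∈ sb G (hZ K) := by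
  have inj : Function.Injective (jj (K := K) g⁻¹) := (injective_iff_map_eq_zero _).2 fun k hk => by
    by_contra k0
    exact h1 (by
      simpa using inv_mem (o.pt hs t (inv_mem hg) (zz_mem k) (fun e => k0 (zz_inj e)) (jj_eq_zero.1 hk)))
  have bij : Function.Bijective (jj (K := K) g⁻¹) :=
    (Nat.bijective_iff_injective_and_card _).2 ⟨inj, (idxY hs g⁻¹).symm⟩
  have z0 : zz (1 : selfAdjoint K) ≠ 0 := fun e => one_ne_zero (zz_inj e)
  have hv : h • zz (1 : selfAdjoint K) ∉ hW K := fun e => h2 (o.pt hs t hh (zz_mem 1) z0 e)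
  obtain ⟨r, hr⟩ := bij.2 (-(QuotientAddGroup.mk' (Yg g⁻¹)) (h • zz (1 : selfAdjoint K)))
  have h3 := (Nat.card_pos (α := (jj (K := K) g⁻¹).ker)).trans_le (cs hs g⁻¹ hv r)
  obtain ⟨⟨s, e⟩⟩ := (Nat.card_pos_iff.1 h3).1
  rw [hr, map_sub, sub_eq_neg_self] at e
  have e1 : g⁻¹ • sh s (h • zz (1 : selfAdjoint K)) ∈ hW K :=
    mem_Yg.1 ((QuotientAddGroup.eq_zero_iff _).1 e)
  obtain ⟨u, hu, eu⟩ := o.ex s
  refine ⟨u, hu, o.pt hs t (mul_mem (mul_mem (inv_mem hg) (o.syl.le hu)) hh) (zz_mem 1) z0 ?_⟩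
  rwa [mul_smul, mul_smul, eu]

end U4F
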