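import Mathlib
import Cfsg.Agent.Base
import Cfsg.Agent.Lib.U4F.Orb
import Cfsg.Agent.Lib.U4F.CA

set_option autoImplicit false

namespace U4F

open Subgroup H93.SX
open H68 (SylowIn)
open U5F (qq)
open scoped commutatorElement

universe u v

variable {K G : Type*} [Field K] [StarRing K] [Finite K] [Group G] [Finite G]
  [DistribMulAction G (Hm K)] [FaithfulSMul G (Hm K)] {p : ℕ} [Fact p.Prime] [CharP K p]
  {H U : Subgroup G} {g h : G} {z : Hm K}

namespace Crd

omit [Finite K] in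
theorem lift {P : AddSubgroup (Hm K)} (f : Hm K →+ K) (ρ : K →+ K) (h1 : ∀ v ∈ P, f v = 0 → v = 0)
    (h2 : ∀ k, ∃ v ∈ P, f v = ρ k) : ∃ π : K →+ Hm K, (∀ k, π k ∈ P ∧ f (π k) = ρ k) ∧
      ∀ v ∈ P, ∀ k, f v = ρ k → v = π k := by
  choose π a b using h2
  have u : ∀ v ∈ P, ∀ k, f v = ρ k → v = π k := fun v hv k e =>
    sub_eq_zero.1 (h1 _ (sub_mem hv (a k)) (by rw [map_sub, b, e, sub_self]))
  exact ⟨AddMonoidHom.mk' π fun x y =>
    (u _ (add_mem (a _) (a _)) _ (by rw [map_add, b, b, map_add])).symm, fun k => ⟨a k, b k⟩, u⟩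

theorem exists_zz (hs : ∃ e : K, star e ≠ e) : ∃ (ρ : K →+ K) (zz : K →+ Hm K), (∀ k, star (ρ k) = ρ k) ∧
    (∀ c, star c = c → ρ c = c) ∧ ∀ k, (zz k).a = ρ k ∧ (zz k).b = 0 ∧ (zz k).c = 0 := by
  obtain ⟨e, he⟩ := U5F.exists_one hs
  refine ⟨AddMonoidHom.mk' (fun k => k * e + star k * star e) fun x y => by rw [star_add]; ring,
    AddMonoidHom.mk' (fun k => ⟨k * e + star k * star e, 0, 0, by simp [add_comm], star_zero K⟩) fun x y => by
      ext <;> simp; ring, fun k => by simp [add_comm], fun c hc => ?_, fun k => ⟨rfl, rfl, rfl⟩⟩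
  show c * e + star c * star e = c
  rw [hc, ← mul_add, he, mul_one]

theorem surj (hs : ∃ e : K, star e ≠ e) (o : OV K p H U) (t : TI K H U) (hg : g ∈ H) (hn : g ∉ sb G (hZ K))
    {c : K} (hc : star c = c) : ∃ z ∈ hZ K, (g • z).c = c := by
  let f : selfAdjoint K → selfAdjoint K := fun a =>
    ⟨(g • (⟨a, 0, 0, a.2, star_zero K⟩ : Hm K)).c, Hm.hc _⟩
  have : Function.Injective f := fun a b e => by
    have e' : (g • ((⟨a, 0, 0, a.2, star_zero K⟩ : Hm K) - ⟨b, 0, 0, b.2, star_zero K⟩)).c = 0 := by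
      rw [smul_sub, Hm.sub_c]; exact sub_eq_zero.2 (congrArg Subtype.val e)
    by_contra ne
    refine hn (o.pt hs t hg (by simp) (fun k => ne (Subtype.ext ?_)) e')
    simpa [sub_eq_zero] using congrArg Hm.a k
  obtain ⟨a, e⟩ := Finite.surjective_of_injective this ⟨c, hc⟩
  exact ⟨_, ⟨rfl, rfl⟩, congrArg Subtype.val e⟩

theorem sbZ (o : OV K p H U) (hg : g ∈ U) : g ∈ sb G (hZ K) := fun v => by
  obtain ⟨s, e⟩ := o.act g hg
  rw [e]
  exact ⟨fun h => ⟨by simpa [sh, show v.c = 0 from h.2] using h.1, h.2⟩,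
    fun h => ⟨by simp [sh, h.1, h.2], h.2⟩⟩

theorem exists_n (hs : ∃ e : K, star e ≠ e) (o : OV K p H U) (t : TI K H U) (hn : ¬ H ≤ sb G (hZ K)) :
    ∃ n ∈ H, n ∉ sb G (hZ K) ∧ n * n ∈ sb G (hZ K) ∧ ∃ z ∈ hZ K, (n • z).b = 0 ∧ (n • z).c = 1 := by
  obtain ⟨g, hg, g1⟩ := SetLike.not_le_iff_exists.1 hn
  obtain ⟨u, hu, e⟩ := o.one hs t (inv_mem hg) hg (by rwa [inv_mem_iff]) g1
  rw [inv_inv] at e
  have a1 : g * u ∉ sb G (hZ K) := fun c => g1 ((Subgroup.mul_mem_cancel_right _ (sbZ o hu)).1 c)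
  have a2 : g * u * (g * u) ∈ sb G (hZ K) := by rw [← mul_assoc]; exact mul_mem e (sbZ o hu)
  have a3 := mul_mem hg (o.syl.le hu)
  generalize g * u = m at a1 a2 a3
  obtain ⟨z, hz, e1⟩ := surj hs o t a3 a1 (star_one K)
  obtain ⟨w, hw, e2⟩ := o.ex (-(m • z).b)
  have b := sbZ o hw
  refine ⟨w * m * w⁻¹, mul_mem (mul_mem (o.syl.le hw) a3) (inv_mem (o.syl.le hw)), fun c => a1 ?_, ?_,
    w • z, sb_mem b hz, ?_⟩
  · exact (Subgroup.mul_mem_cancel_left _ b).1 ((Subgroup.mul_mem_cancel_right _ (inv_mem b)).1 c)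
  · rw [show w * m * w⁻¹ * (w * m * w⁻¹) = w * (m * m) * w⁻¹ by group]
    exact mul_mem (mul_mem b a2) (inv_mem b)
  · rw [mul_smul, inv_smul_smul, mul_smul, e2]
    simp [sh, e1]

end Crd

open Crd in
theorem OV.coord (hs : ∃ e : K, star e ≠ e) (o : OV K p H U) (t : TI K H U) (hn : ¬ H ≤ sb G (hZ K)) :
    ∃ α hα, (∀ s, ∃ x ∈ H, ∀ v, x • th α hα v = th α hα (sl s v)) ∧
      ∃ g ∈ H, ∀ c hc, ∃ z ∈ hZ K, g • z = th α hα ⟨0, 0, c, star_zero K, hc⟩ := by
  obtain ⟨n, nH, n1, n2, z1, hz1, b1, c1⟩ := exists_n hs o t hn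
  obtain ⟨ρ, zz, r1, r2, r3⟩ := exists_zz hs
  have n2' := o.zw hs (mul_mem nH nH) n2
  have zZ : ∀ k, zz k ∈ hZ K := fun k => (r3 k).2
  let N : Hm K →+ Hm K := DistribMulAction.toAddMonoidHom _ n
  let ca : Hm K →+ K := AddMonoidHom.mk' Hm.a fun _ _ => rfl
  let cb : Hm K →+ K := AddMonoidHom.mk' Hm.b fun _ _ => rfl
  let cc : Hm K →+ K := AddMonoidHom.mk' Hm.c fun _ _ => rfl
  have nn : ∀ {Y : AddSubgroup (Hm K)}, n * n ∈ sb G Y → ∀ v, n • n • v ∈ Y ↔ v ∈ Y := fun e v => by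
    rw [← mul_smul]; exact sb_iff e
  have zw : ∀ v ∈ hZ K, n • v ∈ hW K → v = 0 := fun v hv e => by_contra fun c => n1 (o.pt hs t nH hv c e)
  obtain ⟨π, p1, p2⟩ := lift (P := (hZ K).comap N) cc ρ (fun v hv e => by
      have := zw (n • v) hv ((nn n2' v).2 e)
      rwa [smul_eq_zero_iff_eq] at this) fun k => by
    obtain ⟨z, hz, e⟩ := surj hs o t nH n1 (r1 k)
    exact ⟨n • z, (nn n2 z).2 hz, e⟩
  have pZ : ∀ k, n • π k ∈ hZ K := fun k => (p1 k).1
  have pc : ∀ k, (π k).c = ρ k := fun k => (p1 k).2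
  have pu : ∀ v, n • v ∈ hZ K → v = π v.c := fun v hv => p2 v hv _ (r2 _ v.hc).symm
  have ib : ∀ v ∈ hW K ⊓ (hW K).comap N, cb v = 0 → v = 0 := fun v hv e => zw v ⟨e, hv.1⟩ hv.2
  obtain ⟨bt, q1, q2⟩ := lift cb (AddMonoidHom.id K) ib fun k => by
    let b0 : K →+ Hm K := AddMonoidHom.mk' (fun b => ⟨0, b, 0, star_zero K, star_zero K⟩) fun x y => by
      ext <;> simp
    let w : K →+ Hm K := N.comp b0 - π.comp (cc.comp (N.comp b0))
    have hw : ∀ b, w b = n • b0 b - π (n • b0 b).c := fun b => rfl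
    have m : ∀ b, w b ∈ hW K ⊓ (hW K).comap N := fun b => by
      refine ⟨?_, ?_⟩
      · show (w b).c = 0
        rw [hw, Hm.sub_c, pc, r2 _ (Hm.hc _), sub_self]
      · show n • w b ∈ hW K
        rw [hw, smul_sub]
        exact sub_mem ((nn n2' _).2 rfl) (pZ _).2
    have inj : Function.Injective (cb.comp w) := (injective_iff_map_eq_zero _).2 fun b e => by
      have := ib _ (m b) e
      rw [hw, sub_eq_zero] at this
      exact ((nn n2 (b0 b)).1 (this ▸ pZ _)).1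
    obtain ⟨b, e⟩ := Finite.surjective_of_injective inj k
    exact ⟨_, m b, e⟩
  have bb : ∀ k, (bt k).b = k := fun k => (q1 k).2
  have bc : ∀ k, (bt k).c = 0 := fun k => (q1 k).1.1
  let y0 : K →+ K := cb.comp (N.comp bt)
  have nb : ∀ k, n • bt k = bt (y0 k) := fun k => q2 _ ⟨(q1 k).1.2, (nn n2' _).2 (q1 k).1.1⟩ _ rfl
  have yi : Function.Injective y0 := (injective_iff_map_eq_zero _).2 fun k e => by
    have := nb k
    rw [e, map_zero, smul_eq_zero_iff_eq] at this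
    rw [← bb k, this]; rfl
  obtain ⟨y, hy⟩ : ∃ y : K ≃+ K, ∀ k, n • bt k = bt (y k) :=
    ⟨AddEquiv.ofBijective y0 ⟨yi, Finite.surjective_of_injective yi⟩, nb⟩
  obtain ⟨γ, g1, g2⟩ : ∃ γ : K →+ K, (∀ k, star (γ k) = γ k) ∧ ∀ k, n • zz k = π (γ k) :=
    ⟨cc.comp (N.comp zz), fun k => Hm.hc _, fun k => pu _ ((nn n2 _).2 (zZ k))⟩
  obtain ⟨γ', g3, g4⟩ : ∃ γ : K → K, (∀ k, star (γ k) = γ k) ∧ ∀ k, n • π k = zz (γ k) :=
    ⟨fun k => (n • π k).a, fun k => Hm.ha _, fun k => Hm.ext (by rw [(r3 _).1, r2 _ (Hm.ha _)])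
      ((pZ k).1.trans (r3 _).2.1.symm) ((pZ k).2.trans (r3 _).2.2.symm)⟩
  have g5 : ∀ c, star c = c → γ c = 0 → c = 0 := fun c hc e => by
    have := g2 c
    rw [e, map_zero, smul_eq_zero_iff_eq] at this
    rw [← r2 c hc, ← (r3 c).1, this]; rfl
  let Q : K → K → K := fun s c => s * star (π c).b + star s * (π c).b + s * star s * c - (bt (s * c)).a
  have sQ : ∀ s c, star c = c → star (Q s c) = Q s c := fun s c hc => by
    simp only [Q, star_sub, star_add, star_mul', star_star, hc, Hm.sa]; ring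
  have shp : ∀ s c, star c = c → sh s (π c) = π c + bt (s * c) + zz (Q s c) := fun s c hc => by
    ext
    · simp only [sh, Hm.add_a, (r3 _).1, r2 _ (sQ s c hc), pc, r2 c hc, Q]; ring
    · simp [sh, bb, (r3 _).2.1, pc, r2 c hc]
    · simp [sh, bc, (r3 _).2.2]
  have key : ∀ s : K, ∃ r : K, s ≠ 0 → ∀ c, star c = c →
      y (s * c) = r * γ (Q s c) ∧ γ' c = Q r (γ (Q s c)) := fun s => by
    by_cases s0 : s = 0
    · exact ⟨0, fun c => absurd s0 c⟩
    obtain ⟨u, hu, e⟩ := o.ex s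
    obtain ⟨w, hw, e'⟩ := o.one hs t (mul_mem (mul_mem nH (o.syl.le hu)) (inv_mem nH)) nH (fun c => by
      have := sb_mem c (pZ 1)
      rw [mul_smul, inv_smul_smul, mul_smul] at this
      have := congrArg Hm.b (pu _ this)
      rw [e] at this
      exact s0 (by simpa [sh, pc, r2 1 (star_one K)] using this)) n1
    obtain ⟨r, er⟩ := o.act w hw
    refine ⟨r, fun _ c hc => ?_⟩
    have a := sb_mem (mul_mem n2 (inv_mem e')) (pZ c)
    rw [show n * n * ((n * u * n⁻¹)⁻¹ * w * n)⁻¹ = n * (w⁻¹ * (n * (u * n⁻¹))) by group, mul_smul, mul_smul,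
      mul_smul, mul_smul, inv_smul_smul] at a
    have a' := pu _ a
    generalize hd : (w⁻¹ • n • u • π c).c = d at a'
    have sd : star d = d := hd ▸ Hm.hc _
    rw [inv_smul_eq_iff, er, e, shp _ _ hc, shp _ _ sd, smul_add, smul_add, g4, hy, g2] at a'
    have ec := congrArg Hm.c a'
    simp only [Hm.add_c, (r3 _).2.2, bc, pc, r2 _ (g1 _), r2 _ sd, zero_add, add_zero] at ec
    have eb := congrArg Hm.b a'
    simp only [Hm.add_b, (r3 _).2.1, bb, ec, zero_add, add_zero] at eb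
    have eb' : y (s * c) = r * d := by linear_combination eb
    have ea := congrArg Hm.a a'
    simp only [Hm.add_a, (r3 _).1, ec, eb', r2 _ (g3 _), r2 _ (sQ _ _ sd)] at ea
    rw [ec]
    exact ⟨eb', by linear_combination ea⟩
  choose s hs' using key
  obtain ⟨k1, k2, k3, k4⟩ := co_alg hs y γ (cb.comp π) (ca.comp bt) s (fun c _ => g1 c) g5 (fun b => Hm.ha _)
    fun r r0 c hc => (hs' r r0 c hc).1
  have β1 : (cb.comp π) 1 = 0 := by
    show (π 1).b = 0
    rw [← c1, ← pu _ ((nn n2 z1).2 hz1), b1]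
  have pb : ∀ c, star c = c → (π c).b = 0 := fun c hc => (k1 c hc).trans (by rw [β1, zero_mul])
  have ba : ∀ b, (bt b).a = 0 := fun b => (k2 b).trans (by simp [β1])
  have eQ : ∀ s c, star c = c → Q s c = s * star s * c := fun s c hc => by simp [Q, pb c hc, ba]
  have sN : ∀ s : K, star (s * star s) = s * star s := fun s => by simp [mul_comm]
  have κ0 : γ 1 ≠ 0 := fun e => one_ne_zero (g5 1 (star_one K) e)
  have κ0' : γ' 1 ≠ 0 := fun e => by
    have := g4 1
    rw [e, map_zero, smul_eq_zero_iff_eq] at this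
    exact one_ne_zero ((r2 1 (star_one K)).symm.trans ((pc 1).symm.trans (by rw [this]; rfl)))
  have k5 : ∀ c, star c = c → γ' c * γ 1 = γ' 1 * γ c := fun c hc => by
    have a := (hs' 1 one_ne_zero c hc).2
    have b := (hs' 1 one_ne_zero 1 (star_one K)).2
    rw [eQ _ _ (g1 _), eQ _ _ hc] at a
    rw [eQ _ _ (g1 _), eQ _ _ (star_one K)] at b
    simp only [star_one, one_mul] at a b
    rw [a, b]; ring
  have k6 : ∀ r : K, y r * star (y r) = γ' 1 * γ (r * star r) := fun r => by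
    by_cases r0 : r = 0
    · simp [r0]
    obtain ⟨a, b⟩ := hs' r r0 1 (star_one K)
    rw [eQ _ _ (g1 _), eQ _ _ (star_one K)] at b
    rw [eQ _ _ (star_one K)] at a
    rw [mul_one] at a b
    rw [mul_one] at a
    rw [a, b, star_mul', g1]; ring
  have k7 : ∀ r b : K, y r * star (y b) + star (y r) * y b = γ' 1 * γ (r * star b + star r * b) := fun r b => by
    have a := k6 (r + b)
    rw [map_add, star_add, star_add, show (r + b) * (star r + star b) =
      r * star r + b * star b + (r * star b + star r * b) by ring, map_add γ, map_add γ] at a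
    linear_combination a - k6 r - k6 b
  have hα : ∀ c, star c = c → star ((ca.comp π) c) = (ca.comp π) c := fun c _ => Hm.ha _
  have dec : ∀ v : Hm K, th (ca.comp π) hα v = zz v.a + bt v.b + π v.c := fun v => by
    ext
    · simp only [th, Hm.add_a, (r3 _).1, r2 _ v.ha, ba, add_zero]; rfl
    · simp [th, (r3 _).2.1, bb, pb _ v.hc]
    · simp [th, (r3 _).2.2, bc, pc, r2 _ v.hc]
  have sg : ∀ c, star c = c → ∃ a, star a = a ∧ γ a = c := fun c hc => by
    obtain ⟨z, hz, e⟩ := surj hs o t nH n1 hc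
    have : z = zz z.a := Hm.ext (by rw [(r3 _).1, r2 _ z.ha]) (hz.1.trans (r3 _).2.1.symm)
      (hz.2.trans (r3 _).2.2.symm)
    exact ⟨z.a, z.ha, by rw [← e]; nth_rewrite 2 [this]; rw [g2, pc, r2 _ (g1 _)]⟩
  refine ⟨ca.comp π, hα, fun r => ?_, n, nH, fun c hc => ?_⟩
  · obtain ⟨x, ex⟩ := y.surjective (γ' 1 * r)
    obtain ⟨u, hu, e⟩ := o.ex x
    refine ⟨n * u * n⁻¹, mul_mem (mul_mem nH (o.syl.le hu)) (inv_mem nH), fun v => ?_⟩
    obtain ⟨a, ha, ea⟩ := sg _ v.hc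
    obtain ⟨b, eb⟩ := y.surjective v.b
    obtain ⟨c, hc, ec⟩ := sg (v.a * γ 1 / γ' 1) (by rw [star_div₀, star_mul', v.ha, g1, g3])
    have ec' : γ' c = v.a := mul_right_cancel₀ κ0 (by rw [k5 c hc, ec]; field_simp)
    have e1 : th (ca.comp π) hα v = n • th (ca.comp π) hα ⟨a, b, c, ha, hc⟩ := by
      rw [dec, dec, smul_add, smul_add, g2, hy, g4, ea, eb, ec']; abel
    have e2 : ∀ w, sh x (th (ca.comp π) hα w) = th (ca.comp π) hα (sh x w) := fun w => by
      ext <;> simp only [sh, th]; ring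
    rw [e1, mul_smul, inv_smul_smul, mul_smul, e, e2, dec, dec, smul_add, smul_add, g2, hy, g4]
    have f1 : y (b + x * c) = v.b + r * v.a := by
      rw [map_add, eb, mul_comm x, ← ec']
      refine congrArg _ (mul_right_cancel₀ κ0 ?_)
      rw [k4 c x hc, ex, mul_assoc, k5 c hc]; ring
    have f2 : γ (a + x * star b + star x * b + x * star x * c) =
        v.c + r * star v.b + star r * v.b + r * star r * v.a := by
      rw [add_assoc a, map_add, map_add, ea, ← ec']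
      refine mul_left_cancel₀ κ0' (mul_right_cancel₀ κ0 ?_)
      have a1 := k7 x b
      have a2 := k6 x
      rw [ex, star_mul', g3] at a1 a2
      rw [eb] at a1
      have a3 : γ (x * star x) = γ' 1 * (r * star r) := mul_left_cancel₀ κ0' (by linear_combination -a2)
      linear_combination -γ 1 * a1 + γ' 1 * k3 _ c (sN x) hc + γ' 1 * γ c * a3 - γ' 1 * r * star r * k5 c hc
    simp only [sh, sl, f1, f2, ec']
    abel
  · refine ⟨n⁻¹ • π c, (nn n2 _).1 (by rw [smul_inv_smul]; exact pZ c), ?_⟩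
    rw [smul_inv_smul, dec]
    simp

end U4F
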