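import Mathlib
import Cfsg.Agent.Base
import Cfsg.Agent.Lib.U4F.Au

set_option autoImplicit false

namespace U4F

open Subgroup H93.SX
open H68 (SylowIn)
open U5F (qq)
open scoped commutatorElement

universe u v

variable {K : Type*} {Γ : Type u} {Γ' : Type v} [Field K] [StarRing K] [Finite K] [Group Γ] [Finite Γ]
  [Group Γ'] [Finite Γ'] {p : ℕ} [Fact p.Prime] [CharP K p] {ι : Uf K →* Γ} {ψ : Uf K →* Γ'}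
  {E : Subgroup (Uf K)} {g : Γ} {k : Γ'} {x y : Uf K} {t n l n' l' : K} {σ σ' : K ≃⋆+* K}

theorem Cv.sQ (m : K × K) : ∃ x ∈ QQ K, cQ x = m := ⟨⟨m.2, 0, m.1, 0, star_zero _, star_zero _⟩, rfl, rfl⟩

theorem Cv.nV (t : Uf K) : ∀ x ∈ VV K, ⁅t, x⁆ ∈ VV K := fun _ _ => Uf.comm_t

theorem Cv.nQ (t : Uf K) : ∀ x ∈ QQ K, ⁅t, x⁆ ∈ QQ K := fun _ _ => Uf.comm_c

theorem Cv.be_eq (hx : x ∈ QQ K) (hy : y ∈ QQ K) : be (cQ x) (cQ y) = ⁅x, y⁆.a := by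
  rw [Uf.comm_a, mem_QQ.1 hx, mem_QQ.1 hy]; simp [be, cQ]

theorem Cv.iff {M : Type*} [AddCommGroup M] {c : Uf K → M} (i : Function.Injective ι) (o : Co ι E c) {f : M → M} :
    (∃ g, g ∈ nr ι E ∧ ∀ x ∈ E, ∀ y ∈ E, Cj ι g x y → c y = f (c x)) ↔ ∃ φ ∈ au i E c ⊤, ∀ v, φ • v = f v := by
  refine ⟨fun ⟨g, hg, h⟩ => ?_, fun ⟨φ, ⟨g, _, a⟩, h⟩ => ⟨g, a.1, fun x hx y hy e => by rw [← h, a.2 x hx y hy e]⟩⟩
  obtain ⟨φ, a⟩ := o.exists_ac hg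
  refine ⟨φ, ⟨g, trivial, a⟩, fun v => ?_⟩
  obtain ⟨x, hx, rfl⟩ := o.surj v
  obtain ⟨y, hy, e⟩ := nr_cj hg hx
  rw [a.2 x hx y hy e, h x hx y hy e]

theorem coV (i : Function.Injective ι) : Co ι (VV K) cV := ⟨fun x hx y _ => by ext <;> simp [cV, mem_VV.1 hx], fun m => ⟨⟨0, m.a, m.b, m.c, m.ha, m.hc⟩, rfl, rfl⟩,
    fun g _ x hx y _ e h => by
      obtain ⟨a, b, c⟩ := Hm.eq_zero.1 h
      obtain rfl : x = 1 := Uf.eq_one.2 ⟨hx, a, b, c⟩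
      rw [e.uniq i (z := 1) (by simp [Cj])]
      rfl⟩

theorem coQ (hs : ∃ e : K, star e ≠ e) (i : Function.Injective ι) : Co ι (QQ K) cQ := ⟨fun x _ y hy => by simp [cQ, mem_QQ.1 hy], Cv.sQ, fun g hg x hx y _ e h => by
    have := e.mem i (Q_Z hs i hg) ⟨congrArg Prod.snd h, congrArg Prod.fst h, hx⟩
    exact Prod.ext this.2.1 this.1⟩

theorem acV_self (i : Function.Injective ι) (s : Uf K) {φ : Hm K ≃ₗ[ℤ] Hm K} (a : Ac ι (VV K) cV (ι s) φ)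
    (v : Hm K) : φ • v = sh s.t v := by
  obtain ⟨x, hx, rfl⟩ := (coV i).surj v
  rw [a.2 x hx _ (by simp [mem_VV.1 hx]) (Cj.self s x)]
  ext <;> simp [cV, sh, mem_VV.1 hx] <;> ring

theorem acQ_self (i : Function.Injective ι) (s : Uf K) {φ : (K × K) ≃ₗ[ℤ] (K × K)}
    (a : Ac ι (QQ K) cQ (ι s) φ) (v : K × K) : φ • v = (v.1 - s.c * v.2, v.2) := by
  obtain ⟨x, hx, rfl⟩ := Cv.sQ v
  rw [a.2 x hx _ (by simp [mem_QQ.1 hx]) (Cj.self s x)]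
  ext <;> simp [cQ, mem_QQ.1 hx]
  ring

theorem ovV (F : Cf p ι) : OV K p (au F.inj (VV K) cV ⊤) (au F.inj (VV K) cV ι.range) := by
  refine ⟨(coV F.inj).syl F (fn_of Cv.nV), ?_, fun t => ?_⟩
  · rintro φ ⟨_, ⟨s, rfl⟩, a⟩
    exact ⟨_, acV_self F.inj s a⟩
  · obtain ⟨φ, a⟩ := (coV F.inj).exists_ac (self_nr (Cv.nV ⟨t, 0, 0, 0, star_zero _, star_zero _⟩))
    exact ⟨φ, ⟨_, ⟨_, rfl⟩, a⟩, acV_self F.inj _ a⟩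

theorem oqQ (hs : ∃ e : K, star e ≠ e) (F : Cf p ι) : OQ K p (au F.inj (QQ K) cQ ⊤) (au F.inj (QQ K) cQ ι.range) := by
  refine ⟨(coQ hs F.inj).syl F (fn_of Cv.nQ), ?_, fun t ht => ?_, ?_⟩
  · rintro φ ⟨_, ⟨s, rfl⟩, a⟩
    exact ⟨-s.c, by simp, fun v => by rw [acQ_self F.inj s a, neg_mul, sub_eq_add_neg]⟩
  · obtain ⟨φ, a⟩ := (coQ hs F.inj).exists_ac (self_nr (Cv.nQ ⟨0, 0, 0, -t, star_zero _, by simp [ht]⟩))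
    exact ⟨φ, ⟨_, ⟨_, rfl⟩, a⟩, fun v => by rw [acQ_self F.inj _ a, neg_mul, sub_neg_eq_add]⟩
  · rintro φ ⟨γ, -, a⟩ x y x' y' e
    obtain ⟨x, hx, rfl⟩ := Cv.sQ x
    obtain ⟨y, hy, rfl⟩ := Cv.sQ y
    obtain ⟨x', hx', rfl⟩ := Cv.sQ x'
    obtain ⟨y', hy', rfl⟩ := Cv.sQ y'
    obtain ⟨u, hu, e1⟩ := nr_cj a.1 hx
    obtain ⟨v, hv, e2⟩ := nr_cj a.1 hy
    obtain ⟨u', hu', e3⟩ := nr_cj a.1 hx'
    obtain ⟨v', hv', e4⟩ := nr_cj a.1 hy'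
    rw [Cv.be_eq hx hy, Cv.be_eq hx' hy'] at e
    have c : ⁅x, y⁆ = ⁅x', y'⁆ := Uf.ext (by simp) e ((comm_Q hx hy).2.1.trans (comm_Q hx' hy').2.1.symm) (by simp)
    rw [a.2 x hx u hu e1, a.2 y hy v hv e2, a.2 x' hx' u' hu' e3, a.2 y' hy' v' hv' e4, Cv.be_eq hu hv,
      Cv.be_eq hu' hv', (e1.comm e2).uniq F.inj (c ▸ e3.comm e4)]

theorem oq_qf (hs : ∃ e : K, star e ≠ e) [CharP K 2] (i : Function.Injective ι) : ∀ φ ∈ au i (QQ K) cQ ⊤, ∀ v : K × K, qf v = 0 → qf (φ • v) = 0 := by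
  rintro φ ⟨γ, -, a⟩ v h
  obtain ⟨x, hx, rfl⟩ := Cv.sQ v
  obtain ⟨y, hy, e⟩ := nr_cj a.1 hx
  have k : ∀ {x : Uf K}, x ∈ QQ K → (x * x).a = qf (cQ x) := fun hx => by
    simp [qf, cQ, mem_QQ.1 hx, CharTwo.add_self_eq_zero]
  have : x * x = 1 := Uf.eq_one.2 ⟨CharTwo.add_self_eq_zero _, (k hx).trans h, by
    simp [mem_QQ.1 hx, CharTwo.add_self_eq_zero], CharTwo.add_self_eq_zero _⟩
  rw [a.2 x hx y hy e, ← k hy, (e.mul e).uniq i (z := 1) (by simp [Cj, this])]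
  rfl

theorem acV_Z (i : Function.Injective ι) {φ : Hm K ≃ₗ[ℤ] Hm K} (a : Ac ι (VV K) cV g φ) :
    φ ∈ sb _ (hZ K) ↔ g ∈ nr ι (ZZ K) := ⟨a.nr (fun _ h => h.1) fun _ h => ⟨fun e => ⟨h, e⟩, fun e => e.2⟩,
    a.sb i (coV i) fun _ h => ⟨fun e => ⟨h, e⟩, fun e => e.2⟩⟩

theorem acV_W (i : Function.Injective ι) {φ : Hm K ≃ₗ[ℤ] Hm K} (a : Ac ι (VV K) cV g φ) :
    φ ∈ sb _ (hW K) ↔ g ∈ nr ι (WW K) := ⟨a.nr (fun _ h => h.1) fun _ h => ⟨fun e => ⟨h, e⟩, fun e => e.2⟩,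
    a.sb i (coV i) fun _ h => ⟨fun e => ⟨h, e⟩, fun e => e.2⟩⟩

theorem acQ_W (i : Function.Injective ι) {φ : (K × K) ≃ₗ[ℤ] (K × K)} (a : Ac ι (QQ K) cQ g φ) :
    φ ∈ sb _ (ax K) ↔ g ∈ nr ι (WW K) := ⟨a.nr (fun _ h => h.2) fun _ h => ⟨fun e => ⟨e, h⟩, fun e => e.1⟩, fun hg m => by
    obtain ⟨x, hx, rfl⟩ := Cv.sQ m
    obtain ⟨y, hy, e⟩ := nr_cj a.1 hx
    rw [a.2 x hx y hy e]
    exact ⟨fun h => (e.mem' i hg ⟨h, hy⟩).1, fun h => (e.mem i hg ⟨h, hx⟩).1⟩⟩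

theorem av_iff (i : Function.Injective ι) {f : Hm K → Hm K} :
    (∃ g, AV ι g f) ↔ ∃ φ ∈ au i (VV K) cV ⊤, ∀ v, φ • v = f v := Cv.iff i (coV i)

theorem aq_iff (hs : ∃ e : K, star e ≠ e) (i : Function.Injective ι) {f : K × K → K × K} :
    (∃ g, AQ ι g f) ↔ ∃ φ ∈ au i (QQ K) cQ ⊤, ∀ v, φ • v = f v := Cv.iff i (coQ hs i)

theorem w2_iff (i : Function.Injective ι) :
    W2 ι ↔ ∃ φ ∈ au i (VV K) cV ⊤, ∀ v : Hm K, φ • v = ⟨v.c, -star v.b, v.a, v.hc, v.ha⟩ := by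
  rw [← av_iff i (f := fun v => ⟨v.c, -star v.b, v.a, v.hc, v.ha⟩)]
  refine exists_congr fun g => ⟨fun h => ⟨mem_nr fun x hx => ⟨_, rfl, h x hx⟩, fun x hx y _ e => ?_⟩,
    fun h x hx => ?_⟩
  · rw [e.uniq i (h x hx)]
    rfl
  · obtain ⟨y, hy, e⟩ := nr_cj h.1 hx
    have := h.2 x hx y hy e
    rwa [← show y = w2 x from Uf.ext hy (congrArg Hm.a this) (congrArg Hm.b this) (congrArg Hm.c this)]

theorem Dl.aq (i : Function.Injective ι) (h : Dl ι n l σ) (hn : n ≠ 0) (hl : l ≠ 0) :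
    ∃ g, AQ ι g fun v => (n * l * σ v.1, n * σ v.2) := by
  obtain ⟨_, g, h⟩ := h
  refine ⟨g, mem_nr fun x hx => ⟨_, by simp [mem_QQ.1 hx], h x⟩, fun x _ y _ e => ?_⟩
  rw [e.uniq i (h x)]
  rfl

end U4F
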