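import Mathlib
import Cfsg.Agent.Base
import Cfsg.Agent.Lib.U4F.Au
import Cfsg.Agent.Lib.U5F.TopB

set_option autoImplicit false

namespace U4F

open Subgroup H93.SX
open H68 (SylowIn)
open U5F (qq)
open scoped commutatorElement

universe u v

variable {K : Type*} {Γ : Type u} {Γ' : Type v} [Field K] [StarRing K] [Finite K] [Group Γ] [Finite Γ]
  [Group Γ'] [Finite Γ'] {p : ℕ} [Fact p.Prime] [CharP K p] {ι : Uf K →* Γ} {ψ : Uf K →* Γ'}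
  {E : Subgroup (Uf K)} {g : Γ} {k : Γ'} {x y : Uf K} {t n l n' l' : K} {σ σ' : K ≃⋆+* K}

theorem Dl.one : Dl ι 1 1 .refl := by
  refine ⟨star_one _, 1, fun x => ?_⟩
  rw [show dl 1 1 (star_one _) (.refl : K ≃⋆+* K) x = x by ext <;> simp]
  exact Cj.one

theorem Dl.mul (a : Dl ι n l σ) (b : Dl ι n' l' σ') : Dl ι (n * σ n') (l * σ l') (σ'.trans σ) := by
  obtain ⟨hl, g, hg⟩ := a
  obtain ⟨hl', k, hk⟩ := b
  refine ⟨by rw [star_mul', hl, ← map_star, hl'], g * k, fun x => ?_⟩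
  convert (hg _).trans (hk x) using 1
  ext <;> simp [star_mul', map_star] <;> ring

theorem Dl.inv (a : Dl ι n l σ) (hn : n ≠ 0) (hl : l ≠ 0) : Dl ι (σ.symm n⁻¹) (σ.symm l⁻¹) σ.symm := by
  obtain ⟨h, g, hg⟩ := a
  have h' : star (σ.symm l⁻¹) = σ.symm l⁻¹ := by rw [← map_star, star_inv₀, h]
  refine ⟨h', g⁻¹, fun x => ?_⟩
  have := (hg (dl (σ.symm n⁻¹) (σ.symm l⁻¹) h' σ.symm x)).symm
  have h2 := star_ne_zero.2 hn
  convert this using 1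
  ext <;> simp [map_star] <;> field_simp

theorem dl_uniq (hn : n ≠ 0) (h1 : ∀ t, n * σ t = n' * σ' t) : n = n' ∧ σ = σ' := by
  have h2 : n = n' := by simpa using h1 1
  subst h2
  exact ⟨rfl, StarRingEquiv.ext fun t => mul_left_cancel₀ hn (h1 t)⟩

theorem cj_dl_nr {hl : star l = l} (hn : n ≠ 0) (h0 : l ≠ 0) (h : ∀ x, Cj ι g x (dl n l hl σ x)) : g ∈ nr ι ⊤ := by
  exact mem_nr fun x _ => ⟨_, mem_top _, h x⟩

theorem Std.ext (F : Cf p ι) (S : Std ι) (s : Se E (WW K) (ZZ K) ⊥) (e : g ∈ nr ι E) (w : g ∈ nr ι (WW K))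
    (z : g ∈ nr ι (ZZ K)) : ∃ s n l hl σ, n ≠ 0 ∧ l ≠ 0 ∧ Dl ι n l σ ∧
      ∀ x ∈ E, Cj ι g x (s * dl n l hl σ x * s⁻¹) := by
  obtain ⟨k, hk, h⟩ := Se.ext F s e w z nr_bot
  obtain ⟨t, n, l, hl, σ, hn, h0, ht⟩ := S k hk.2
  refine ⟨t, n, l, hl, σ, hn, h0, ⟨hl, ι t⁻¹ * k, fun x => ?_⟩, fun x hx => ?_⟩
  · have := (Cj.self t⁻¹ _).trans (ht x)
    rwa [show t⁻¹ * (t * dl n l hl σ x * t⁻¹) * t⁻¹⁻¹ = dl n l hl σ x by group] at this
  · obtain ⟨y, -, hy⟩ := nr_cj e hx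
    rwa [← (h x hx y hy).uniq F.inj (ht x)]

theorem Dg.cj_pow {α : MulAut (Uf K)} (h : ∀ x, Cj ι g x (α x)) (m : ℕ) : ∀ x, Cj ι (g ^ m) x ((α ^ m) x) := by
  induction m with
  | zero => intro x; rw [pow_zero, pow_zero]; exact Cj.one
  | succ m ih => intro x; rw [pow_succ, pow_succ]; exact (ih (α x)).trans (h x)

theorem inner_of_pow (F : Cf p ι) (hg : g ∈ nr ι ⊤) {j : ℕ} {s : Uf K}
    (h : ∀ x, Cj ι (g ^ p ^ j) x (s * x * s⁻¹)) : ∃ s : Uf K, ∀ x, Cj ι g x (s * x * s⁻¹) := by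
  obtain ⟨α, hα⟩ := U5F.TopB.exists_aut F.inj hg
  have e1 : α ^ p ^ j = MulAut.conj s := MulEquiv.ext fun x => (Dg.cj_pow hα _ x).uniq F.inj (h x)
  obtain ⟨i, hi⟩ := F.pg s
  have e2 : α ^ p ^ (j + i) = 1 := by rw [pow_add, pow_mul, e1, ← map_pow, hi, map_one]
  have hz : IsPGroup p (zpowers α) := by
    rintro ⟨_, m, rfl⟩
    refine ⟨j + i, Subtype.ext ?_⟩
    change (α ^ m) ^ p ^ (j + i) = 1
    rw [← zpow_natCast, ← zpow_mul, mul_comm, zpow_mul, zpow_natCast, e2, one_zpow]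
  have hn : (MulAut.conj : Uf K →* MulAut (Uf K)).range.Normal := ⟨by
    rintro _ ⟨t, rfl⟩ β
    exact ⟨β t, MulEquiv.ext fun x => by simp⟩⟩
  have hr : IsPGroup p (MulAut.conj : Uf K →* MulAut (Uf K)).range :=
    F.pg.of_surjective _ (MonoidHom.rangeRestrict_surjective _)
  obtain ⟨t, ht⟩ := U5F.TopB.inner F (hz.to_sup_of_normal_right hr) (fun t => mem_sup_right ⟨t, rfl⟩)
    (mem_sup_left (mem_zpowers α)) ⟨g, hα⟩
  exact ⟨t, fun x => ht x ▸ hα x⟩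

theorem dl_triv (F : Cf p ι) {hl : star l = l} (h : Dl ι n l σ) (hn : n ≠ 0) (h0 : l ≠ 0) (j : ℕ)
    (e : ∀ x, (dl n l hl σ)^[p ^ j] x = x) : n = 1 ∧ l = 1 ∧ σ = .refl := by
  obtain ⟨hl', g, hg⟩ := h
  have pw : ∀ m : ℕ, ∀ x, Cj ι (g ^ m) x ((dl n l hl σ)^[m] x) := fun m => by
    induction m with
    | zero => intro x; rw [pow_zero]; exact Cj.one
    | succ m ih => intro x; rw [pow_succ, Function.iterate_succ_apply]; exact (ih _).trans (hg x)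
  obtain ⟨s, hs⟩ := inner_of_pow F (cj_dl_nr hn h0 hg) (j := j) (s := 1) fun x => by
    have := pw (p ^ j) x
    rw [e] at this
    simpa using this
  have key : ∀ x, dl n l hl' σ x = s * x * s⁻¹ := fun x => (hg x).uniq F.inj (hs x)
  have k1 := dl_uniq (n' := 1) (σ' := .refl) (σ := σ) hn fun t => by
    simpa using congrArg Uf.t (key ⟨t, 0, 0, 0, star_zero _, star_zero _⟩)
  exact ⟨k1.1, by simpa using congrArg Uf.c (key ⟨0, 0, 0, 1, star_zero _, star_one _⟩), k1.2⟩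

theorem Mo.cf (h : Mo p ι) : Cf p ι := by
  obtain ⟨i, P, hP⟩ := h
  exact ⟨i, pg_uf p, hP ▸ H93.isSaturated_groupFusionSystem P⟩

end U4F
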