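import Mathlib
import Cfsg.Agent.Base
import Cfsg.Agent.Lib.U4F.Defs

set_option autoImplicit false

namespace U4F

open Subgroup H93.SX
open H68 (SylowIn)
open U5F (qq)
open scoped commutatorElement

universe u v

variable {G M : Type*} [Group G] [Finite G] [AddCommGroup M] [Finite M] [DistribMulAction G M]
  [FaithfulSMul G M] {p : ℕ} [Fact p.Prime] {H A : Subgroup G} {Z Y : AddSubgroup M}

theorem Lm.key (s : SylowIn p A H) (h1 : ∀ a ∈ A, ∀ z ∈ Z, a • z = z) {g a : G} {z : M} (hg : g ∈ H)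
    (hz : z ∈ Z) (ha : a ∈ A) (e : a • g • z = g • z) : ∃ k ∈ H, k • z = g • z ∧ k⁻¹ * a * k ∈ A := by
  have s1 : SylowIn p (H68.cj g A) (H ⊓ MulAction.stabilizer G (g • z)) :=
    (s.cj_of_mem hg).mono (le_inf (s.cj_of_mem hg).le (H68.cj_le_iff'.2 fun x hx => by
      rw [MulAction.mem_stabilizer_iff, mul_smul, mul_smul, inv_smul_smul, h1 x hx z hz])) inf_le_left
  obtain ⟨c, hc, le⟩ := s1.exists_le_cj (s.isPGroup.to_le (zpowers_le.2 ha))
    (zpowers_le.2 ⟨s.le ha, e⟩)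
  refine ⟨c * g, mul_mem hc.1 hg, by rw [mul_smul]; exact hc.2, ?_⟩
  have := le (mem_zpowers a)
  rwa [← H68.cj_mul, H68.mem_cj] at this

theorem Lm.tr {k a : G} {z v : M} (e : (k⁻¹ * a * k) • v - v = z) : a • k • v - k • v = k • z := by
  rw [← e, smul_sub, mul_smul, mul_smul, smul_inv_smul]

theorem Lm.ne1 {k a : G} (h : a ≠ 1) : k⁻¹ * a * k ≠ 1 := fun e => h (by
  have : a = k * (k⁻¹ * a * k) * k⁻¹ := by group
  rw [this, e]; group)

theorem Lm.card_comap (g : G) (X : AddSubgroup M) :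
    Nat.card (X.comap (DistribSMul.toAddMonoidHom M g)) = Nat.card X :=
  Nat.card_congr ((MulAction.toPerm g).subtypeEquiv fun _ => Iff.rfl)

theorem Lm.card_inf {X : AddSubgroup M} (e : Nat.card X = Nat.card Y) :
    Nat.card Y ^ 2 ≤ Nat.card (Y ⊓ X : AddSubgroup M) * Nat.card M := by
  have h1 := Y.card_mul_index
  have h2 := X.card_mul_index
  have h3 := (Y ⊓ X).card_mul_index
  have h4 : (Y ⊓ X).index ≤ Y.index * X.index := AddSubgroup.index_inf_le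
  have h0 : 0 < Nat.card M := Nat.card_pos
  rw [e] at h2
  refine Nat.le_of_mul_le_mul_right ?_ h0
  calc Nat.card Y ^ 2 * Nat.card M = Nat.card Y ^ 2 * (Nat.card (Y ⊓ X : AddSubgroup M) * (Y ⊓ X).index) := by
        rw [h3]
    _ ≤ Nat.card Y ^ 2 * (Nat.card (Y ⊓ X : AddSubgroup M) * (Y.index * X.index)) := by gcongr
    _ = Nat.card (Y ⊓ X : AddSubgroup M) * (Nat.card Y * Y.index) * (Nat.card Y * X.index) := by ring
    _ = _ := by rw [h1, h2]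

theorem ha (s : SylowIn p A H) (h1 : ∀ a ∈ A, ∀ z ∈ Z, a • z = z)
    (h2 : ∀ a ∈ A, a ≠ 1 → ∀ m, m ∈ Z ↔ ∃ v, a • v - v = m)
    (h3 : ∀ v : M, ∃ a ∈ A, a ≠ 1 ∧ a • v = v) : H ≤ sb G Z := by
  refine fun g hg => mem_sb fun z hz => ?_
  obtain ⟨a, ha, a1, e⟩ := h3 (g • z)
  obtain ⟨k, -, e1, hk⟩ := Lm.key s h1 hg hz ha e
  obtain ⟨v, hv⟩ := (h2 _ hk (Lm.ne1 a1) z).1 hz
  exact (h2 a ha a1 _).2 ⟨k • v, (Lm.tr hv).trans e1⟩

theorem hz (s : SylowIn p A H) (ne : Z ≠ Y) (le : Z ≤ Y) (h1 : ∀ a ∈ A, ∀ z ∈ Z, a • z = z)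
    (h2 : ∃ a ∈ A, a ≠ 1 ∧ ∀ v, a • v = v ↔ v ∈ Y)
    (h3 : ∀ a ∈ A, a ≠ 1 → ((∀ v, a • v = v ↔ v ∈ Y) ∧ ∀ m, m ∈ Z ↔ ∃ v, a • v - v = m) ∨
      ∀ v, a • v = v ↔ v ∈ Z)
    (h4 : ∀ v ∉ Y, ∀ y ∈ Y, ∃ a ∈ A, a • v = v + y)
    (hc : Nat.card Z * Nat.card M ≤ Nat.card Y ^ 2) : H ≤ sb G Z := by
  have star : ∀ h ∈ H, ∀ z ∈ Z, h • z ∈ Y → h • z ∈ Z := fun h hh z hz hy => by
    obtain ⟨a, ha, a1, fa⟩ := h2
    obtain ⟨k, -, e1, hk⟩ := Lm.key s h1 hh hz ha ((fa _).2 hy)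
    rcases h3 a ha a1 with ⟨-, t1⟩ | t1
    · rcases h3 _ hk (Lm.ne1 a1) with ⟨-, t2⟩ | t2
      · obtain ⟨v, hv⟩ := (t2 z).1 hz
        exact (t1 _).2 ⟨k • v, (Lm.tr hv).trans e1⟩
      · have : Z = Y.comap (DistribSMul.toAddMonoidHom M k) := AddSubgroup.ext fun v => by
          rw [← t2, AddSubgroup.mem_comap, DistribSMul.toAddMonoidHom_apply, ← fa, mul_smul, mul_smul,
            inv_smul_eq_iff]
        exact absurd (AddSubgroup.eq_of_le_of_card_ge le (by rw [this, Lm.card_comap])) ne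
    · exact absurd (AddSubgroup.ext fun v => (t1 v).symm.trans (fa v)) ne
  refine fun g hg => mem_sb fun z hz => ?_
  by_contra hn
  have hy : g • z ∉ Y := fun e => hn (star g hg z hz e)
  have h5 : Y ⊓ Y.comap (DistribSMul.toAddMonoidHom M g⁻¹) ≤ Z.comap (DistribSMul.toAddMonoidHom M g⁻¹) := by
    rintro d ⟨d1, d2⟩
    obtain ⟨a, ha, e⟩ := h4 _ hy d d1
    have e2 : (g⁻¹ * a * g) • z = z + g⁻¹ • d := by rw [mul_smul, mul_smul, e, smul_add, inv_smul_smul]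
    have := star _ (mul_mem (mul_mem (inv_mem hg) (s.le ha)) hg) z hz (e2 ▸ add_mem (le hz) d2)
    rw [e2] at this
    exact (add_mem_cancel_left hz).1 this
  have h6 := AddSubgroup.eq_of_le_of_card_ge h5 (by
    rw [Lm.card_comap]
    exact Nat.le_of_mul_le_mul_right (hc.trans (Lm.card_inf (Lm.card_comap _ _))) Nat.card_pos)
  have : g • z ∈ Z.comap (DistribSMul.toAddMonoidHom M g⁻¹) := by
    rw [AddSubgroup.mem_comap, DistribSMul.toAddMonoidHom_apply, inv_smul_smul]; exact hz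
  rw [← h6] at this
  exact hy this.1

end U4F
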