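import Mathlib
import Cfsg.Agent.Base
import Cfsg.Agent.Lib.U4F.Defs

set_option autoImplicit false

namespace U4F

open Subgroup H93.SX
open H68 (SylowIn)
open U5F (qq)
open scoped commutatorElement

universe u v

variable {W : Type*} {Γ : Type u} {M G : Type*} [Group W] [Group Γ] [Finite Γ] [AddCommGroup M] [Group G]
  [Finite G] {p : ℕ} [Fact p.Prime] {ι : W →* Γ} {E X : Subgroup W} {c : W → M} {H A N T : Subgroup G}
  {a b : G}

theorem exists_co (i : Function.Injective ι) (h : ∀ x ∈ E, ∀ y ∈ E, x * y = y * x) :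
    ∃ (M : Type u) (_ : AddCommGroup M) (_ : Finite M) (c : W → M), Co ι E c ∧
      (∀ x ∈ E, c x = 0 → x = 1) ∧ Nat.card M = Nat.card E := by
  classical
  let _ : CommGroup (E.map ι) := { (inferInstance : Group (E.map ι)) with
    mul_comm := by
      rintro ⟨_, x, hx, rfl⟩ ⟨_, y, hy, rfl⟩
      exact Subtype.ext (by simp only [coe_mul, ← map_mul, h x hx y hy]) }
  have k : ∀ x (hx : x ∈ E), (if h : x ∈ E then Additive.ofMul (⟨ι x, mem_map_of_mem ι h⟩ : E.map ι) else 0) = 0 →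
      x = 1 := fun x hx e => by
    rw [dif_pos hx] at e
    exact i ((congrArg (fun m => (Additive.toMul m).1) e).trans (map_one ι).symm)
  refine ⟨Additive (E.map ι), inferInstance, inferInstance,
    fun x => if h : x ∈ E then Additive.ofMul ⟨ι x, mem_map_of_mem ι h⟩ else 0,
    ⟨fun x hx y hy => ?_, ?_, fun g hg x hx y hy e e' => ?_⟩, k, card_map_of_injective i⟩
  · rw [dif_pos hx, dif_pos hy, dif_pos (mul_mem hx hy), ← ofMul_mul]
    exact congrArg _ (Subtype.ext (map_mul ι x y))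
  · rintro ⟨_, x, hx, rfl⟩
    exact ⟨x, hx, dif_pos hx⟩
  · rw [k x hx e', Cj, map_one, mul_one, mul_inv_cancel] at e
    rw [dif_pos hy]
    exact congrArg Additive.ofMul (Subtype.ext e.symm)

omit [Finite Γ] in
theorem SE.inj (o : Co ι E c) (ci : ∀ x ∈ E, c x = 0 → x = 1) {x y : W} (hx : x ∈ E) (hy : y ∈ E)
    (e : c x = c y) : x = y :=
  mul_inv_eq_one.1 (ci _ (mul_mem hx (inv_mem hy)) (by rw [o.div hx hy, e, sub_self]))

theorem co_sb (i : Function.Injective ι) (o : Co ι E c) (ci : ∀ x ∈ E, c x = 0 → x = 1) (le : X ≤ E) :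
    ∃ Z : AddSubgroup M, (∀ x ∈ E, c x ∈ Z ↔ x ∈ X) ∧ Nat.card Z = Nat.card X ∧
      ∀ g φ, Ac ι E c g φ → (φ ∈ sb _ Z ↔ g ∈ nr ι X) := by
  let Z : AddSubgroup M :=
    { carrier := {m | ∃ x ∈ X, c x = m}
      zero_mem' := ⟨1, one_mem _, o.one⟩
      add_mem' := by
        rintro _ _ ⟨x, hx, rfl⟩ ⟨y, hy, rfl⟩
        exact ⟨_, mul_mem hx hy, o.add x (le hx) y (le hy)⟩
      neg_mem' := by
        rintro _ ⟨x, hx, rfl⟩
        exact ⟨1 * x⁻¹, mul_mem (one_mem _) (inv_mem hx), by rw [o.div (one_mem _) (le hx), o.one, zero_sub]⟩ }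
  have k : ∀ x ∈ E, c x ∈ Z ↔ x ∈ X := fun x hx =>
    ⟨fun ⟨y, hy, e⟩ => SE.inj o ci (le hy) hx e ▸ hy, fun h => ⟨x, h, rfl⟩⟩
  refine ⟨Z, k, (Nat.card_congr (Equiv.ofBijective (fun x : X => (⟨c x, x, x.2, rfl⟩ : Z))
    ⟨fun x y e => Subtype.ext (SE.inj o ci (le x.2) (le y.2) (congrArg Subtype.val e)), ?_⟩)).symm,
    fun g φ a => ⟨fun h => mem_nr_of a.1 le fun x hx y hy e => ?_, fun h m => ?_⟩⟩
  · rintro ⟨_, x, hx, rfl⟩
    exact ⟨⟨x, hx⟩, rfl⟩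
  · exact (k y hy).1 (a.2 x (le hx) y hy e ▸ sb_mem h ⟨x, hx, rfl⟩)
  · obtain ⟨x, hx, rfl⟩ := o.surj m
    obtain ⟨y, hy, e⟩ := nr_cj a.1 hx
    rw [a.2 x hx y hy e, k y hy, k x hx]
    exact ⟨e.mem' i h, e.mem i h⟩

theorem es_syl (F : Cf p ι) (h : Es p ι E) (o : Co ι E c) :
    SylowIn p (au F.inj E c ι.range) (au F.inj E c ⊤) :=
  o.syl F h.2.1

theorem es_emb (F : Cf p ι) (h : Es p ι E) (o : Co ι E c) (ci : ∀ x ∈ E, c x = 0 → x = 1) :
    ∃ N, Emb (au F.inj E c ⊤) (au F.inj E c ι.range) N := by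
  obtain ⟨M0, h1, h2, h3, -⟩ := H93.R3.exists_emb F.pr F.sat h
  have key : ∀ {g φ}, Ac ι E c g φ → φ ∈ au F.inj E c M0 → g ∈ M0 := by
    rintro g φ a ⟨k, hk, a'⟩
    have a1 := a'.inv.mul a
    rw [inv_mul_cancel] at a1
    refine (mul_mem_cancel_left (inv_mem hk)).1 (h1 (mem_sup_right (cent_of_cj fun x hx => ?_)))
    obtain ⟨y, hy, e⟩ := nr_cj a1.1 hx
    exact SE.inj o ci hx hy ((one_smul _ _).symm.trans (a1.2 x hx y hy e)) ▸ e
  refine ⟨au F.inj E c M0, fun φ ⟨g, hg, a⟩ => ⟨g, h1 (mem_sup_left ⟨a.1, le_normalizer ⟨hg, a.1⟩⟩), a⟩,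
    fun k => h2 fun g hg => ?_, fun φ ⟨t, ht, a⟩ n ψ ⟨g, _, a'⟩ m =>
      ⟨g, h3 t ⟨ht, a.1⟩ ?_ g a'.1 (key ((a'.inv.mul a).mul a') m), a'⟩⟩
  · obtain ⟨φ, a⟩ := o.exists_ac hg
    exact key a (k ⟨g, trivial, a⟩)
  · rintro ⟨s, hs, rfl⟩
    refine n (o.uniq a ⟨a.1, fun x hx y hy e => ?_⟩)
    rw [e.uniq F.inj (Cj.self s x), one_smul, o.div (mul_mem hs hx) hs, o.add s hs x hx, add_sub_cancel_left]

theorem Emb.of_pg (s : SylowIn p A H) (e : Emb H A N) (hT : IsPGroup p T) (le : T ≤ H) (ha : a ∈ A)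
    (h1 : a ≠ 1) (hm : a ∈ T) : T ≤ N := by
  obtain ⟨g, hg, k⟩ := s.exists_cj_le hT le
  rw [H68.cj_le_iff'] at k
  have gN := e.tri a ha h1 g⁻¹ (inv_mem hg) (by rw [inv_inv]; exact e.le (k a hm))
  intro x hx
  simpa [mul_assoc] using mul_mem (mul_mem gN (e.le (k x hx))) (inv_mem gN)

omit [Finite G] in
theorem SE.pz {x : G} (hx : x * x = 1) : IsPGroup 2 (zpowers x) := by
  rintro ⟨_, k, rfl⟩
  refine ⟨1, Subtype.ext ?_⟩
  change (x ^ k) ^ 2 ^ 1 = 1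
  rw [pow_one, sq, ← (Commute.refl x).mul_zpow, hx, one_zpow]

theorem Emb.conj (s : SylowIn 2 A H) (e : Emb H A N) (ha : a ∈ A) (hb : b ∈ A) (h1 : a ≠ 1) (h2 : b ≠ 1)
    (h3 : a ^ 2 = 1) (h4 : b ^ 2 = 1) : ∃ g ∈ H, g * a * g⁻¹ = b := by
  obtain ⟨g, hg, gN⟩ := SetLike.not_le_iff_exists.1 e.lt
  have jN : g⁻¹ * a * g ∉ N := fun k => gN (e.tri a ha h1 g hg k)
  have jH : g⁻¹ * a * g ∈ H := mul_mem (mul_mem (inv_mem hg) (s.le ha)) hg
  have j2 : g⁻¹ * a * g * (g⁻¹ * a * g) = 1 := by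
    calc _ = g⁻¹ * a ^ 2 * g := by rw [sq]; group
      _ = 1 := by rw [h3]; group
  rw [sq] at h4
  have rH := mul_mem (s.le hb) jH
  rcases Nat.even_or_odd (orderOf (b * (g⁻¹ * a * g))) with o | o
  · have w2 := H9.orderOf_pow_half o
    have wH := pow_mem rH (orderOf (b * (g⁻¹ * a * g)) / 2)
    have bw := H9.conj_pow_of_inverts (H9.left_inverts h4 j2) (orderOf (b * (g⁻¹ * a * g)) / 2)
    have jw := H9.conj_pow_of_inverts (H9.right_inverts h4 j2) (orderOf (b * (g⁻¹ * a * g)) / 2)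
    rw [H9.inv_eq_of_orderOf_two w2] at bw jw
    generalize (b * (g⁻¹ * a * g)) ^ (orderOf (b * (g⁻¹ * a * g)) / 2) = w at w2 wH bw jw
    generalize g⁻¹ * a * g = j at jN jH jw
    have pw := SE.pz (H9.mul_self_of_orderOf_two w2)
    have cb : zpowers w ≤ centralizer {b} :=
      zpowers_le.2 (mem_centralizer_singleton_iff.2 (mul_inv_eq_iff_eq_mul.1 bw).symm)
    have wN : w ∈ N := e.of_pg s ((SE.pz h4).to_sup_of_normal_right' pw (zpowers_le.2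
      (centralizer_le_normalizer _ fun x hx => mem_centralizer_singleton_iff.1 (cb hx))))
      (sup_le (zpowers_le.2 (s.le hb)) (zpowers_le.2 wH)) hb h2 (mem_sup_left (mem_zpowers b))
      (mem_sup_right (mem_zpowers w))
    obtain ⟨k, hk, kA⟩ := s.exists_cj_le pw (zpowers_le.2 wH)
    have wA := H68.cj_le_iff'.1 kA w (mem_zpowers w)
    have w1 : k * w * k⁻¹ ≠ 1 := fun k => H9.ne_one_of_orderOf_two w2 (by simpa using k)
    have kN := e.tri _ wA w1 k hk (by simpa [mul_assoc] using wN)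
    have := e.tri _ wA w1 (k * j⁻¹) (mul_mem hk (inv_mem jH)) (by
      convert wN using 1
      conv_rhs => rw [← jw]
      group)
    exact absurd ((inv_mem_iff).1 ((mul_mem_cancel_left kN).1 this)) jN
  · obtain ⟨m, hm⟩ := H9.exists_pow_conj_of_odd h4 j2 o
    refine ⟨((b * (g⁻¹ * a * g)) ^ m)⁻¹ * g⁻¹, mul_mem (inv_mem (pow_mem rH m)) (inv_mem hg), ?_⟩
    generalize (b * (g⁻¹ * a * g)) ^ m = r at hm
    calc _ = r⁻¹ * (g⁻¹ * a * g) * r := by group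
      _ = b := by rw [← hm]; group

theorem fuse (s : SylowIn p A H) (hc : ∀ x ∈ A, ∀ y ∈ A, x * y = y * x) (ha : a ∈ A) {g : G} (hg : g ∈ H)
    (hb : g * a * g⁻¹ ∈ A) : ∃ n ∈ H, (∀ x, x ∈ A ↔ n * x * n⁻¹ ∈ A) ∧ n * a * n⁻¹ = g * a * g⁻¹ := by
  have s1 : SylowIn p A (H ⊓ centralizer {g * a * g⁻¹}) :=
    s.mono (le_inf s.le fun x hx => mem_centralizer_singleton_iff.2 (hc x hx _ hb)) inf_le_left
  have s2 : SylowIn p (H68.cj g A) (H ⊓ centralizer {g * a * g⁻¹}) :=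
    (s.cj_of_mem hg).mono (le_inf (s.cj_of_mem hg).le (H68.cj_le_iff'.2 fun x hx =>
      mem_centralizer_singleton_iff.2 (by rw [conj_mul, conj_mul, hc x hx a ha]))) inf_le_left
  obtain ⟨k, hk, e⟩ := s2.exists_cj_eq s1
  refine ⟨k * g, mul_mem hk.1 hg, fun x => ?_, ?_⟩
  · conv_rhs => rw [← e, show k * g * x * (k * g)⁻¹ = k * (g * x * g⁻¹) * k⁻¹ by group]
    rw [H68.conj_mem_cj, H68.conj_mem_cj]
  · rw [show k * g * a * (k * g)⁻¹ = k * (g * a * g⁻¹) * k⁻¹ by group,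
      mem_centralizer_singleton_iff.1 hk.2, mul_inv_cancel_right]

end U4F
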