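import Mathlib
import Cfsg.Agent.Base
import Cfsg.Agent.Lib.U4F.Au
import Cfsg.Agent.Lib.U4F.Lm
import Cfsg.Agent.Lib.U4F.SE

set_option autoImplicit false

namespace U4F

open Subgroup H93.SX
open H68 (SylowIn)
open U5F (qq)
open scoped commutatorElement

universe u v

variable {K : Type*} {Γ : Type u} {Γ' : Type v} [Field K] [StarRing K] [Finite K] [Group Γ] [Finite Γ]
  [Group Γ'] [Finite Γ'] {p : ℕ} [Fact p.Prime] [CharP K p] {ι : Uf K →* Γ} {ψ : Uf K →* Γ'}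
  {E : Subgroup (Uf K)} {g : Γ} {k : Γ'} {x y : Uf K} {t n l n' l' : K} {σ σ' : K ≃⋆+* K}

namespace E1

open U4F.Uf

omit [Finite K] in
theorem c1 (hx : x ∈ QQ K) (hy : y ∈ QQ K) : ⁅x, y⁆ = 1 ↔ be (cQ x) (cQ y) = 0 := by
  simp only [mem_QQ] at hx hy
  simp [eq_one, comm_a, hx, hy, be, cQ]

/-- scaling by an element of the fixed field -/
def sc (e : K) (x : Uf K) : Uf K := ⟨e * x.t, 0, e * x.b, 0, star_zero K, star_zero K⟩

/-- the element with the given coordinates -/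
def el (b t : K) : Uf K := ⟨t, 0, b, 0, star_zero K, star_zero K⟩

omit [Finite K] [CharP K p] in
theorem zle (F : Cf p ι) (h : Es p ι E) : ZZ K ≤ E := fun z hz =>
  h.cent F fun x _ => by rw [← commutatorElement_inv, comm_Z0 x hz, inv_one]

omit [Finite K] [CharP K p] in
theorem fin (F : Cf p ι) (h : Es p ι E) (le : E ≤ QQ K) (hn : nr ι E ≤ nr ι (ZZ K)) : E = QQ K :=
  le_antisymm le fun s hs => h.chain F hn (fun _ _ => nr_bot) (fun _ _ => nr_bot)
    (self_ch (zle F h) bot_le le_rfl (fun _ hx => comm_Q hs (le hx)) (fun _ hx => comm_Z0 s hx)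
      (fun x hx => by rw [mem_bot.1 hx]; simp) fun x hx => by rw [mem_bot.1 hx]; simp)

omit [Finite K] [CharP K p] in
theorem sc_mem (F : Cf p ι) (h : Es p ι E) (le : E ≤ QQ K) {e : K} (he : star e = e) (hx : x ∈ E) :
    sc e x ∈ E := by
  have m : ∀ y, y ∈ E ⊓ centralizer (E : Set (Uf K)) ↔ y ∈ E ∧ ∀ z ∈ E, ⁅y, z⁆ = 1 := fun y =>
    and_congr_right fun _ => forall₂_congr fun z _ => by
      rw [commutatorElement_eq_one_iff_mul_comm, eq_comm]
  have q : sc e x ∈ QQ K := rfl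
  refine h.chain F (A := E ⊓ centralizer (E : Set (Uf K)))
    (fun g hg => U5F.nr_cent F.inj hg hg m) (fun _ _ => nr_bot) (fun _ _ => nr_bot)
    (self_ch inf_le_left bot_le le_rfl (fun y hy => (m _).2 ⟨zle F h (comm_Q q (le hy)), fun z _ => ?_⟩)
      (fun y hy => mem_bot.2 ?_)
      (fun x hx => by rw [mem_bot.1 hx]; simp) fun x hx => by rw [mem_bot.1 hx]; simp)
  · rw [← commutatorElement_inv, comm_Z0 z (comm_Q q (le hy)), inv_one]
  · have h1 := (c1 (le hy.1) (le hx)).1 (((m y).1 hy).2 x hx)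
    rw [c1 q (le hy.1)]
    simp only [be, cQ, sc, star_mul', he] at h1 ⊢
    linear_combination -e * h1

omit [Finite K] in
theorem exists_sc (hx : x ∈ QQ K) (hy : y ∈ QQ K) (ne : ⁅x, y⁆ ≠ 1) {z : Uf K} (hz : z ∈ ZZ K) :
    ∃ e : K, star e = e ∧ ⁅x, sc e y⁆ = z := by
  have h0 : ⁅x, y⁆.a ≠ 0 := fun e => ne (eq_one.2 ⟨comm_t, e, (comm_Q hx hy).2.1, comm_c⟩)
  have he : star (z.a / ⁅x, y⁆.a) = z.a / ⁅x, y⁆.a := by rw [star_div₀, sa, sa]
  refine ⟨_, he, ?_⟩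
  have e1 : z.a / ⁅x, y⁆.a * ⁅x, y⁆.a = z.a := div_mul_cancel₀ _ h0
  generalize z.a / ⁅x, y⁆.a = e at he e1
  simp only [mem_QQ, mem_ZZ] at hx hy hz
  rw [comm_a] at e1
  ext
  · simp [hz.1]
  · rw [comm_a, ← e1]
    simp only [sc, star_mul', he, hx, hy]
    ring
  · simp [sc, hx, hz.2.1]
  · simp [hz.2.2]

theorem exists_pair (hs : ∃ e : K, star e ≠ e) (hx : x ∈ QQ K) :
    ∃ a ∈ QQ K, ∃ b ∈ QQ K, ⁅a, x⁆ = 1 ∧ ⁅b, x⁆ = 1 ∧ ⁅a, b⁆ ≠ 1 := by
  obtain ⟨s, s0, h⟩ := U5F.exists_skew hs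
  have h' : star s = -s := by linear_combination h
  have q : ∀ b t : K, el b t ∈ QQ K := fun _ _ => rfl
  have nz : ∀ b : K, b ≠ 0 → ∃ t : K, t * star b + star t * b ≠ 0 := fun b hb => by
    by_contra! k
    exact hb (tr_zero hs k)
  by_cases ht : x.t = 0
  · obtain ⟨t, t0, e⟩ : ∃ t : K, t ≠ 0 ∧ t * star x.b + star t * x.b = 0 := by
      by_cases hb : x.b = 0
      · exact ⟨1, one_ne_zero, by simp [hb]⟩
      · exact ⟨s * x.b, mul_ne_zero s0 hb, by rw [star_mul', h']; ring⟩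
    obtain ⟨b, hb⟩ := nz t t0
    refine ⟨el 0 t, q _ _, el b 0, q _ _, (c1 (q _ _) hx).2 ?_, (c1 (q _ _) hx).2 ?_,
      fun k => hb ?_⟩
    · simp only [be, cQ, el, star_zero]; linear_combination e
    · simp [be, cQ, el, ht]
    · have := (c1 (q _ _) (q _ _)).1 k
      simp only [be, cQ, el, star_zero] at this
      linear_combination this
  · obtain ⟨t, hb⟩ := nz (s * x.t) (mul_ne_zero s0 ht)
    obtain ⟨e, he⟩ := U5F.exists_one hs
    have h1 : star x.t ≠ 0 := star_ne_zero.2 ht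
    refine ⟨el (s * x.t) 0, q _ _, el (star e * (t * star x.b + star t * x.b) / star x.t) t, q _ _,
      (c1 (q _ _) hx).2 ?_, (c1 (q _ _) hx).2 ?_, fun k => hb ?_⟩
    · simp only [be, cQ, el, star_zero, star_mul', h']; ring
    · simp only [be, cQ, el, star_div₀, star_mul', star_add, star_star]
      field_simp
      linear_combination -(t * star x.b + star t * x.b) * he
    · have := (c1 (q _ _) (q _ _)).1 k
      simp only [be, cQ, el, star_zero] at this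
      linear_combination -this

theorem sq_case [CharP K 2] (F : Cf p ι) (h : Es p ι E) (le : E ≤ QQ K) (hx : x ∈ E) (ne : x * x ≠ 1) :
    E = QQ K := by
  have two : (2 : K) = 0 := CharTwo.two_eq_zero
  have hz : ∀ y ∈ QQ K, y * y ∈ ZZ K := fun y hy => by
    simp only [mem_QQ] at hy
    simp only [mem_ZZ, mul_t, mul_b, mul_c, hy]
    exact ⟨by linear_combination y.t * two, by linear_combination y.b * two, by simp⟩
  refine fin F h le fun g hg => mem_nr fun z hz' => ?_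
  have h0 : (x * x).a ≠ 0 := fun e =>
    ne (eq_one.2 ⟨(hz x (le hx)).1, e, (hz x (le hx)).2.1, (hz x (le hx)).2.2⟩)
  obtain ⟨r, hr⟩ := (bijective_frobenius K 2).2 (z.a / (x * x).a)
  rw [frobenius_def] at hr
  have hs : star r = r := (bijective_frobenius K 2).1 (by
    rw [frobenius_def, frobenius_def, ← _root_.star_pow, hr, star_div₀, sa, sa])
  have e1 : r ^ 2 * (x * x).a = z.a := by rw [hr, div_mul_cancel₀ _ h0]
  have q : sc r x ∈ QQ K := rfl
  have e : sc r x * sc r x = z := by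
    have c0 : x.c = 0 := le hx
    ext
    · rw [(hz _ q).1, hz'.1]
    · rw [← e1]
      simp only [mul_a, sc, star_mul', hs, c0]
      linear_combination -(r ^ 2 * x.a) * two
    · rw [(hz _ q).2.1, hz'.2.1]
    · rw [(hz _ q).2.2, hz'.2.2]
  obtain ⟨y, hy, c⟩ := nr_cj hg (sc_mem F h le hs hx)
  exact ⟨y * y, hz y (le hy), e ▸ c.mul c⟩

theorem x_case (F : Cf p ι) (h : Es p ι E) (le : E ≤ QQ K) (ab : ∀ x ∈ E, ∀ y ∈ E, ⁅x, y⁆ = 1)
    {s : Uf K} (s0 : s.c ≠ 0) (hn : ∀ x ∈ E, ⁅s, x⁆ ∈ E) :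
    E = QQ K ∨ (p = 2 ∧ ∃ t ≠ 0, E = Xt t) := by
  obtain ⟨x, hx, t0⟩ : ∃ x ∈ E, x.t ≠ 0 := by
    by_contra! k
    have : (⟨0, 0, 0, 1, star_zero K, star_one K⟩ : Uf K) ∈ E :=
      h.cent F fun x hx => comm_V rfl (k x hx)
    exact one_ne_zero (α := K) (le this)
  have c0 : x.c = 0 := le hx
  have t1 : star x.t ≠ 0 := star_ne_zero.2 t0
  have w : ∀ y ∈ E, y.t * star x.t + star y.t * x.t = 0 := fun y hy => by
    have := (c1 (le (hn x hx)) (le hy)).1 (ab _ (hn x hx) y hy)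
    simp only [be, cQ, comm_t, comm_b, c0, star_zero, star_sub, star_mul', Uf.sc, mul_zero,
      zero_mul] at this
    exact mul_left_cancel₀ s0 (by linear_combination this)
  have two : (2 : K) = 0 := mul_left_cancel₀ (mul_ne_zero t0 t1) (by linear_combination w x hx)
  have hp : p = 2 := (Nat.prime_dvd_prime_iff_eq Fact.out Nat.prime_two).1
    ((CharP.cast_eq_zero_iff K p 2).1 (by exact_mod_cast two))
  subst hp
  by_cases sq : ∃ y ∈ E, y * y ≠ 1
  · obtain ⟨y, hy, ne⟩ := sq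
    exact Or.inl (sq_case F h le hy ne)
  push Not at sq
  refine Or.inr ⟨rfl, x.t, t0, ?_⟩
  have q0 : x.t * star x.b + star x.t * x.b = 0 := by
    have := congrArg Uf.a (sq x hx)
    simp only [mul_a, one_a, c0] at this
    linear_combination this - x.a * two
  have he : star (x.b / (x.t * s.c)) = x.b / (x.t * s.c) := by
    rw [star_div₀, star_mul', Uf.sc, div_eq_div_iff (mul_ne_zero t1 s0) (mul_ne_zero t0 s0)]
    linear_combination s.c * q0 - s.c * star x.t * x.b * two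
  have hu := mul_mem (sc_mem F h le he (hn x hx)) hx
  have ut : (sc (x.b / (x.t * s.c)) ⁅s, x⁆ * x).t = x.t := by simp [sc]
  have ub : (sc (x.b / (x.t * s.c)) ⁅s, x⁆ * x).b = 0 := by
    simp only [mul_b, sc, comm_b, comm_t, c0]
    field_simp
    ring
  have l1 : E ≤ Xt x.t := fun y hy => by
    have := (c1 (le hu) (le hy)).1 (ab _ hu y hy)
    simp only [be, cQ, ut, ub, star_zero] at this
    exact ⟨by linear_combination w y hy - star y.t * x.t * two,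
      by linear_combination this - x.t * star y.b * two, le hy⟩
  refine le_antisymm l1 fun y hy => h.cent F fun z hz => (c1 hy.2.2 (le hz)).2 ?_
  obtain ⟨a1, a2, -⟩ := hy
  obtain ⟨b1, b2, -⟩ := l1 hz
  simp only [be, cQ]
  refine mul_left_cancel₀ t0 ?_
  linear_combination -y.t * b2 - z.b * a1 + z.t * a2 + y.b * b1 +
    (y.t * z.b * star x.t - z.t * y.b * star x.t) * two

theorem n_case (hs : ∃ e : K, star e ≠ e) (F : Cf p ι) (h : Es p ι E) (le : E ≤ QQ K)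
    (ab : ∀ x ∈ E, ∀ y ∈ E, ⁅x, y⁆ = 1) (hn : ∀ s : Uf K, (∀ x ∈ E, ⁅s, x⁆ ∈ E) → s ∈ QQ K) :
    E = QQ K := by
  obtain ⟨M, _, _, c, o, ci, -⟩ := exists_co F.inj (E := E)
    fun x hx y hy => commutatorElement_eq_one_iff_mul_comm.1 (ab x hx y hy)
  obtain ⟨Z, hZ, -, hZ'⟩ := co_sb F.inj o ci (zle F h)
  have : Finite (M ≃ₗ[ℤ] M) := DFunLike.finite _
  have k : ∀ s φ, Ac ι E c (ι s) φ → ∀ x ∈ E, ⁅s, x⁆ ∈ E ∧ φ • c x - c x = c ⁅s, x⁆ := fun s φ a x hx => by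
    have m := (Cj.self s x).mem F.inj a.1 hx
    rw [a.2 x hx _ m (Cj.self s x), ← o.div m hx]
    exact ⟨mul_mem m (inv_mem hx), rfl⟩
  have key := ha (Z := Z) (es_syl F h o) ?_ ?_ ?_
  · refine fin F h le fun g hg => ?_
    obtain ⟨φ, a⟩ := o.exists_ac hg
    exact (hZ' g φ a).1 (key ⟨g, mem_top _, a⟩)
  · rintro φ ⟨_, ⟨s, rfl⟩, a⟩ z hz
    obtain ⟨x, hx, rfl⟩ := o.surj z
    rw [← sub_eq_zero, (k s φ a x hx).2, comm_Z0 s ((hZ x hx).1 hz), o.one]
  · rintro φ ⟨_, ⟨s, rfl⟩, a⟩ ne m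
    have q := hn s fun x hx => (k s φ a x hx).1
    constructor
    · intro hm
      obtain ⟨z, hz, rfl⟩ := o.surj m
      obtain ⟨x, hx, nx⟩ : ∃ x ∈ E, ⁅s, x⁆ ≠ 1 := by
        by_contra! k'
        refine ne (eq_of_smul_eq_smul fun v : M => ?_)
        obtain ⟨x, hx, rfl⟩ := o.surj v
        rw [one_smul, ← sub_eq_zero, (k s φ a x hx).2, k' x hx, o.one]
      obtain ⟨e, he, e'⟩ := exists_sc q (le hx) nx ((hZ z hz).1 hm)
      exact ⟨_, by rw [(k s φ a _ (sc_mem F h le he hx)).2, e']⟩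
    · rintro ⟨v, rfl⟩
      obtain ⟨x, hx, rfl⟩ := o.surj v
      rw [(k s φ a x hx).2]
      exact (hZ _ (k s φ a x hx).1).2 (comm_Q q (le hx))
  · intro v
    obtain ⟨x, hx, rfl⟩ := o.surj v
    obtain ⟨s, q, ns, e⟩ : ∃ s ∈ QQ K, s ∉ E ∧ ⁅s, x⁆ = 1 := by
      obtain ⟨a, ha, b, hb, e1, e2, e3⟩ := exists_pair hs (le hx)
      by_cases m : a ∈ E
      · exact ⟨b, hb, fun m' => e3 (ab a m b m'), e2⟩
      · exact ⟨a, ha, m, e1⟩
    obtain ⟨φ, a⟩ := o.exists_ac (self_nr (ι := ι) fun y hy => zle F h (comm_Q q (le hy)))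
    refine ⟨φ, ⟨_, ⟨s, rfl⟩, a⟩, fun e1 => ns (h.cent F fun y hy => ci _ (k s φ a y hy).1 ?_), ?_⟩
    · rw [← (k s φ a y hy).2, e1, one_smul, sub_self]
    · rw [← sub_eq_zero, (k s φ a x hx).2, e, o.one]

end E1

open E1 in
theorem es_Q (hs : ∃ e : K, star e ≠ e) (F : Cf p ι) (h : Es p ι E) (le : E ≤ QQ K) :
    E = QQ K ∨ (p = 2 ∧ ∃ t ≠ 0, E = Xt t) := by
  by_cases ab : ∀ x ∈ E, ∀ y ∈ E, ⁅x, y⁆ = 1
  · by_cases hn : ∀ s : Uf K, (∀ x ∈ E, ⁅s, x⁆ ∈ E) → s ∈ QQ K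
    · exact Or.inl (n_case hs F h le ab hn)
    · push Not at hn
      obtain ⟨s, h1, h2⟩ := hn
      exact x_case F h le ab h2 h1
  · push Not at ab
    obtain ⟨x, hx, y, hy, ne⟩ := ab
    have e : ⁅E, E⁆ = ZZ K := le_antisymm (commutator_le.2 fun a ha b hb => comm_Q (le ha) (le hb))
      fun z hz => by
        obtain ⟨e, he, rfl⟩ := exists_sc (le hx) (le hy) ne hz
        exact commutator_mem_commutator hx (sc_mem F h le he hy)
    exact Or.inl (fin F h le fun g hg => e ▸ U5F.nr_comm hg hg)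

end U4F
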