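import Mathlib
import Cfsg.Agent.Base
import Cfsg.Agent.Lib.U4F.Au

set_option autoImplicit false

namespace U4F

open Subgroup H93.SX
open H68 (SylowIn)
open U5F (qq)
open scoped commutatorElement

universe u v

variable {K : Type*} {Γ : Type u} {Γ' : Type v} [Field K] [StarRing K] [Finite K] [Group Γ] [Finite Γ]
  [Group Γ'] [Finite Γ'] {p : ℕ} [Fact p.Prime] [CharP K p] {ι : Uf K →* Γ} {ψ : Uf K →* Γ'}
  {E : Subgroup (Uf K)} {g : Γ} {k : Γ'} {x y : Uf K} {t n l n' l' : K} {σ σ' : K ≃⋆+* K}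

omit [Finite K] in
theorem E2.memW {z : Uf K} (ne : x.t * y.c ≠ y.t * x.c) (h1 : ⁅z, x⁆.b = 0) (h2 : ⁅z, y⁆.b = 0) :
    z ∈ WW K := by
  rw [Uf.comm_b] at h1 h2
  have d := sub_ne_zero.2 ne
  exact ⟨(mul_eq_zero_iff_right d).1 (by linear_combination x.t * h2 - y.t * h1),
    (mul_eq_zero_iff_right d).1 (by linear_combination x.c * h2 - y.c * h1)⟩

omit [Finite K] in
theorem E2.commW {w z : Uf K} (hw : w ∈ WW K) : ⁅w, z⁆ = 1 ↔ z.t * star w.b + star z.t * w.b = 0 := by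
  rw [Uf.eq_one, Uf.comm_a, Uf.comm_b, hw.1, hw.2]
  simp only [Uf.comm_t, Uf.comm_c, zero_mul, mul_zero, star_zero, add_zero, zero_sub, sub_self, and_true,
    true_and, neg_eq_zero]

omit [Finite K] in
theorem E2.xt {u v : Uf K} (hu : u ∈ Et t) (hv : v ∈ Et t) : ⁅u, v⁆ ∈ Xt t := by
  rw [mem_Et] at hu hv
  simp only [mem_Xt, Uf.comm_t, Uf.comm_b, Uf.comm_c, star_zero, zero_mul, star_sub, star_mul', Uf.sc,
    true_and, and_true]
  linear_combination v.c * hu - u.c * hv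

theorem es_plane (hs : ∃ e : K, star e ≠ e) (F : Cf p ι) (h : Es p ι E) (hx : x ∈ E) (hy : y ∈ E)
    (ne : x.t * y.c ≠ y.t * x.c) : p = 2 ∧ ∃ t ≠ 0, E = Et t := by
  have z0 : ∀ z ∈ ZZ K, ∀ u : Uf K, ⁅z, u⁆ = 1 := fun z hz u => by
    rw [← commutatorElement_inv, comm_Z0 u hz, inv_one]
  have hZ : ZZ K ≤ E := fun z hz => h.cent F fun u _ => z0 z hz u
  obtain ⟨A, hA⟩ : ∃ A : Subgroup (Uf K), ∀ z, z ∈ A ↔ z ∈ E ∧ ∀ u ∈ E, ⁅z, u⁆ = 1 :=
    ⟨E ⊓ centralizer E, fun z => and_congr_right fun _ => forall₂_congr fun u _ => by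
      rw [commutatorElement_eq_one_iff_mul_comm, eq_comm]⟩
  have nA : nr ι E ≤ nr ι A := fun g hg => U5F.nr_cent F.inj hg hg hA
  have AW : ∀ z ∈ A, z ∈ WW K := fun z hz =>
    E2.memW ne (by rw [((hA z).1 hz).2 x hx]; rfl) (by rw [((hA z).1 hz).2 y hy]; rfl)
  have ZA : ZZ K ≤ A := fun z hz => (hA z).2 ⟨hZ hz, fun u _ => z0 z hz u⟩
  have chn : ∀ s : Uf K, (∀ u ∈ E, ⁅s, u⁆ ∈ A) → (∀ a ∈ A, ⁅s, a⁆ = 1) → s ∈ E := fun s h1 h2 =>
    h.chain F nA (B := ⊥) (C := ⊥) (fun _ _ => nr_bot) (fun _ _ => nr_bot)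
      (self_ch (fun z hz => ((hA z).1 hz).1) bot_le le_rfl h1 h2 (fun _ e => by simp_all)
        fun _ e => by simp_all)
  have hW : WW K ≤ E := fun w hw => chn w
    (fun u _ => ZA (by rw [← commutatorElement_inv]; exact inv_mem (comm_Z u hw)))
    fun a ha => comm_V hw.1 (AW a ha).1
  have fin : ¬ nr ι E ≤ nr ι (ZZ K) := fun nZ => (seW hW).not F h
    (fun g hg => nr_rc F.inj 0 hg hg (nZ hg) fun z => ⟨fun hz => ⟨hW hz, by simp, fun u _ => by
      rw [← commutatorElement_inv]; exact inv_mem (comm_Z u hz)⟩,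
      fun hz => E2.memW ne (hz.2.2 x hx).2.1 (hz.2.2 y hy).2.1⟩) nZ fun _ _ => nr_bot
  have hc : ∀ z ∈ A, ∀ u ∈ E, u.t * star z.b + star u.t * z.b = 0 := fun z hz u hu =>
    (E2.commW (AW z hz)).1 (((hA z).1 hz).2 u hu)
  have hl : ∀ u ∈ E, ∀ v ∈ E, u.t * star v.t = star u.t * v.t := fun u hu v hv => by
    by_contra e
    refine fin (le_antisymm ZA (fun z hz => ?_) ▸ nA)
    exact ⟨(AW z hz).1, (mul_eq_zero_iff_right (sub_ne_zero.2 e)).1
      (by linear_combination u.t * hc z hz v hv - v.t * hc z hz u hu), (AW z hz).2⟩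
  obtain ⟨u, hu, u0⟩ : ∃ u ∈ E, u.t ≠ 0 := by
    by_contra! e
    exact ne (by rw [e x hx, e y hy, zero_mul, zero_mul])
  have s0 : star u.t ≠ 0 := star_ne_zero.2 u0
  have hE : E ≤ Et u.t := fun v hv => hl v hv u hu
  by_cases h2 : p = 2
  · have two : (2 : K) = 0 := by simpa [h2] using CharP.cast_eq_zero K p
    refine ⟨h2, u.t, u0, le_antisymm hE fun s hs => chn s (fun v hv => (hA _).2
      ⟨hW (comm_W s v), fun w hw => (E2.commW (comm_W s v)).2 ?_⟩) fun a ha => ?_⟩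
    · have e1 := (E2.xt hs (hE hv)).2.1
      have e2 := hl w hw u hu
      generalize ⁅s, v⁆.b = b at e1 ⊢
      refine (mul_eq_zero_iff_right u0).1 ?_
      linear_combination (-w.t) * e1 - b * e2 + w.t * b * star u.t * two
    · rw [← commutatorElement_inv, inv_eq_one, E2.commW (AW a ha)]
      refine (mul_eq_zero_iff_right u0).1 ?_
      linear_combination s.t * hc a ha u hu - a.b * mem_Et.1 hs
  · have two : (2 : K) ≠ 0 := fun e => h2 ((Nat.prime_dvd_prime_iff_eq Fact.out Nat.prime_two).1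
      ((CharP.cast_eq_zero_iff K p 2).1 (by simpa using e)))
    have hX : ⁅E, E⁆ ≤ Xt u.t := commutator_le.2 fun a ha b hb => E2.xt (hE ha) (hE hb)
    have e : ZZ K = ⁅E, E⁆ ⊓ A := le_antisymm (le_inf (fun z hz => by
        obtain ⟨c, hc⟩ := U5F.exists_tr hs z.ha
        have hw : (⟨0, 0, c / star u.t, 0, by simp, by simp⟩ : Uf K) ∈ WW K := ⟨rfl, rfl⟩
        convert commutator_mem_commutator hu (hW hw)
        ext
        · simp [hz.1]
        · simp [Uf.comm_a, ← hc]; field_simp; ring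
        · simp [hz.2.1]
        · simp [hz.2.2]) ZA) fun z hz =>
      ⟨(AW z hz.2).1, (mul_eq_zero_iff_right (mul_ne_zero two s0)).1
        (by linear_combination hc z hz.2 u hu + (hX hz.1).2.1), (AW z hz.2).2⟩
    exact (fin fun g hg => e ▸ U5F.nr_inf F.inj (U5F.nr_comm hg hg) (nA hg)).elim

end U4F
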