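import Mathlib
import Cfsg.Agent.Base
import Cfsg.Agent.Lib.U4F.Au

set_option autoImplicit false

namespace U4F

open Subgroup H93.SX
open H68 (SylowIn)
open U5F (qq)
open scoped commutatorElement

universe u v

variable {K : Type*} {Γ : Type u} {Γ' : Type v} [Field K] [StarRing K] [Finite K] [Group Γ] [Finite Γ]
  [Group Γ'] [Finite Γ'] {p : ℕ} [Fact p.Prime] [CharP K p] {ι : Uf K →* Γ} {ψ : Uf K →* Γ'}
  {E : Subgroup (Uf K)} {g : Γ} {k : Γ'} {x y : Uf K} {t n l n' l' : K} {σ σ' : K ≃⋆+* K}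

namespace E3

omit [Finite K] in
/-- The elements of the derived group that commute with the shear `t`. -/
def YY (t : K) : Subgroup (Uf K) where
  carrier := {x | x.t = 0 ∧ x.c = 0 ∧ t * star x.b + star t * x.b = 0}
  one_mem' := by simp
  mul_mem' := fun {a b} ha hb => by
    simp only [Set.mem_ofPred_eq, Uf.mul_t, Uf.mul_b, Uf.mul_c, ha.1, hb.1, ha.2.1, hb.2.1, mul_zero,
      add_zero, star_add, true_and] at *
    linear_combination ha + hb
  inv_mem' := fun {a} ha => by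
    simp only [Set.mem_ofPred_eq, Uf.inv_t, Uf.inv_b, Uf.inv_c, ha.1, ha.2.1, mul_zero, add_zero,
      neg_zero, star_neg, true_and] at *
    linear_combination -ha

theorem eqns_E3 : True := by
  have := @YY.eq_1.{0}
  trivial

omit [Finite K] in
theorem mem_YY : y ∈ YY t ↔ y.t = 0 ∧ y.c = 0 ∧ t * star y.b + star t * y.b = 0 := Iff.rfl

omit [Finite K] in
theorem coef (h2 : x.c ≠ 0) (e : x.t * y.c = y.t * x.c) :
    ∃ f : K, star f = f ∧ y.t = f * x.t ∧ y.c = f * x.c :=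
  ⟨y.c / x.c, by rw [star_div₀, y.hc, x.hc], by field_simp; linear_combination -e, by field_simp⟩

omit [Finite K] in
theorem cent_ab {z : Uf K} (h2 : x.c ≠ 0) (a : ⁅x, y⁆ = 1) (b : ⁅x, z⁆ = 1) : ⁅y, z⁆ = 1 := by
  rw [Uf.eq_one, Uf.comm_a, Uf.comm_b] at *
  obtain ⟨f, f1, f2, f3⟩ := coef (y := y) h2 (by linear_combination a.2.2.1)
  obtain ⟨e, e1, e2, e3⟩ := coef (y := z) h2 (by linear_combination b.2.2.1)
  have a' := a.2.1
  have b' := b.2.1
  rw [f2, f3, star_mul', f1] at a'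
  rw [e2, e3, star_mul', e1] at b'
  refine ⟨Uf.comm_t, ?_, ?_, Uf.comm_c⟩
  · rw [f2, f3, e2, e3, star_mul', star_mul', f1, e1]
    linear_combination f * b' - e * a'
  · rw [f2, f3, e2, e3]; ring

omit [Finite K] in
theorem Z_Y (h : y ∈ ZZ K) : y ∈ YY t := ⟨h.1, h.2.2, by rw [h.2.1]; simp⟩

omit [Finite K] in
theorem Y_W (h : y ∈ YY t) : y ∈ WW K := ⟨h.1, h.2.1⟩

omit [Finite K] in
theorem W_V (h : y ∈ WW K) : y ∈ VV K := h.1

omit [Finite K] in
theorem comm_Y {f : K} (hf : star f = f) (e : x.t = f * t) (h : y ∈ YY t) : ⁅y, x⁆ = 1 := by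
  rw [Uf.eq_one, Uf.comm_a, Uf.comm_b, h.1, h.2.1, e, star_mul', hf]
  refine ⟨Uf.comm_t, ?_, by ring, Uf.comm_c⟩
  rw [star_zero]
  linear_combination -f * h.2.2

omit [Finite K] in
theorem comm_W_Z (h : x ∈ WW K) : ⁅x, y⁆ ∈ ZZ K := by
  rw [← commutatorElement_inv]
  exact inv_mem (comm_Z y h)

end E3

open E3

theorem es_line (hs : ∃ e : K, star e ≠ e) (F : Cf p ι) (h : Es p ι E) (e : ∀ x ∈ E, ∀ y ∈ E, x.t * y.c = y.t * x.c)
    (hx : x ∈ E) (h1 : x.t ≠ 0) (h2 : x.c ≠ 0) : p ≠ 2 ∧ ∀ y, y ∈ E ↔ ⁅x, y⁆ = 1 := by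
  have co : ∀ y ∈ E, ∃ f : K, star f = f ∧ y.t = f * x.t ∧ y.c = f * x.c :=
    fun y hy => coef h2 (e x hx y hy)
  have cY : ∀ w ∈ YY x.t, ∀ y ∈ E, ⁅w, y⁆ = 1 := fun w hw y hy =>
    let ⟨_, f1, f2, _⟩ := co y hy; comm_Y f1 f2 hw
  have YE : YY x.t ≤ E := fun w hw => h.cent F (cY w hw)
  have WE : nr ι E ≤ nr ι (YY x.t) → WW K ≤ E := fun a w hw =>
    h.chain F a (fun _ _ => nr_bot) (fun _ _ => nr_bot) (self_ch YE bot_le le_rfl
      (fun y _ => Z_Y (comm_W_Z hw)) (fun y hy => comm_V (W_V hw) (W_V (Y_W hy)))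
      (fun y hy => by rw [mem_bot.1 hy]; simp) fun y hy => by rw [mem_bot.1 hy]; simp)
  have h1' : star x.t ≠ 0 := star_ne_zero.2 h1
  -- elements of the derived group with a prescribed trace
  have tr : ∀ a : K, star a = a → ∃ w ∈ WW K, x.t * star w.b + star x.t * w.b = a := fun a ha => by
    obtain ⟨c, hc⟩ := U5F.exists_tr hs ha
    refine ⟨⟨0, 0, c / star x.t, 0, by simp, by simp⟩, ⟨rfl, rfl⟩, ?_⟩
    simp only [star_div₀, star_star]
    field_simp
    linear_combination hc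
  have nY : ¬ nr ι E ≤ nr ι (YY x.t) := fun a => by
    have b := WE a
    have c : ⁅E, E⁆ = ZZ K := by
      refine le_antisymm (commutator_le.2 fun y hy z hz => ⟨Uf.comm_t, ?_, Uf.comm_c⟩) fun z hz => ?_
      · rw [Uf.comm_b, e y hy z hz, sub_self]
      · obtain ⟨w, hw, e'⟩ := tr z.a z.ha
        have : ⁅x, w⁆ = z := by
          ext
          · rw [Uf.comm_t, hz.1]
          · rw [Uf.comm_a, hw.1, hw.2, star_zero]; linear_combination e'
          · rw [Uf.comm_b, hw.1, hw.2, hz.2.1]; ring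
          · rw [Uf.comm_c, hz.2.2]
        exact this ▸ commutator_mem_commutator hx (b hw)
    obtain ⟨s, s0, s1⟩ := U5F.exists_skew hs
    have u : (⟨s * x.t, 0, 0, 0, by simp, by simp⟩ : Uf K) ∈ E :=
      h.chain F a (B := ZZ K) (fun g hg => c ▸ U5F.nr_comm hg hg) (fun _ _ => nr_bot)
        (self_ch YE (fun _ => Z_Y) bot_le (fun y hy => ⟨Uf.comm_t, Uf.comm_c, by
          simp only [Uf.comm_b, mul_zero, sub_zero, star_mul', Uf.sc]
          linear_combination x.t * star x.t * y.c * s1⟩) (fun y hy => comm_Z _ (Y_W hy))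
          (fun y hy => comm_Z0 _ hy) fun y hy => by rw [mem_bot.1 hy]; simp)
    have := e x hx _ u
    simp only [mul_zero] at this
    exact mul_ne_zero (mul_ne_zero s0 h1) h2 this.symm
  have cen : ∃ z ∈ E, z ∉ YY x.t ∧ ∀ y ∈ E, ⁅z, y⁆ = 1 := by
    by_contra c
    push Not at c
    exact nY fun g hg => U5F.nr_cent F.inj hg hg fun z =>
      ⟨fun hz => ⟨YE hz, cY z hz⟩, fun hz => by
        by_contra hz'
        obtain ⟨y, hy, e'⟩ := c z hz.1 hz'
        exact e' (hz.2 y hy)⟩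
  obtain ⟨z, hz, z1, z2⟩ := cen
  have zc : z.c ≠ 0 := fun z3 => by
    obtain ⟨f, -, f2, f3⟩ := co z hz
    have f0 : f = 0 := (mul_eq_zero.1 (f3.symm.trans z3)).resolve_right h2
    have z4 : z.t = 0 := by rw [f2, f0, zero_mul]
    have := z2 x hx
    rw [Uf.eq_one, Uf.comm_a, z3, z4, star_zero] at this
    exact z1 ⟨z4, z3, by linear_combination -this.2.1⟩
  have ab : ∀ y ∈ E, ∀ w ∈ E, ⁅y, w⁆ = 1 := fun y hy w hw => cent_ab zc (z2 y hy) (z2 w hw)
  refine ⟨fun p2 => nY fun g hg => nr_rc F.inj 2 hg (X := ⊥) (B := ⊥) nr_bot nr_bot fun y => ?_,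
    fun y => ⟨ab x hx y, fun a => h.cent F fun w hw => cent_ab h2 a (ab x hx w hw)⟩⟩
  have two : (2 : K) = 0 := by
    have := CharP.cast_eq_zero K p
    rwa [p2] at this
  refine ⟨fun hy => ⟨YE hy, ?_, fun w hw => by rw [mem_bot.1 hw]; simp⟩, fun ⟨hy, a, _⟩ => ?_⟩
  · rw [mem_bot, pow_two, Uf.eq_one, Uf.mul_t, Uf.mul_a, Uf.mul_b, Uf.mul_c, hy.1, hy.2.1, star_zero]
    exact ⟨by ring, by linear_combination y.a * two, by linear_combination y.b * two, by ring⟩
  · obtain ⟨f, -, f2, f3⟩ := co y hy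
    rw [mem_bot, pow_two, Uf.eq_one, Uf.mul_b, f2, f3] at a
    have f0 : f = 0 := by
      have : f * f * (x.t * x.c) = 0 := by linear_combination a.2.2.1 - y.b * two
      simpa [h1, h2] using this
    have y1 : y.t = 0 := by rw [f2, f0, zero_mul]
    have y2 : y.c = 0 := by rw [f3, f0, zero_mul]
    have := ab y hy x hx
    rw [Uf.eq_one, Uf.comm_a, y1, y2, star_zero] at this
    exact ⟨y1, y2, by linear_combination -this.2.1⟩

end U4F
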