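import Mathlib
import Cfsg.Agent.Base
import Cfsg.Agent.Lib.U4F.Au
import Cfsg.Agent.Lib.U4F.Lm
import Cfsg.Agent.Lib.U4F.SE

set_option autoImplicit false

namespace U4F

open Subgroup H93.SX
open H68 (SylowIn)
open U5F (qq)
open scoped commutatorElement

universe u v

variable {K : Type*} {Γ : Type u} {Γ' : Type v} [Field K] [StarRing K] [Finite K] [Group Γ] [Finite Γ]
  [Group Γ'] [Finite Γ'] {p : ℕ} [Fact p.Prime] [CharP K p] {ι : Uf K →* Γ} {ψ : Uf K →* Γ'}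
  {E : Subgroup (Uf K)} {g : Γ} {k : Γ'} {x y : Uf K} {t n l n' l' : K} {σ σ' : K ≃⋆+* K}

namespace E4

/-- the hyperplane of `WW` given by `t` -/
def YY (t : K) : Subgroup (Uf K) where
  carrier := {x | x.t = 0 ∧ x.c = 0 ∧ t * star x.b + star t * x.b = 0}
  one_mem' := by simp
  mul_mem' := fun {a b} ha hb => by
    simp only [Set.mem_ofPred_eq, Uf.mul_t, Uf.mul_b, Uf.mul_c, star_add, ha.1, hb.1, ha.2.1, hb.2.1,
      mul_zero, add_zero, true_and] at *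
    linear_combination ha + hb
  inv_mem' := fun {a} ha => by
    simp only [Set.mem_ofPred_eq, Uf.inv_t, Uf.inv_b, Uf.inv_c, star_neg, ha.1, ha.2.1, mul_zero,
      add_zero, neg_zero, true_and] at *
    linear_combination -ha

omit [Finite K] in
theorem mem_YY : y ∈ YY t ↔ y.t = 0 ∧ y.c = 0 ∧ t * star y.b + star t * y.b = 0 := Iff.rfl

theorem tau (hs : ∃ e : K, star e ≠ e) (ht : t ≠ 0) {r : K} (hr : star r = r) :
    ∃ b, t * star b + star t * b = r := by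
  obtain ⟨w, hw⟩ := U5F.exists_tr hs hr
  have : star t ≠ 0 := star_ne_zero.2 ht
  refine ⟨w / star t, ?_⟩
  rw [star_div₀, star_star, ← hw]
  field_simp
  ring

omit [Finite K] in
theorem mem_iff (h4 : x.c ≠ 0) : ⁅x, y⁆ = 1 ↔ ∃ e : K, star e = e ∧ y.t = e * x.t ∧ y.c = e * x.c ∧
    x.t * star y.b + star x.t * y.b =
      e * (x.t * star x.b + star x.t * x.b) + (e ^ 2 - e) * (x.t * star x.t * x.c) := by
  rw [Uf.eq_one, Uf.comm_a, Uf.comm_b]
  constructor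
  · rintro ⟨-, a, b, -⟩
    have c1 : y.t = y.c / x.c * x.t := by field_simp; linear_combination -b
    have c2 : y.c = y.c / x.c * x.c := by field_simp
    have c3 : star (y.c / x.c) = y.c / x.c := by rw [star_div₀, y.hc, x.hc]
    generalize y.c / x.c = e at c1 c2 c3
    refine ⟨e, c3, c1, c2, ?_⟩
    rw [c1, c2, star_mul', c3] at a
    linear_combination a
  · rintro ⟨e, c3, c1, c2, a⟩
    refine ⟨Uf.comm_t, ?_, ?_, Uf.comm_c⟩
    · rw [c1, c2, star_mul', c3]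
      linear_combination a
    · rw [c1, c2]; ring

omit [Finite K] in
theorem ab (h4 : x.c ≠ 0) {y y' : Uf K} (a : ⁅x, y⁆ = 1) (b : ⁅x, y'⁆ = 1) : ⁅y, y'⁆ = 1 := by
  obtain ⟨e, c3, c1, c2, a⟩ := (mem_iff h4).1 a
  obtain ⟨e', d3, d1, d2, b⟩ := (mem_iff h4).1 b
  rw [Uf.eq_one, Uf.comm_a, Uf.comm_b]
  refine ⟨Uf.comm_t, ?_, ?_, Uf.comm_c⟩
  · rw [c1, c2, d1, d2, star_mul', star_mul', c3, d3]
    linear_combination e * b - e' * a
  · rw [c1, c2, d1, d2]; ring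

theorem all (hs : ∃ e : K, star e ≠ e) (h3 : x.t ≠ 0) (h4 : x.c ≠ 0) {e : K} (he : star e = e) :
    ∃ r : Uf K, ⁅x, r⁆ = 1 ∧ r.t = e * x.t ∧ r.c = e * x.c := by
  obtain ⟨b, hb⟩ := tau hs h3 (r := e * (x.t * star x.b + star x.t * x.b) +
    (e ^ 2 - e) * (x.t * star x.t * x.c)) (by
      simp only [star_add, star_mul', star_sub, sq, star_star, he, Uf.sc]; ring)
  exact ⟨⟨e * x.t, 0, b, e * x.c, star_zero K, by rw [star_mul', he, x.hc]⟩,
    (mem_iff h4).2 ⟨e, he, rfl, rfl, hb⟩, rfl, rfl⟩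

omit [Finite K] in
theorem yy (h4 : x.c ≠ 0) : y ∈ YY x.t ↔ ⁅x, y⁆ = 1 ∧ y.c = 0 := by
  rw [mem_iff h4, mem_YY]
  constructor
  · rintro ⟨a, b, c⟩
    exact ⟨⟨0, star_zero K, by simp [a], by simp [b], by simp [c]⟩, b⟩
  · rintro ⟨⟨e, -, a, b, c⟩, d⟩
    have : e = 0 := by simpa [d, h4] using b
    subst this
    exact ⟨by simpa using a, d, by simpa using c⟩

theorem cnt (hs : ∃ e : K, star e ≠ e) (h3 : x.t ≠ 0) (h4 : x.c ≠ 0)
    (e : ∀ y, y ∈ E ↔ ⁅x, y⁆ = 1) : Nat.card (ZZ K) * Nat.card E ≤ Nat.card (YY x.t) ^ 2 := by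
  choose r r1 r2 r3 using fun c : {k : K // star k = k} =>
    all hs h3 h4 (e := c / x.c) (by rw [star_div₀, c.2, x.hc])
  have r4 : ∀ c, (r c).c = c := fun c => by rw [r3]; field_simp
  have c1 : Nat.card E ≤ qq K * Nat.card (YY x.t) := by
    rw [qq, ← Nat.card_prod]
    refine Nat.card_le_card_of_injective (fun y => (⟨y.1.c, y.1.hc⟩,
      ⟨y * (r ⟨y.1.c, y.1.hc⟩)⁻¹, (yy h4).2 ⟨(e _).1 (mul_mem y.2 (inv_mem ((e _).2 (r1 _)))), by
        simp [r4]⟩⟩)) fun y y' h => ?_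
    simp only [Prod.mk.injEq, Subtype.mk.injEq] at h
    obtain ⟨a, b⟩ := h
    simp only [a] at b
    exact Subtype.ext (mul_right_cancel b)
  have c2 : qq K * qq K ≤ Nat.card (YY x.t) := by
    obtain ⟨s, s0, h⟩ := U5F.exists_skew hs
    rw [qq, ← Nat.card_prod]
    refine Nat.card_le_card_of_injective (fun v => ⟨⟨0, v.1, v.2 * s * x.t, 0, v.1.2, star_zero K⟩,
      rfl, rfl, by
        simp only [star_mul', v.2.2]
        linear_combination (v.2 : K) * x.t * star x.t * h⟩) fun v w h => ?_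
    have h1 : (v.1 : K) = w.1 := congrArg (fun y : YY x.t => y.1.a) h
    have h2 : (v.2 : K) * s * x.t = w.2 * s * x.t := congrArg (fun y : YY x.t => y.1.b) h
    exact Prod.ext (Subtype.ext h1) (Subtype.ext (mul_right_cancel₀ s0 (mul_right_cancel₀ h3 h2)))
  rw [card_ZZ, sq]
  calc qq K * Nat.card E ≤ qq K * (qq K * Nat.card (YY x.t)) := Nat.mul_le_mul_left _ c1
    _ = qq K * qq K * Nat.card (YY x.t) := by ring
    _ ≤ _ := Nat.mul_le_mul_right _ c2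

omit [Finite K] in
theorem cY {s : Uf K} (a : s.c = 0) (b : t * star s.t + star t * s.t = 0) : ⁅s, y⁆ ∈ YY t := by
  refine ⟨Uf.comm_t, Uf.comm_c, ?_⟩
  rw [Uf.comm_b, a, mul_zero, sub_zero, star_mul', y.hc]
  linear_combination y.c * b

end E4

open E4 in
theorem not_es_C (hs : ∃ e : K, star e ≠ e) (F : Cf p ι) (h2 : p ≠ 2) (h3 : x.t ≠ 0) (h4 : x.c ≠ 0)
    (e : ∀ y, y ∈ E ↔ ⁅x, y⁆ = 1) : ¬ Es p ι E := by
  intro h
  have two : (2 : K) ≠ 0 := fun e2 => h2 ((Nat.prime_dvd_prime_iff_eq Fact.out Nat.prime_two).1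
    ((CharP.cast_eq_zero_iff K p 2).1 (by exact_mod_cast e2)))
  have st : star x.t ≠ 0 := star_ne_zero.2 h3
  have abE : ∀ y ∈ E, ∀ y' ∈ E, y * y' = y' * y := fun y hy y' hy' =>
    commutatorElement_eq_one_iff_mul_comm.1 (ab h4 ((e _).1 hy) ((e _).1 hy'))
  have xE : x ∈ E := (e x).2 (commutatorElement_self x)
  have YE : YY x.t ≤ E := fun y hy => (e y).2 ((yy h4).1 hy).1
  have ZY : ZZ K ≤ YY x.t := fun y hy => ⟨hy.1, hy.2.2, by simp [hy.2.1]⟩
  have ZE := ZY.trans YE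
  have mY : ∀ y ∈ E, y ∈ YY x.t ↔ y.c = 0 := fun y hy => by rw [yy h4, and_iff_right ((e y).1 hy)]
  obtain ⟨M, _, _, c, o, ci, cM⟩ := exists_co F.inj abE
  obtain ⟨Z, z1, z2, z3⟩ := co_sb F.inj o ci ZE
  obtain ⟨Y, y1, y2, -⟩ := co_sb F.inj o ci YE
  haveI : Finite (M ≃ₗ[ℤ] M) := DFunLike.finite _
  -- the action of an element `s`
  let P : (M ≃ₗ[ℤ] M) → Uf K → Prop := fun a s => s.c = 0 ∧ x.t * star s.t + star x.t * s.t = 0 ∧
    ∀ y ∈ E, a • c y - c y = c ⁅s, y⁆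
  have act : ∀ a s, Ac ι E c (ι s) a → ∀ y ∈ E, ⁅s, y⁆ ∈ E ∧ a • c y - c y = c ⁅s, y⁆ := by
    intro a s ha y hy
    have m := (Cj.self s y).mem F.inj ha.1 hy
    exact ⟨mul_mem m (inv_mem hy), by rw [ha.2 y hy _ m (Cj.self s y), ← o.div m hy]; rfl⟩
  have nf : ∀ a ∈ au F.inj E c ι.range, ∃ s, P a s := by
    rintro a ⟨_, ⟨s, rfl⟩, ha⟩
    obtain ⟨r, r1, -, r3⟩ := all hs h3 h4 (e := s.c / x.c) (by rw [star_div₀, s.hc, x.hc])
    have rE := (e r).2 r1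
    have k : ∀ y ∈ E, ⁅s * r⁻¹, y⁆ = ⁅s, y⁆ := fun y hy => by
      have := abE _ (inv_mem rE) y hy
      calc ⁅s * r⁻¹, y⁆ = s * (r⁻¹ * y) * r * s⁻¹ * y⁻¹ := by simp only [commutatorElement_def]; group
        _ = _ := by rw [this]; simp only [commutatorElement_def]; group
    have k0 : (s * r⁻¹).c = 0 := by
      rw [Uf.mul_c, Uf.inv_c, r3]; field_simp; ring
    refine ⟨s * r⁻¹, k0, ?_, fun y hy => by rw [k y hy]; exact (act a s ha y hy).2⟩
    have k1 : ⁅s * r⁻¹, x⁆ ∈ YY x.t := (mY _ (k x xE ▸ (act a s ha x xE).1)).2 Uf.comm_c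
    have k2 := k1.2.2
    rw [Uf.comm_b, k0, mul_zero, sub_zero, star_mul', x.hc] at k2
    apply mul_left_cancel₀ h4
    linear_combination k2
  have ex : ∀ s : Uf K, s.c = 0 → x.t * star s.t + star x.t * s.t = 0 →
      ∃ a ∈ au F.inj E c ι.range, P a s := by
    intro s s1 s2
    have hn : ι s ∈ nr ι E := self_nr fun y _ => YE (cY s1 s2)
    obtain ⟨a, ha⟩ := o.exists_ac hn
    exact ⟨a, ⟨_, ⟨s, rfl⟩, ha⟩, s1, s2, fun y hy => (act a s ha y hy).2⟩
  have fx : ∀ a s, P a s → ∀ y ∈ E, a • c y = c y ↔ ⁅s, y⁆ = 1 := fun a s hp y hy => by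
    rw [← sub_eq_zero, hp.2.2 y hy]
    exact ⟨ci _ (YE (cY hp.1 hp.2.1)), fun k => by rw [k, o.one]⟩
  have ca : ∀ s : Uf K, s.t = 0 → s.c = 0 → ∀ y : Uf K, ∀ f : K, star f = f → y.t = f * x.t →
      ⁅s, y⁆.a = -(f * (x.t * star s.b + star x.t * s.b)) := fun s s1 s2 y f f1 f2 => by
    rw [Uf.comm_a, s1, s2, f2, star_mul', f1, star_zero]; ring
  have fY : ∀ a s, P a s → s.t = 0 → x.t * star s.b + star x.t * s.b ≠ 0 →
      ∀ v, a • v = v ↔ v ∈ Y := by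
    intro a s hp s1 s2 v
    obtain ⟨y, hy, rfl⟩ := o.surj v
    obtain ⟨f, f1, f2, f3, -⟩ := (mem_iff h4).1 ((e y).1 hy)
    rw [fx a s hp y hy, y1 y hy, mY y hy, Uf.eq_one, ca s s1 hp.1 y f f1 f2, Uf.comm_b, s1, hp.1, f3]
    simp [s2, h4]
  have key := hz (Z := Z) (Y := Y) (es_syl F h o) ?_ ?_ ?_ ?_ ?_ ?_ ?_
  · have nZ : nr ι E ≤ nr ι (ZZ K) := fun g hg => by
      obtain ⟨a, ha⟩ := o.exists_ac hg
      exact (z3 g a ha).1 (key ⟨g, mem_top _, ha⟩)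
    let w : Uf K := ⟨0, 0, x.t, 0, star_zero K, star_zero K⟩
    have wE : w ∈ E := h.chain F nZ (fun _ _ => nr_bot) (fun _ _ => nr_bot)
      (self_ch ZE bot_le le_rfl (fun y _ => by simp [w]) (fun y hy => comm_Z0 w hy)
        (fun y hy => by rw [mem_bot.1 hy]; simp) fun y hy => by rw [mem_bot.1 hy]; simp)
    have := ((mY w wE).2 rfl).2.2
    apply mul_ne_zero two (mul_ne_zero h3 st)
    simp only [w] at this
    linear_combination this
  · obtain ⟨s, s0, hs'⟩ := U5F.exists_skew hs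
    let w : Uf K := ⟨0, 0, s * x.t, 0, star_zero K, star_zero K⟩
    have wY : w ∈ YY x.t := ⟨rfl, rfl, by
      simp only [w, star_mul']; linear_combination x.t * star x.t * hs'⟩
    intro k
    have := (z1 w (YE wY)).1 (k ▸ (y1 w (YE wY)).2 wY)
    exact mul_ne_zero s0 h3 this.2.1
  · intro v hv
    obtain ⟨y, hy, rfl⟩ := o.surj v
    exact (y1 y hy).2 (ZY ((z1 y hy).1 hv))
  · intro a ha v hv
    obtain ⟨y, hy, rfl⟩ := o.surj v
    obtain ⟨s, hp⟩ := nf a ha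
    exact (fx a s hp y hy).2 (comm_Z0 s ((z1 y hy).1 hv))
  · let w : Uf K := ⟨0, 0, x.t, 0, star_zero K, star_zero K⟩
    obtain ⟨a, ha, hp⟩ := ex w rfl (by simp [w])
    have k := fY a w hp rfl fun k => mul_ne_zero two (mul_ne_zero h3 st) (by
      simp only [w] at k; linear_combination k)
    refine ⟨a, ha, ?_, k⟩
    rintro rfl
    exact h4 ((mY x xE).1 ((y1 x xE).1 ((k _).1 (one_smul _ _))))
  · intro a ha a1
    obtain ⟨s, hp⟩ := nf a ha
    by_cases s1 : s.t = 0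
    · have s2 : x.t * star s.b + star x.t * s.b ≠ 0 := fun k => a1 (eq_of_smul_eq_smul fun v : M => by
        obtain ⟨y, hy, rfl⟩ := o.surj v
        obtain ⟨f, f1, f2, f3, -⟩ := (mem_iff h4).1 ((e y).1 hy)
        rw [one_smul, fx a s hp y hy, Uf.eq_one, ca s s1 hp.1 y f f1 f2, Uf.comm_b, s1, hp.1, k]
        simp)
      refine .inl ⟨fY a s hp s1 s2, fun m => ⟨fun hm => ?_, ?_⟩⟩
      · obtain ⟨z, hz, rfl⟩ := o.surj m
        have zZ := (z1 z hz).1 hm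
        have f1 : star (-z.a / (x.t * star s.b + star x.t * s.b)) =
            -z.a / (x.t * star s.b + star x.t * s.b) := by
          simp only [star_div₀, star_neg, star_add, star_mul', star_star, Uf.sa]
          rw [add_comm]
        obtain ⟨r, r1, r2, -⟩ := all hs h3 h4 f1
        refine ⟨c r, ?_⟩
        rw [hp.2.2 r ((e r).2 r1)]
        congr 1
        ext
        · rw [Uf.comm_t, zZ.1]
        · rw [ca s s1 hp.1 r _ f1 r2]; field_simp
        · rw [Uf.comm_b, s1, hp.1, zZ.2.1]; ring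
        · rw [Uf.comm_c, zZ.2.2]
      · rintro ⟨v, rfl⟩
        obtain ⟨y, hy, rfl⟩ := o.surj v
        have k : ⁅s, y⁆ ∈ ZZ K := by simp [s1, hp.1]
        rw [hp.2.2 y hy]
        exact (z1 _ (ZE k)).2 k
    · refine .inr fun v => ?_
      obtain ⟨y, hy, rfl⟩ := o.surj v
      rw [fx a s hp y hy, z1 y hy]
      refine ⟨fun k => ?_, comm_Z0 s⟩
      rw [Uf.eq_one, Uf.comm_a, Uf.comm_b, hp.1] at k
      have k1 : y.c = 0 := by simpa [s1] using k.2.2.1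
      obtain ⟨k2, -, k3⟩ := (mY y hy).2 k1
      refine ⟨k2, ?_, k1⟩
      have k4 := k.2.1
      rw [k1, k2, star_zero] at k4
      apply mul_left_cancel₀ (mul_ne_zero two (mul_ne_zero st s1))
      linear_combination s.t * k3 + y.b * hp.2.1 - x.t * k4
  · intro v hv m hm
    obtain ⟨y, hy, rfl⟩ := o.surj v
    obtain ⟨z, hz, rfl⟩ := o.surj m
    obtain ⟨f, f1, f2, f3, -⟩ := (mem_iff h4).1 ((e y).1 hy)
    have c0 : y.c ≠ 0 := fun k => hv ((y1 y hy).2 ((mY y hy).2 k))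
    have f0 : f ≠ 0 := fun k => c0 (by rw [f3, k, zero_mul])
    obtain ⟨k1, k2, k3⟩ := (y1 z hz).1 hm
    obtain ⟨u, hu⟩ : ∃ u, z.b = u * y.c := ⟨z.b / y.c, by field_simp⟩
    obtain ⟨b, hb⟩ := tau hs h3 (r := (u * star y.b + star u * y.b + u * star u * y.c - z.a) / f) (by
      simp only [star_div₀, star_sub, star_add, star_mul', star_star, Uf.sa, Uf.sc, f1]; ring)
    let s : Uf K := ⟨u, 0, b, 0, star_zero K, star_zero K⟩
    obtain ⟨a, ha, hp⟩ := ex s rfl (by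
      apply mul_left_cancel₀ c0
      rw [hu, star_mul', y.hc] at k3
      simp only [s]
      linear_combination k3)
    refine ⟨a, ha, ?_⟩
    rw [← sub_eq_iff_eq_add', hp.2.2 y hy]
    congr 1
    ext
    · rw [Uf.comm_t, k1]
    · rw [Uf.comm_a, f2, star_mul', f1]
      rw [eq_div_iff f0] at hb
      simp only [s]
      linear_combination -hb
    · rw [Uf.comm_b, hu]; simp [s]
    · rw [Uf.comm_c, k2]
  · rw [z2, y2, cM]
    exact cnt hs h3 h4 e

end U4F
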