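import Mathlib
import Cfsg.Agent.Base
import Cfsg.Agent.Lib.U4F.Au
import Cfsg.Agent.Lib.U4F.SE

set_option autoImplicit false

namespace U4F

open Subgroup H93.SX
open H68 (SylowIn)
open U5F (qq)
open scoped commutatorElement

universe u v

namespace ED

section Lin

variable {F G : Type*} [Field F] [CharP F 2]

/-- The action on the coordinates `(y, a, x)`. -/
def ta (n k f c : F) (v : F × F × F) : F × F × F :=
  (v.1, v.2.1 + k * v.2.2 + f * v.1 + n * c * v.1 ^ 2, v.2.2 + c * v.1)

variable (F) in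
/-- The fixed space. -/
def YY : AddSubgroup (F × F × F) where
  carrier := {v | v.1 = 0}
  zero_mem' := rfl
  add_mem' := fun {a b} ha hb => by simp_all
  neg_mem' := fun {a} ha => by simp_all

variable (F) in
/-- The centre. -/
def Z0 : AddSubgroup (F × F × F) where
  carrier := {v | v.1 = 0 ∧ v.2.2 = 0}
  zero_mem' := ⟨rfl, rfl⟩
  add_mem' := fun {a b} ha hb => by simp_all
  neg_mem' := fun {a} ha => by simp_all

omit [CharP F 2] in
theorem mem_YY {v : F × F × F} : v ∈ YY F ↔ v.1 = 0 := Iff.rfl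
omit [CharP F 2] in
theorem mem_Z0 {v : F × F × F} : v ∈ Z0 F ↔ v.1 = 0 ∧ v.2.2 = 0 := Iff.rfl

theorem two : (2 : F) = 0 := CharP.cast_eq_zero F 2

theorem hM : ∃ m, ∀ x : F × F × F, 2 ^ m • x = 0 := ⟨1, fun x => by
  have h := two (F := F)
  ext <;> simp [h]⟩

theorem ta_ta (n f c : F) (v : F × F × F) : ta n 0 f c (ta n 0 f c v) = v := by
  have h := two (F := F)
  ext
  · rfl
  · simp only [ta]; linear_combination (f * v.1 + n * c * v.1 ^ 2) * h
  · simp only [ta]; linear_combination (c * v.1) * h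

omit [CharP F 2] in
theorem ta_Y (n f c : F) {v : F × F × F} (h : v.1 = 0) : ta n 0 f c v = v := by
  ext <;> simp [ta, h]

variable [Group G] [Finite G] [DistribMulAction G (F × F × F)] [FaithfulSMul G (F × F × F)]
  {H A N : Subgroup G} {n : F}

omit [Finite G] in
theorem sq_one {a : G} {f c : F} (h : ∀ v : F × F × F, a • v = ta n 0 f c v) : a ^ 2 = 1 :=
  eq_of_smul_eq_smul fun v : F × F × F => by rw [pow_two, mul_smul, h, h, ta_ta, one_smul]

omit [Finite G] [FaithfulSMul G (F × F × F)] [CharP F 2] in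
theorem le_st (act : ∀ g ∈ A, ∃ k f c, ∀ v : F × F × F, g • v = ta n k f c v) :
    A ≤ st G (Z0 F) (YY F) := fun g hg => by
  obtain ⟨k, f, c, e⟩ := act g hg
  refine ⟨fun v => ?_, fun v hv => ?_, fun v hv => ?_⟩
  · rw [e, mem_YY]; simp [ta]
  · rw [e, mem_Z0]; rw [mem_YY] at hv; simp [ta, hv]
  · rw [e]; rw [mem_Z0] at hv; ext <;> simp [ta, hv.1, hv.2]

/-- The stabiliser of the fixed space normalises the group of the elements with `k = 0`. -/
theorem conj_two (s : SylowIn 2 A H) (act : ∀ g ∈ A, ∃ k f c, ∀ v : F × F × F, g • v = ta n k f c v)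
    {h a : G} (hh : h ∈ H) (hY : h ∈ sb G (YY F)) (ha : a ∈ A) {f c : F}
    (e : ∀ v : F × F × F, a • v = ta n 0 f c v) :
    h * a * h⁻¹ ∈ A ∧ ∃ f' c', ∀ v : F × F × F, (h * a * h⁻¹) • v = ta n 0 f' c' v := by
  have fx : ∀ v ∈ YY F, (h * a * h⁻¹) • v = v := fun v hv => by
    rw [mul_smul, mul_smul, e, ta_Y _ _ _ (sb_mem (inv_mem hY) hv), smul_inv_smul]
  have hA : h * a * h⁻¹ ∈ A := by
    refine mem_of_pow hM s (le_st act) (mul_mem (mul_mem hh (s.le ha)) (inv_mem hh))
      (mem_sb fun v hv => by rwa [fx v hv.1]) (mem_sb fun v hv => by rwa [fx v hv]) (k := 1) ?_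
    rw [pow_one, conj_pow, sq_one e, mul_one, mul_inv_cancel]
  refine ⟨hA, ?_⟩
  obtain ⟨k, f', c', e'⟩ := act _ hA
  have : k = 0 := by
    have := fx (0, 0, 1) rfl
    rw [e'] at this
    simpa [ta] using this
  exact ⟨f', c', this ▸ e'⟩

theorem big (s : SylowIn 2 A H) (m : Emb H A N) (hn : n ≠ 0)
    (act : ∀ g ∈ A, ∃ k f c, ∀ v : F × F × F, g • v = ta n k f c v)
    (ex : ∀ f c, ∃ g ∈ A, ∀ v : F × F × F, g • v = ta n 0 f c v) {e : F} (e0 : e ≠ 0) (e1 : e ≠ 1) :
    False := by
  have h2 := two (F := F)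
  obtain ⟨a, ha, ea⟩ := ex 1 0
  obtain ⟨a', ha', ea'⟩ := ex 0 1
  obtain ⟨b, hb, eb⟩ := ex e 0
  have n1 : a ≠ 1 := fun h => by
    have := ea (1, 0, 0)
    rw [h, one_smul] at this
    simp [ta] at this
  have n2 : a' ≠ 1 := fun h => by
    have := ea' (1, 0, 0)
    rw [h, one_smul] at this
    simp [ta] at this
  obtain ⟨h, hh, eh⟩ := m.conj s ha ha' n1 n2 (sq_one ea) (sq_one ea')
  have ac : ∀ v : F × F × F, h • (a • v) = a' • (h • v) := fun v => by
    rw [← eh, mul_smul, mul_smul, inv_smul_smul]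
  have hY : h ∈ sb G (YY F) := mem_sb fun v hv => by
    have := ac v
    rw [ea, ta_Y _ _ _ hv, ea'] at this
    have := congrArg (fun w => w.2.2) this
    rw [mem_YY]
    simpa [ta] using this
  obtain ⟨-, f, c, eb'⟩ := conj_two s act hh hY hb eb
  have key : ∀ y : F, f * y + n * c * y ^ 2 = n * (c * y) ^ 2 := fun y => by
    set w : F × F × F := h⁻¹ • (y, 0, 0) with hw
    have k1 : b • w - w = a • ((e * w.1, 0, 0) : F × F × F) - (e * w.1, 0, 0) := by
      rw [eb, ea]; ext <;> simp [ta]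
    have k2 : (h * b * h⁻¹) • ((y, 0, 0) : F × F × F) - (y, 0, 0) = h • (b • w - w) := by
      rw [smul_sub, mul_smul, mul_smul, hw, smul_inv_smul]
    rw [k1, smul_sub, ac, eb', ea'] at k2
    have k3 := congrArg (fun w => w.2.1) k2
    have k4 := congrArg (fun w => w.2.2) k2
    simp only [ta, Prod.fst_sub, Prod.snd_sub] at k3 k4
    have k5 : c * y = (h • ((e * w.1, 0, 0) : F × F × F)).1 := by linear_combination k4
    rw [k5]
    linear_combination k3
  have k1 := key 1
  have k2 := key e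
  have k3 : n * e * (1 + e) * (c * (c - 1)) = 0 := by
    linear_combination (-e) * k1 - k2 + (f * e + n * c * e * (1 + e) - n * c * e - n * c * e ^ 2) * h2
  have e2 : 1 + e ≠ 0 := fun h => e1 (by linear_combination h - h2 * 1 + (1 - e) * h2 + (e - 1) * h2)
  have k4 : c = 0 ∨ c = 1 := by
    have := (mul_eq_zero.1 k3).resolve_left (mul_ne_zero (mul_ne_zero hn e0) e2)
    exact (mul_eq_zero.1 this).imp id sub_eq_zero.1
  have f0 : f = 0 := by rcases k4 with rfl | rfl <;> linear_combination k1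
  subst f0
  rcases k4 with rfl | rfl
  · have : h * b * h⁻¹ = 1 := eq_of_smul_eq_smul fun v : F × F × F => by
      rw [eb', one_smul]; ext <;> simp [ta]
    have hb1 : b = 1 := by simpa using this
    have := eb (1, 0, 0)
    rw [hb1, one_smul] at this
    simp [ta] at this
    exact e0 this.symm
  · have : h * b * h⁻¹ = h * a * h⁻¹ := eq_of_smul_eq_smul fun v : F × F × F => by rw [eb', eh, ea']
    have hb1 : b = a := by simpa using this
    have := eb (1, 0, 0)
    rw [hb1, ea] at this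
    simp [ta] at this
    exact e1 this.symm

theorem small (s : SylowIn 2 A H) (m : Emb H A N)
    (ex : ∀ f c, ∃ g ∈ A, ∀ v : F × F × F, g • v = ta n 0 f c v) (h01 : ∀ e : F, e = 0 ∨ e = 1) :
    False := by
  have h2 := two (F := F)
  obtain ⟨g, hg, hN⟩ := SetLike.not_le_iff_exists.1 m.lt
  obtain ⟨a', ha', ea'⟩ := ex 1 0
  have n1 : a' ≠ 1 := fun h => by
    have := ea' (1, 0, 0)
    rw [h, one_smul] at this
    simp [ta] at this
  obtain ⟨d', hd', d0, hd⟩ : ∃ d' : F × F × F, d'.1 = 0 ∧ d' ≠ 0 ∧ (g • d').1 = 0 := by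
    rcases h01 (g • ((0, 1, 0) : F × F × F)).1 with h | h
    · exact ⟨_, rfl, by simp, h⟩
    rcases h01 (g • ((0, 0, 1) : F × F × F)).1 with h' | h'
    · exact ⟨_, rfl, by simp, h'⟩
    refine ⟨(0, 1, 0) + (0, 0, 1), by simp, by simp, ?_⟩
    rw [smul_add, Prod.fst_add, h, h']
    linear_combination h2
  set d := g • d' with hdd
  have dn : d ≠ 0 := fun h => d0 (by simpa using congrArg (fun w => g⁻¹ • w) (hdd ▸ h : g • d' = 0))
  obtain ⟨a, ha, ea⟩ := ex (d.2.1 - n * d.2.2) d.2.2
  have n2 : a ≠ 1 := fun h => by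
    have := ea (1, 0, 0)
    rw [h, one_smul] at this
    refine dn ?_
    have k1 := congrArg (fun w => w.2.1) this
    have k2 := congrArg (fun w => w.2.2) this
    simp only [ta] at k1 k2
    ext
    · exact hd
    · simp only [Prod.snd_zero, Prod.fst_zero]; linear_combination -k1
    · simp only [Prod.snd_zero]; linear_combination -k2
  have aT : a ∈ st G ⊥ (AddSubgroup.zmultiples d) := by
    refine ⟨fun v => ?_, fun v hv => ?_, fun v hv => by rw [AddSubgroup.mem_bot.1 hv, smul_zero]⟩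
    · rcases h01 v.1 with h | h
      · rw [ea, ta_Y _ _ _ h, sub_self]; exact zero_mem _
      · have : a • v - v = d := by
          rw [ea]
          ext
          · simp [ta, hd]
          · simp only [ta, h, Prod.fst_sub, Prod.snd_sub]; ring
          · simp [ta, h]
        rw [this]; exact AddSubgroup.mem_zmultiples d
    · obtain ⟨k, rfl⟩ := AddSubgroup.mem_zmultiples_iff.1 hv
      rw [ea, ta_Y _ _ _ (by simp [hd]), sub_self]; exact zero_mem _
  have TN : st G ⊥ (AddSubgroup.zmultiples d) ⊓ H ≤ N :=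
    m.of_pg s ((pg_st hM).to_inf_left) inf_le_right ha n2 ⟨aT, s.le ha⟩
  have bH : g * a' * g⁻¹ ∈ H := mul_mem (mul_mem hg (s.le ha')) (inv_mem hg)
  have bd : (g * a' * g⁻¹) • d = d := by
    rw [hdd, mul_smul, mul_smul, inv_smul_smul, ea', ta_Y _ _ _ hd']
  have bs : g * a' * g⁻¹ ∈ sb G (AddSubgroup.zmultiples d) := mem_sb fun v hv => by
    obtain ⟨k, rfl⟩ := AddSubgroup.mem_zmultiples_iff.1 hv
    rw [smul_comm, bd]; exact hv
  have b0 : g * a' * g⁻¹ ∈ sb G (⊥ : AddSubgroup (F × F × F)) := mem_sb fun v hv => by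
    rw [AddSubgroup.mem_bot.1 hv, smul_zero]; exact zero_mem _
  have k1 := conj_mem_st (inv_mem b0) (inv_mem bs) aT
  rw [inv_inv] at k1
  have bN : g * a' * g⁻¹ ∈ N :=
    m.tri a ha n2 _ bH (TN ⟨k1, H.mul_mem (H.mul_mem (H.inv_mem bH) (s.le ha)) bH⟩)
  exact hN (N.inv_mem_iff.1 (m.tri a' ha' n1 g⁻¹ (inv_mem hg) (by rwa [inv_inv])))

theorem lin (s : SylowIn 2 A H) (m : Emb H A N) (hn : n ≠ 0)
    (act : ∀ g ∈ A, ∃ k f c, ∀ v : F × F × F, g • v = ta n k f c v)
    (ex : ∀ f c, ∃ g ∈ A, ∀ v : F × F × F, g • v = ta n 0 f c v) : False := by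
  by_cases h : ∀ e : F, e = 0 ∨ e = 1
  · exact small s m ex h
  · push Not at h
    obtain ⟨e, e0, e1⟩ := h
    exact big s m hn act ex e0 e1

end Lin

variable {K : Type*} [Field K] [StarRing K]

open Classical in
/-- The projection to the fixed field. -/
noncomputable def pr (z : K) : selfAdjoint K := if h : star z = z then ⟨z, h⟩ else 0

theorem pr_val {z : K} (h : star z = z) : (pr z : K) = z := by rw [pr, dif_pos h]

/-- The coordinates. -/
noncomputable def co (t : K) (x : Uf K) : selfAdjoint K × selfAdjoint K × selfAdjoint K :=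
  (pr (x.t / t), pr x.a, pr (x.b / t))

theorem fix_div {t z : K} (ht : t ≠ 0) (h : z * star t = star z * t) : star (z / t) = z / t := by
  have : star t ≠ 0 := by simpa using ht
  rw [star_div₀, div_eq_div_iff this ht, h]

theorem co1 {t : K} (ht : t ≠ 0) {x : Uf K} (hx : x ∈ Xt t) : ((co t x).1 : K) = x.t / t :=
  pr_val (fix_div ht hx.1)
theorem co2 (t : K) (x : Uf K) : ((co t x).2.1 : K) = x.a := pr_val x.ha
theorem co3 {t : K} (ht : t ≠ 0) {x : Uf K} (hx : x ∈ Xt t) : ((co t x).2.2 : K) = x.b / t :=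
  pr_val (fix_div ht hx.2.1)

theorem comm_X {t : K} (s : Uf K) {x : Uf K} (hx : x ∈ Xt t) : ⁅s, x⁆ ∈ Xt t := by
  obtain ⟨h1, h2, h3⟩ := hx
  refine ⟨by simp, ?_, by simp⟩
  simp only [Uf.comm_b, h3, mul_zero, zero_sub, star_neg, star_mul', s.hc]
  linear_combination (-s.c) * h1

theorem conj_X {t : K} (s : Uf K) {x : Uf K} (hx : x ∈ Xt t) : s * x * s⁻¹ ∈ Xt t := by
  simpa [commutatorElement_def] using mul_mem (comm_X s hx) hx

variable [CharP K 2]

instance charSa : CharP (selfAdjoint K) 2 := (CharP.charP_iff_prime_eq_zero Nat.prime_two).2 (by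
  have : (2 : K) = 0 := CharP.cast_eq_zero K 2
  rw [Nat.cast_ofNat, ← one_add_one_eq_two]
  ext
  rw [AddSubgroup.coe_add, selfAdjoint.val_one, one_add_one_eq_two, this]
  rfl)

theorem co_conj {t : K} (ht : t ≠ 0) (s : Uf K) {x : Uf K} (hx : x ∈ Xt t) :
    co t (s * x * s⁻¹) = ta (pr (t * star t)) (pr (s.t * star t + star s.t * t))
      (pr (t * star s.b + star t * s.b)) (pr s.c) (co t x) := by
  have h2 : (2 : K) = 0 := CharP.cast_eq_zero K 2
  have hy := conj_X s hx
  have p1 : star (t * star t) = t * star t := by simp [mul_comm]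
  have p2 : star (s.t * star t + star s.t * t) = s.t * star t + star s.t * t := by
    simp only [star_add, star_mul', star_star]; ring
  have p3 : star (t * star s.b + star t * s.b) = t * star s.b + star t * s.b := by
    simp only [star_add, star_mul', star_star]; ring
  obtain ⟨y, ey⟩ : ∃ y, x.t = y * t := ⟨x.t / t, by field_simp⟩
  obtain ⟨z, ez⟩ : ∃ z, x.b = z * t := ⟨x.b / t, by field_simp⟩
  have sy : star y = y := by
    have := fix_div ht hx.1
    rwa [ey, mul_div_cancel_right₀ _ ht] at this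
  have sz : star z = z := by
    have := fix_div ht hx.2.1
    rwa [ez, mul_div_cancel_right₀ _ ht] at this
  have c0 : x.c = 0 := hx.2.2
  have q1 : ((co t x).1 : K) = y := by rw [co1 ht hx, ey, mul_div_cancel_right₀ _ ht]
  have q3 : ((co t x).2.2 : K) = z := by rw [co3 ht hx, ez, mul_div_cancel_right₀ _ ht]
  ext
  · rw [co1 ht hy]; simp only [ta]; rw [co1 ht hx]; simp
  · rw [co2]
    simp only [ta, AddSubgroup.coe_add, selfAdjoint.val_mul, selfAdjoint.val_pow, q1, q3, co2, pr_val p1,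
      pr_val p2, pr_val p3, pr_val s.hc, Uf.mul_a, Uf.mul_t, Uf.inv_a, Uf.inv_b, Uf.inv_c,
      star_add, star_neg, star_mul', ey, ez, c0, sy, sz, s.hc]
    linear_combination (-(y * t * star s.b) - y * star t * s.b - star t * t * s.c * y ^ 2) * h2
  · rw [co3 ht hy]
    simp only [ta, AddSubgroup.coe_add, selfAdjoint.val_mul, q1, q3, pr_val s.hc, Uf.mul_b, Uf.mul_t,
      Uf.inv_b, Uf.inv_c, ey, ez, c0]
    field_simp
    linear_combination (-(y * s.c * t)) * h2

end ED

variable {K : Type*} {Γ : Type u} {Γ' : Type v} [Field K] [StarRing K] [Finite K] [Group Γ] [Finite Γ]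
  [Group Γ'] [Finite Γ'] [CharP K 2] {ι : Uf K →* Γ} {ψ : Uf K →* Γ'}
  {E : Subgroup (Uf K)} {g : Γ} {k : Γ'} {x y : Uf K} {t n l n' l' : K} {σ σ' : K ≃⋆+* K}

theorem not_es_X (hs : ∃ e : K, star e ≠ e) (F : Cf 2 ι) (ht : t ≠ 0) : ¬ Es 2 ι (Xt t) := by
  intro h
  have h2 : (2 : K) = 0 := CharP.cast_eq_zero K 2
  have st0 : star t ≠ 0 := by simpa using ht
  have ci : ∀ x ∈ Xt t, ED.co t x = 0 → x = 1 := fun x hx e => by
    have e1 := ED.co1 ht hx
    have e2 := ED.co2 t x
    have e3 := ED.co3 ht hx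
    rw [e] at e1 e2 e3
    refine Uf.eq_one.2 ⟨?_, ?_, ?_, hx.2.2⟩
    · simpa [ht] using e1.symm
    · simpa using e2.symm
    · simpa [ht] using e3.symm
  have o : Co ι (Xt t) (ED.co t) := by
    refine ⟨fun x hx y hy => ?_, fun m => ?_, fun g _ x hx y hy e e0 => ?_⟩
    · have hxy := mul_mem hx hy
      ext
      · simp only [Prod.fst_add, AddSubgroup.coe_add, ED.co1 ht hx, ED.co1 ht hy, ED.co1 ht hxy, Uf.mul_t]
        ring
      · simp only [Prod.fst_add, Prod.snd_add, AddSubgroup.coe_add, ED.co2, Uf.mul_a, hy.2.2]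
        have : t * (x.t * star y.b + star x.t * y.b) = 0 := by
          have k : star t * (t * (x.t * star y.b + star x.t * y.b)) = 0 := by
            linear_combination (-(star t * x.t)) * hy.2.1 + (-(star t * y.b)) * hx.1 +
              (star t * star t * x.t * y.b) * h2
          exact (mul_eq_zero.1 k).resolve_left st0
        have := (mul_eq_zero.1 this).resolve_left ht
        linear_combination this
      · simp only [Prod.snd_add, AddSubgroup.coe_add, ED.co3 ht hx, ED.co3 ht hy, ED.co3 ht hxy, Uf.mul_b,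
          hy.2.2]
        ring
    · have s1 : star (m.1 : K) = m.1 := m.1.2
      have s3 : star (m.2.2 : K) = m.2.2 := m.2.2.2
      have hx : (⟨m.1 * t, m.2.1, m.2.2 * t, 0, m.2.1.2, star_zero K⟩ : Uf K) ∈ Xt t := by
        refine ⟨?_, ?_, rfl⟩
        · simp only [star_mul', s1]; ring
        · simp only [star_mul', s3]; ring
      refine ⟨_, hx, ?_⟩
      ext
      · rw [ED.co1 ht hx]; simp [ht]
      · rw [ED.co2]
      · rw [ED.co3 ht hx]; simp [ht]
    · have : y = 1 := by
        rw [ci x hx e0] at e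
        apply F.inj
        rw [← e]; simp
      rw [this]
      ext
      · rw [ED.co1 ht (one_mem _)]; simp
      · rw [ED.co2]; simp
      · rw [ED.co3 ht (one_mem _)]; simp
  have : Finite ((selfAdjoint K × selfAdjoint K × selfAdjoint K) ≃ₗ[ℤ]
    (selfAdjoint K × selfAdjoint K × selfAdjoint K)) := Finite.of_injective _ DFunLike.coe_injective
  obtain ⟨N, m⟩ := es_emb F h o ci
  have act : ∀ (s : Uf K) φ, Ac ι (Xt t) (ED.co t) (ι s) φ → ∀ v, φ • v = ED.ta (ED.pr (t * star t))
      (ED.pr (s.t * star t + star s.t * t)) (ED.pr (t * star s.b + star t * s.b)) (ED.pr s.c) v :=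
    fun s φ a v => by
      obtain ⟨x, hx, rfl⟩ := o.surj v
      rw [a.2 x hx _ (ED.conj_X s hx) (Cj.self s x), ED.co_conj ht s hx]
  refine ED.lin (n := ED.pr (t * star t)) (es_syl F h o) m (fun e => ?_) ?_ fun f c => ?_
  · have := ED.pr_val (z := t * star t) (by simp [mul_comm])
    rw [e] at this
    exact mul_ne_zero ht st0 this.symm
  · rintro φ ⟨_, ⟨s, rfl⟩, a⟩
    exact ⟨_, _, _, act s φ a⟩
  · obtain ⟨e, he⟩ := hs
    have e0 : e + star e ≠ 0 := fun h => he (by linear_combination h - e * h2)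
    have sf : star (f : K) = f := f.2
    let s : Uf K := ⟨0, 0, f * (e / (e + star e)) / star t, c, star_zero K, c.2⟩
    obtain ⟨φ, a⟩ := o.exists_ac (self_nr (t := s) fun x hx => ED.comm_X s hx)
    refine ⟨φ, ⟨_, ⟨s, rfl⟩, a⟩, fun v => ?_⟩
    rw [act s φ a v]
    have k1 : ED.pr (s.t * star t + star s.t * t) = 0 := by
      ext; rw [ED.pr_val (by simp [s])]; simp [s]
    have k2 : t * star s.b + star t * s.b = f := by
      have e0' : star e + e ≠ 0 := by rwa [add_comm]
      simp only [s, star_div₀, star_mul', star_add, star_star, sf]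
      field_simp
      ring
    have k3 : ED.pr (t * star s.b + star t * s.b) = f := by
      ext; rw [k2, ED.pr_val sf]
    have k4 : ED.pr s.c = c := by
      ext; exact ED.pr_val c.2
    rw [k1, k3, k4]

end U4F
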