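import Mathlib
import Cfsg.Agent.Base
import Cfsg.Agent.Lib.U4F.E1
import Cfsg.Agent.Lib.U4F.ED
import Cfsg.Agent.Lib.U4F.E2
import Cfsg.Agent.Lib.U4F.E3
import Cfsg.Agent.Lib.U4F.E4

set_option autoImplicit false

namespace U4F

open Subgroup H93.SX
open H68 (SylowIn)
open U5F (qq)
open scoped commutatorElement

universe u v

variable {K : Type*} {Γ : Type u} {Γ' : Type v} [Field K] [StarRing K] [Finite K] [Group Γ] [Finite Γ]
  [Group Γ'] [Finite Γ'] {p : ℕ} [Fact p.Prime] [CharP K p] {ι : Uf K →* Γ} {ψ : Uf K →* Γ'}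
  {E : Subgroup (Uf K)} {g : Γ} {k : Γ'} {x y : Uf K} {t n l n' l' : K} {σ σ' : K ≃⋆+* K}

theorem es_cases (hs : ∃ e : K, star e ≠ e) (F : Cf p ι) (h : Es p ι E) : E = QQ K ∨ E = VV K ∨ (p = 2 ∧ ∃ t ≠ 0, E = Et t) := by
  by_cases h1 : E ≤ QQ K
  · refine (es_Q hs F h h1).elim .inl fun ⟨e, t, ht, e'⟩ => ?_
    subst e e'
    exact (not_es_X hs F ht h).elim
  by_cases h2 : E ≤ VV K
  · exact .inr (.inl (h2.antisymm fun t ht => h.cent F fun x hx => comm_V ht (h2 hx)))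
  refine .inr (.inr ?_)
  by_cases h3 : ∀ x ∈ E, ∀ y ∈ E, x.t * y.c = y.t * x.c
  · obtain ⟨x, hx, a⟩ := SetLike.not_le_iff_exists.1 h1
    obtain ⟨y, hy, b⟩ := SetLike.not_le_iff_exists.1 h2
    have a : x.c ≠ 0 := a
    have b : y.t ≠ 0 := b
    have c : x.t ≠ 0 := fun e => mul_ne_zero b a (by rw [← h3 x hx y hy, e, zero_mul])
    obtain ⟨e1, e2⟩ := es_line hs F h h3 hx c a
    exact (not_es_C hs F e1 c a e2 h).elim
  · push Not at h3
    obtain ⟨x, hx, y, hy, e⟩ := h3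
    exact es_plane hs F h hx hy e

theorem eq_bot (F : Cf p ι) (hc : (Cfsg.groupFusionSystem ι.range).core = ⊥) {X : Subgroup (Uf K)}
    (h1 : nr ι ⊤ ≤ nr ι X) (h2 : ∀ E, Es p ι E → X ≤ E ∧ nr ι E ≤ nr ι X) : X = ⊥ := by
  have := H93.R3.eq_bot_of_norm F.pr F.sat hc (map_le_range ι X) (nr_top (ι := ι) ▸ h1) fun E hE => by
    obtain ⟨E', rfl⟩ : ∃ E' : Subgroup (Uf K), E'.map ι = E :=
      ⟨E.comap ι, map_comap_eq_self hE.1.1⟩
    exact ⟨map_mono (h2 E' hE).1, (h2 E' hE).2⟩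
  exact (map_eq_bot_iff_of_injective _ F.inj).1 this

theorem not_QW (hs : ∃ e : K, star e ≠ e) (F : Cf p ι) (hc : (Cfsg.groupFusionSystem ι.range).core = ⊥) :
    ¬ nr ι (QQ K) ≤ nr ι (WW K) := by
  intro h
  have := eq_bot F hc (top_V hs F.inj) fun E hE => by
    rcases es_cases hs F hE with rfl | rfl | ⟨rfl, t, ht, rfl⟩
    · exact (seQ.not F hE h (Q_Z hs F.inj) fun _ _ => nr_bot).elim
    · exact ⟨le_rfl, le_rfl⟩
    · exact ⟨fun x hx => by simp_all, Et_V hs F.inj ht⟩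
  have e : (⟨0, 1, 0, 0, by simp, by simp⟩ : Uf K) ∈ VV K := rfl
  rw [this, mem_bot, Uf.eq_one] at e
  exact one_ne_zero e.2.1

theorem not_VZ (hs : ∃ e : K, star e ≠ e) (F : Cf p ι) (hc : (Cfsg.groupFusionSystem ι.range).core = ⊥)
    (h : ∀ t ≠ 0, p = 2 → ¬ Es p ι (Et t)) : ¬ nr ι (VV K) ≤ nr ι (ZZ K) := by
  intro h'
  have := eq_bot F hc (top_Z hs F.inj) fun E hE => by
    rcases es_cases hs F hE with rfl | rfl | ⟨e, t, ht, rfl⟩
    · exact ⟨fun x hx => hx.2.2, Q_Z hs F.inj⟩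
    · exact ⟨fun x hx => hx.1, h'⟩
    · exact (h t ht e hE).elim
  have e : (⟨0, 1, 0, 0, by simp, by simp⟩ : Uf K) ∈ ZZ K := ⟨rfl, rfl, rfl⟩
  rw [this, mem_bot, Uf.eq_one] at e
  exact one_ne_zero e.2.1

end U4F
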