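import Mathlib
import Cfsg.Agent.Base
import Cfsg.Agent.Lib.U4F.Orb
import Cfsg.Agent.Lib.U4F.Cv
import Cfsg.Agent.Lib.U4F.Dg

set_option autoImplicit false

namespace U4F

open Subgroup H93.SX
open H68 (SylowIn)
open U5F (qq)
open scoped commutatorElement

universe u v

variable {K : Type*} {Γ : Type u} {Γ' : Type v} [Field K] [StarRing K] [Finite K] [Group Γ] [Finite Γ]
  [Group Γ'] [Finite Γ'] {p : ℕ} [Fact p.Prime] [CharP K p] {ι : Uf K →* Γ} {ψ : Uf K →* Γ'}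
  {E : Subgroup (Uf K)} {g : Γ} {k : Γ'} {x y : Uf K} {t n l n' l' : K} {σ σ' : K ≃⋆+* K}

namespace EQ

theorem mul {g' : Γ} {k' : Γ'} (h : g' ∈ nr ι E) (a : ∀ x ∈ E, ∀ y, Cj ι g x y → Cj ψ k x y)
    (b : ∀ x ∈ E, ∀ y, Cj ι g' x y → Cj ψ k' x y) : ∀ x ∈ E, ∀ y, Cj ι (g * g') x y → Cj ψ (k * k') x y := by
  intro x hx y e
  obtain ⟨z, hz, c⟩ := nr_cj h hx
  have := e.trans c.symm
  rw [mul_inv_cancel_right] at this
  exact (a z hz y this).trans (b x hx z c)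

theorem inv (i : Function.Injective ι) (h : g ∈ nr ι E) (a : ∀ x ∈ E, ∀ y, Cj ι g x y → Cj ψ k x y) :
    ∀ x ∈ E, ∀ y, Cj ι g⁻¹ x y → Cj ψ k⁻¹ x y := fun x hx y e => by
  have := e.symm
  rw [inv_inv] at this
  exact (a y (e.mem i (inv_mem h) hx) x this).symm

theorem self (i : Function.Injective ι) (s : Uf K) : ∀ x ∈ E, ∀ y, Cj ι (ι s) x y → Cj ψ (ψ s) x y :=
  fun x _ _ e => (Cj.self s x).uniq i e ▸ Cj.self s x

end EQ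

theorem eqT (S : Std ι) (d : ∀ n l σ, n ≠ 0 → l ≠ 0 → Dl ι n l σ → Dl ψ n l σ) (i : Function.Injective ι) :
    Eqv ι ψ ⊤ := by
  intro g hg
  obtain ⟨s, n, l, hl, σ, hn, h0, h⟩ := S g (mem_nr hg)
  obtain ⟨hl', k, hk⟩ := d n l σ hn h0 ⟨hl, ι s⁻¹ * g, fun x => by
    have := (Cj.self s⁻¹ _).trans (h x)
    rwa [show s⁻¹ * (s * dl n l hl σ x * s⁻¹) * s⁻¹⁻¹ = dl n l hl σ x by group] at this⟩
  exact ⟨ψ s * k, fun x _ y _ e => (h x).uniq i e ▸ (Cj.self s _).trans (hk x)⟩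

theorem eqT' (S : Inn ι) (i : Function.Injective ι) : Eqv ι ψ ⊤ := by
  intro g hg
  obtain ⟨s, h⟩ := S g (mem_nr hg)
  exact ⟨ψ s, fun x _ y _ e => (h x).uniq i e ▸ Cj.self s x⟩

theorem eqv_ext (F : Cf p ι) (T : Eqv ι ψ ⊤) (s : Se E (WW K) (ZZ K) ⊥) (e : g ∈ nr ι E)
    (w : g ∈ nr ι (WW K)) (z : g ∈ nr ι (ZZ K)) : ∃ k, ∀ x ∈ E, ∀ y, Cj ι g x y → Cj ψ k x y := by
  obtain ⟨g', hg, h⟩ := Se.ext F s e w z nr_bot
  obtain ⟨k, hk⟩ := T g' fun x hx => nr_cj hg.2 hx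
  exact ⟨k, fun x hx y c => hk x (mem_top x) y (mem_top y) (h x hx y c)⟩

theorem eqV (hs : ∃ e : K, star e ≠ e) (F : Cf p ι) (T : Eqv ι ψ ⊤) (t : TV F.inj) (w : W2 ι) (w' : W2 ψ) : Eqv ι ψ (VV K) := by
  have key : ∀ g φ, Ac ι (VV K) cV g φ → φ ∈ sb _ (hZ K) →
      ∃ k, ∀ x ∈ VV K, ∀ y, Cj ι g x y → Cj ψ k x y := fun g φ a h =>
    eqv_ext F T seV a.1 ((acV_W F.inj a).1 ((ovV F).zw hs ⟨g, mem_top g, a⟩ h)) ((acV_Z F.inj a).1 h)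
  intro g hg
  obtain ⟨φ, a⟩ := (coV F.inj).exists_ac (mem_nr hg)
  suffices ∃ k, ∀ x ∈ VV K, ∀ y, Cj ι g x y → Cj ψ k x y from this.imp fun k h x hx y _ => h x hx y
  by_cases hz : φ ∈ sb _ (hZ K)
  · exact key g φ a hz
  obtain ⟨g0, h0⟩ := w
  obtain ⟨k0, h0'⟩ := w'
  have n0 : g0 ∈ nr ι (VV K) := mem_nr fun x hx => ⟨_, show w2 x ∈ VV K from rfl, h0 x hx⟩
  obtain ⟨φ0, a0⟩ := (coV F.inj).exists_ac n0
  have z0 : φ0 ∉ sb _ (hZ K) := fun h =>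
    one_ne_zero ((h0 ⟨0, 1, 0, 0, star_one _, star_zero _⟩ rfl).mem F.inj ((acV_Z F.inj a0).1 h)
      ⟨rfl, rfl, rfl⟩).2.2
  obtain ⟨u, ⟨_, ⟨s, rfl⟩, au⟩, hu⟩ := (ovV F).one hs t ⟨g0, mem_top _, a0⟩ ⟨g, mem_top _, a⟩ z0 hz
  have a1 := (a0.inv.mul au).mul a
  obtain ⟨k, hk⟩ := key _ _ a1 hu
  have := EQ.mul (mul_mem n0 a1.1) (EQ.inv F.inj au.1 (EQ.self (ψ := ψ) F.inj s))
    (EQ.mul a1.1 (fun x hx y e => (h0 x hx).uniq F.inj e ▸ h0' x hx) hk)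
  rw [show (ι s)⁻¹ * (g0 * (g0⁻¹ * ι s * g)) = g by group] at this
  exact ⟨_, this⟩

theorem eqQ (hs : ∃ e : K, star e ≠ e) (F : Cf p ι) (T : Eqv ι ψ ⊤) (S : SQ ι) (a : AQ ι g fun v => (-v.2, v.1))
    (b : ∀ x ∈ QQ K, ∀ y, Cj ι g x y → Cj ψ k x y) : Eqv ι ψ (QQ K) := by
  intro h hh
  have hn := mem_nr hh
  suffices ∃ k, ∀ x ∈ QQ K, ∀ y, Cj ι h x y → Cj ψ k x y from this.imp fun k h x hx y _ => h x hx y
  rcases S h hn with w | ⟨e, he, w⟩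
  · exact eqv_ext F T seQ hn w (Q_Z hs F.inj hn)
  let s : Uf K := ⟨0, 0, 0, e, star_zero _, he⟩
  have ns : ι s ∈ nr ι (QQ K) := self_nr fun x _ => (comm_W s x).2
  have n1 := mul_mem a.1 (mul_mem ns hn)
  have w1 : g * (ι s * h) ∈ nr ι (WW K) := mem_nr fun x hx => by
    obtain ⟨y, hy, c⟩ := nr_cj hn hx.2
    have hy' : s * y * s⁻¹ ∈ QQ K := by simp [s, mem_QQ.1 hy]
    obtain ⟨z, hz, c'⟩ := nr_cj a.1 hy'
    refine ⟨z, ⟨?_, hz⟩, c'.trans ((Cj.self s y).trans c)⟩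
    have := congrArg Prod.snd (a.2 _ hy' z hz c')
    simp only [cQ] at this
    rw [this]
    simp [s, w x hx y c, mul_comm]
  obtain ⟨k1, hk⟩ := eqv_ext F T seQ n1 w1 (Q_Z hs F.inj n1)
  have := EQ.mul (mul_mem (inv_mem a.1) n1) (EQ.inv F.inj ns (EQ.self (ψ := ψ) F.inj s))
    (EQ.mul n1 (EQ.inv F.inj a.1 b) hk)
  rw [show (ι s)⁻¹ * (g⁻¹ * (g * (ι s * h))) = h by group] at this
  exact ⟨_, this⟩

theorem tv_not_es (hs : ∃ e : K, star e ≠ e) [CharP K 2] (F : Cf 2 ι) (h : TV F.inj) (ht : t ≠ 0) : ¬ Es 2 ι (Et t) := by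
  intro es
  have key : ∀ g ∈ nr ι (Et t), g ∈ nr ι (ZZ K) ∧ g ∈ nr ι (WW K) := fun g hg => by
    obtain ⟨φ, a⟩ := (coV F.inj).exists_ac (Et_V hs F.inj ht hg)
    let s : Uf K := ⟨t, 0, 0, 0, star_zero _, star_zero _⟩
    obtain ⟨y, -, c⟩ := nr_cj hg (show s ∈ Et t from mul_comm _ _)
    obtain ⟨u, au⟩ := (coV F.inj).exists_ac (show ι s ∈ nr ι (VV K) from self_nr fun x _ => (comm_W s x).1)
    have a1 := (a.mul au).mul a.inv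
    rw [show g * ι s * g⁻¹ = ι y from c] at a1
    have := h φ ⟨g, mem_top g, a⟩ u ⟨_, ⟨s, rfl⟩, au⟩ (fun e => ht (by
      have := congrArg Hm.b (acV_self F.inj s au ⟨0, 0, 1, star_zero _, star_one _⟩)
      rw [e, one_smul] at this
      simpa [sh, s] using this.symm)) ⟨_, ⟨y, rfl⟩, a1⟩
    exact ⟨(acV_Z F.inj a).1 this.1, (acV_W F.inj a).1 this.2⟩
  exact Se.not F (seW fun x hx => by simp [hx.1]) es (fun g hg => (key g hg).2) (fun g hg => (key g hg).1)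
    fun _ _ => nr_bot

end U4F
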