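import Mathlib
import Cfsg.Agent.Base
import Cfsg.Agent.Lib.U4F.Cv
import Cfsg.Agent.Lib.U4F.Ti

set_option autoImplicit false

namespace U4F

open Subgroup H93.SX
open H68 (SylowIn)
open U5F (qq)
open scoped commutatorElement
open H19.Cov

universe u v

variable {Γ : Type u} {Γ' : Type v} [Group Γ] [Finite Γ] [Group Γ'] [Finite Γ'] {ι : Uf F9 →* Γ}
  {ψ : Uf F9 →* Γ'} {g : Γ} {n l m k k' c : F9} {b : Bool} {X : Set F9}

namespace G1

theorem gen (P : F9 → Prop) (h1 : P 1) (hi : P ii) (ha : ∀ x y, P x → P y → P (x + y)) (x : F9) : P x := by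
  obtain ⟨a, b, h, h', rfl⟩ := (by decide +kernel : ∀ x : F9, ∃ a b : F9, (a = 1 ∨ a = 1 + 1 ∨ a = 1 + 1 + 1) ∧
    (b = ii ∨ b = ii + ii ∨ b = ii + ii + ii) ∧ x = a + b) x
  refine ha _ _ ?_ ?_
  · rcases h with rfl | rfl | rfl
    exacts [h1, ha _ _ h1 h1, ha _ _ (ha _ _ h1 h1) h1]
  · rcases h' with rfl | rfl | rfl
    exacts [hi, ha _ _ hi hi, ha _ _ (ha _ _ hi hi) hi]

/-- the conjugated reflection -/
def J (e m s : F9) (v : F9 × F9) : F9 × F9 :=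
  s • ((jm m (v.1 - e * v.2, v.2)).1 + e * (jm m (v.1 - e * v.2, v.2)).2, (jm m (v.1 - e * v.2, v.2)).2)

theorem auto_lemmas : True := by
  have := @J.eq_1
  trivial

theorem J_add (e m s : F9) (v w : F9 × F9) : J e m s (v + w) = J e m s v + J e m s w := by
  ext <;> simp only [J, jm, Prod.smul_mk, smul_eq_mul, Prod.fst_add, Prod.snd_add, star_add, star_sub, star_mul'] <;>
    ring

theorem JJ0 : ∀ e m s y : F9, star e = e → (s = 1 ∨ s = -1) → J e m s (J e m s (y, 0)) = -(y, 0) := by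
  decide +kernel

theorem be_neg (x y : F9 × F9) : be x (-y) = -be x y := by simp only [be, Prod.fst_neg, Prod.snd_neg, star_neg]; ring

theorem be_swap (x y : F9 × F9) : be y x = -be x y := by simp only [be]; ring

theorem sgn : ∀ a b : F9, be (1, 0) (0, a) = -be (1, 0) (0, a) → be (ii, 0) (0, b) = -be (ii, 0) (0, b) →
    be (1, 0) (0, b) = -be (ii, 0) (0, a) → ∃ s : F9, (s = 0 ∨ s = 1 ∨ s = -1) ∧ a = s * ii * 1 ∧ b = s * ii * ii := by
  decide +kernel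

theorem cls : ∀ a b s : F9, (s = 1 ∨ s = -1) → be (a, s * ii * 1) (b, s * ii * ii) = -be (1, 0) (ii, 0) →
    ∃ e m : F9, star e = e ∧ (a, s * ii * 1) = J e m s (1, 0) ∧ (b, s * ii * ii) = J e m s (ii, 0) := by
  decide +kernel

theorem hs9 : ∃ e : F9, star e ≠ e := ⟨ii, by decide +kernel⟩

theorem iis : ii * ii = -1 := by decide +kernel
theorem star_ii : star ii = -ii := by decide +kernel

end G1

theorem refl_cls (j : F9 × F9 →+ F9 × F9) (h1 : ∀ v, j (j v) = -v) (h2 : ∀ x y, be (j x) (j y) = -be x y)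
    (h3 : ∃ b, (j (b, 0)).2 ≠ 0) : ∃ e m s : F9, star e = e ∧ (s = 1 ∨ s = -1) ∧
      ∀ v, j v = s • ((jm m (v.1 - e * v.2, v.2)).1 + e * (jm m (v.1 - e * v.2, v.2)).2,
        (jm m (v.1 - e * v.2, v.2)).2) := by
  have k1 : ∀ x y, be (j x) y = be x (j y) := fun x y => by
    have := h2 x (j y)
    rwa [h1, G1.be_neg, neg_inj] at this
  have k2 : ∀ x y, be x (j y) = -be y (j x) := fun x y => by rw [← k1, G1.be_swap]
  have k3 : ∀ (x : F9) (w : F9 × F9), be (x, 0) w = be (x, 0) (0, w.2) := fun x w => by simp [be]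
  obtain ⟨s, hs, ha, hb⟩ := G1.sgn (j (1, 0)).2 (j (ii, 0)).2 (by rw [← k3, ← k2]) (by rw [← k3, ← k2])
    (by rw [← k3, ← k3, ← k2])
  have ad : ∀ x y : F9, j (x + y, 0) = j (x, 0) + j (y, 0) := fun x y => by rw [← map_add]; simp
  have k4 : ∀ x, (j (x, 0)).2 = s * ii * x :=
    G1.gen _ ha hb fun x y hx hy => by rw [ad, Prod.snd_add, hx, hy, mul_add]
  have hs' : s = 1 ∨ s = -1 := hs.resolve_left fun e => by
    obtain ⟨b, hb⟩ := h3
    exact hb (by rw [k4, e, zero_mul, zero_mul])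
  obtain ⟨e, m, he, h4, h5⟩ := G1.cls (j (1, 0)).1 (j (ii, 0)).1 s hs' (by rw [← ha, ← hb]; exact h2 _ _)
  rw [← ha] at h4
  rw [← hb] at h5
  have k5 : ∀ x, j (x, 0) = G1.J e m s (x, 0) :=
    G1.gen _ h4 h5 fun x y hx hy => by rw [ad, hx, hy, ← G1.J_add]; simp
  refine ⟨e, m, s, he, hs', fun v => ?_⟩
  change j v = G1.J e m s v
  have hv : v = (v.1 - (j (-(s * ii) * v.2, 0)).1, 0) + j (-(s * ii) * v.2, 0) := by
    refine Prod.ext (by simp) ?_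
    rw [Prod.snd_add, k4]
    rcases hs' with rfl | rfl <;> linear_combination v.2 * G1.iis
  rw [hv, map_add, G1.J_add, h1, ← k5, k5 (-(s * ii) * v.2), G1.JJ0 e m s _ he hs']

theorem G1.tau (i : Function.Injective ι) (T : T2 ι) :
    ∃ τ ∈ au i (QQ F9) cQ ⊤, ∀ v, τ • v = (ii * v.1, -ii * v.2) := by
  obtain ⟨τ, h, e⟩ := (aq_iff G1.hs9 i).1
    ((T (1 + ii) (by decide +kernel)).aq i (by decide +kernel) (by decide +kernel))
  refine ⟨τ, h, fun v => ?_⟩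
  rw [e, show (1 + ii) ^ 2 * ((1 + ii) * star (1 + ii))⁻¹ = ii by decide +kernel,
    show (1 + ii) ^ 2 = -ii by decide +kernel]
  rfl

theorem refl_sg (F : Cf 3 ι) (T : T2 ι) {φ τ : (F9 × F9) ≃ₗ[ℤ] (F9 × F9)} (hφ : φ ∈ au F.inj (QQ F9) cQ ⊤)
    (hτ : ∀ v, τ • v = (ii * v.1, -ii * v.2)) : φ * τ * φ⁻¹ ∈ sb _ (ax F9) ∨
      ∃ e m s : F9, star e = e ∧ (s = 1 ∨ s = -1) ∧ Sg ι m ∧ ∀ v, (φ * τ * φ⁻¹) • v =
        s • ((jm m (v.1 - e * v.2, v.2)).1 + e * (jm m (v.1 - e * v.2, v.2)).2,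
          (jm m (v.1 - e * v.2, v.2)).2) := by
  refine or_iff_not_imp_left.2 fun hn => ?_
  have o := oqQ G1.hs9 F
  obtain ⟨τ', hτ', e'⟩ := G1.tau F.inj T
  obtain rfl : τ = τ' := LinearEquiv.ext fun v => (hτ v).trans (e' v).symm
  have tt : ∀ v : F9 × F9, τ • τ • v = -v := fun v => by
    rw [hτ, hτ]; ext
    · simp only [Prod.fst_neg]; linear_combination v.1 * G1.iis
    · simp only [Prod.snd_neg]; linear_combination v.2 * G1.iis
  obtain ⟨x, hx, hx'⟩ := exists_of_not_sb hn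
  obtain ⟨e, m, s, he, hs, h⟩ := refl_cls (DistribSMul.toAddMonoidHom _ (φ * τ * φ⁻¹))
    (fun v => by
      simp only [DistribSMul.toAddMonoidHom_apply, mul_smul, inv_smul_smul]
      rw [tt, smul_neg, smul_inv_smul])
    (fun x y => by
      simp only [DistribSMul.toAddMonoidHom_apply, mul_smul]
      rw [o.form φ hφ _ _ (φ⁻¹ • x) (-(φ⁻¹ • y)), smul_neg, smul_inv_smul, smul_inv_smul, G1.be_neg]
      rw [hτ, hτ, G1.be_neg]
      simp only [be, star_mul', star_neg, G1.star_ii]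
      linear_combination ((φ⁻¹ • x).2 * star (φ⁻¹ • y).1 + star (φ⁻¹ • x).2 * (φ⁻¹ • y).1 -
        ((φ⁻¹ • y).2 * star (φ⁻¹ • x).1 + star (φ⁻¹ • y).2 * (φ⁻¹ • x).1)) * G1.iis)
    ⟨x.1, by
      obtain ⟨x1, x2⟩ := x
      obtain rfl : x2 = 0 := hx
      exact hx'⟩
  simp only [DistribSMul.toAddMonoidHom_apply] at h
  refine ⟨e, m, s, he, hs, (aq_iff G1.hs9 F.inj).2 ?_, h⟩
  obtain ⟨r, hr, er⟩ := o.ex e he
  obtain ⟨r', hr', er'⟩ := o.ex (-e) (by rw [star_neg, he])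
  have hj : r' * (φ * τ * φ⁻¹) * r ∈ au F.inj (QQ F9) cQ ⊤ :=
    mul_mem (mul_mem (o.syl.1 hr') (mul_mem (mul_mem hφ hτ') (inv_mem hφ))) (o.syl.1 hr)
  have ej : ∀ v : F9 × F9, (r' * (φ * τ * φ⁻¹) * r) • v = s • jm m v := fun v => by
    rw [mul_smul, mul_smul, er, h, er']
    ext <;> simp
    ring
  rcases hs with rfl | rfl
  · exact ⟨_, hj, fun v => by rw [ej, one_smul]⟩
  · exact ⟨τ * τ * _, mul_mem (mul_mem hτ' hτ') hj, fun v => by
      rw [mul_smul, mul_smul, tt, ej, neg_smul, one_smul, neg_neg]⟩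

theorem exists_tau (i : Function.Injective ι) (T : T2 ι) :
    ∃ τ ∈ au i (QQ F9) cQ ⊤, ∀ v, τ • v = (ii * v.1, -ii * v.2) := by
  exact G1.tau i T

theorem exists_sg (F : Cf 3 ι) (T : T2 ι) (h : ¬ nr ι (QQ F9) ≤ nr ι (WW F9)) : ∃ k, Sg ι k := by
  by_contra hn
  have o := oqQ G1.hs9 F
  obtain ⟨τ, hτ, eτ⟩ := exists_tau F.inj T
  have all : ∀ φ ∈ au F.inj (QQ F9) cQ ⊤, φ * τ * φ⁻¹ ∈ sb _ (ax F9) := fun φ hφ =>
    (refl_sg F T hφ eτ).resolve_right fun ⟨_, m, _, _, _, hm, _⟩ => hn ⟨m, hm⟩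
  refine h fun g hg => ?_
  obtain ⟨φ, a⟩ := (coQ G1.hs9 F.inj).exists_ac hg
  have hφ : φ ∈ au F.inj (QQ F9) cQ ⊤ := ⟨g, trivial, a⟩
  refine (acQ_W F.inj a).1 (mem_sb fun x hx => ?_)
  obtain ⟨r, hr, er⟩ := o.ex 1 (star_one _)
  have e1 : r * τ * r = τ := LinearEquiv.ext fun v => by
    change (r * τ * r) • v = τ • v
    rw [mul_smul, mul_smul, er, eτ, er, eτ]
    ext <;> simp
    ring
  have e3 : r * r * r = 1 := LinearEquiv.ext fun v => by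
    change (r * r * r) • v = v
    rw [mul_smul, mul_smul, er, er, er]
    ext <;> simp only [one_mul]
    linear_combination v.2 * (by decide +kernel : (3 : F9) = 0)
  have e2 : φ⁻¹ * r * φ = (φ⁻¹ * τ * φ⁻¹⁻¹) * ((φ⁻¹ * r) * τ * (φ⁻¹ * r)⁻¹)⁻¹ := by
    have e4 : τ * r * τ⁻¹ * r⁻¹ = r := by
      have : τ * r = r⁻¹ * τ := by rw [eq_inv_mul_iff_mul_eq, ← mul_assoc, e1]
      rw [this, mul_assoc r⁻¹, mul_inv_cancel, mul_one, ← mul_inv_rev, inv_eq_iff_mul_eq_one, e3]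
    conv_lhs => rw [← e4]
    group
  have m1 : φ⁻¹ * r * φ ∈ sb _ (ax F9) :=
    e2 ▸ mul_mem (all _ (inv_mem hφ)) (inv_mem (all _ (mul_mem (inv_mem hφ) (o.syl.1 hr))))
  have m2 := conj_mem_of_sb (A := ax F9) (B := ax F9)
    ⟨1, fun x => by ext <;> simp [(by decide +kernel : (3 : F9) = 0)]⟩ o.syl (fun u hu => by
      obtain ⟨e, -, eu⟩ := o.act u hu
      refine mem_st.2 ⟨fun x => ?_, fun x _ => ?_, fun x hx => ?_⟩
      · rw [eu]; exact sub_self x.2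
      · rw [eu]; exact sub_self x.2
      · rw [eu, mem_ax.1 hx, mul_zero, add_zero, ← mem_ax.1 hx]) hφ hr m1 m1
  obtain ⟨e, -, ee⟩ := o.act _ m2
  have e5 := ee x
  rw [mem_ax.1 hx, mul_zero, add_zero, ← mem_ax.1 hx, mul_smul, mul_smul, inv_smul_eq_iff, er] at e5
  simpa [mem_ax] using congrArg Prod.fst e5

end U4F
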