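import Mathlib
import Cfsg.Agent.Base
import Cfsg.Agent.Lib.U4F.G1
import Cfsg.Agent.Lib.U4F.Dg

set_option autoImplicit false

namespace U4F

open Subgroup H93.SX
open H68 (SylowIn)
open U5F (qq)
open scoped commutatorElement
open H19.Cov

universe u v

variable {Γ : Type u} {Γ' : Type v} [Group Γ] [Finite Γ] [Group Γ'] [Finite Γ'] {ι : Uf F9 →* Γ}
  {ψ : Uf F9 →* Γ'} {g : Γ} {n l m k k' c : F9} {b : Bool} {X : Set F9}

namespace G2

/-- `f` is induced on `QQ / ZZ` -/
def P (ι : Uf F9 →* Γ) (f : F9 × F9 → F9 × F9) : Prop := ∃ g, AQ ι g f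

/-- the shear -/
def r (e : F9) (v : F9 × F9) : F9 × F9 := (v.1 - e * v.2, v.2)

variable {f f' h : F9 × F9 → F9 × F9}

omit [Finite Γ] in
theorem P.comp (a : P ι f) (b : P ι f') : P ι fun v => f (f' v) := by
  obtain ⟨g, hg, a⟩ := a
  obtain ⟨h, hh, b⟩ := b
  refine ⟨g * h, mul_mem hg hh, fun x hx y hy e => ?_⟩
  obtain ⟨z, hz, e'⟩ := nr_cj hh hx
  have e1 : Cj ι g z y := by simpa using e.trans e'.symm
  rw [a z hz y hy e1, b x hx z hz e']

omit [Finite Γ] in
theorem P.cancel (a : P ι f) (b : P ι h) (e : ∀ v, h v = f' (f v)) : P ι f' := by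
  obtain ⟨g, hg, a⟩ := a
  obtain ⟨k, hk, b⟩ := b
  refine ⟨k * g⁻¹, mul_mem hk (inv_mem hg), fun x hx y hy c => ?_⟩
  obtain ⟨z, hz, c'⟩ := nr_cj' hg hx
  have e1 : Cj ι k z y := by simpa using c.trans c'
  rw [b z hz y hy e1, a z hz x hx c', e]

omit [Finite Γ] in
theorem P.congr (a : P ι f) (e : ∀ v, f v = f' v) : P ι f' := (funext e : f = f') ▸ a

theorem pr (i : Function.Injective ι) (e : F9) (he : star e = e) : P ι (r e) := by
  refine ⟨ι ⟨0, 0, 0, e, star_zero _, he⟩, self_nr fun x _ => by simp, fun x hx y _ c => ?_⟩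
  obtain rfl := c.uniq i (Cj.self _ _)
  have h0 : x.c = 0 := hx
  simp [cQ, r, h0]
  ring

theorem sq : ∀ k a b : F9, jm k (jm k (a, b)) = -(a, b) := by decide +kernel

omit [Finite Γ] in
theorem P.neg (j : Sg ι k) (a : P ι f) : P ι fun v => -f v :=
  (P.comp j (P.comp j a)).congr fun v => sq k (f v).1 (f v).2

theorem third : ∀ k k' : F9, (k - k') * star (k - k') = 1 → ∀ a b : F9,
    -r (-1) (jm k (r (-1) (jm k' (r 1 (jm k (r 1 (a, b))))))) = jm (-(k + k')) (a, b) := by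
  decide +kernel

theorem fix : ∀ l : F9, l ≠ 0 → star l = l → l = 1 ∨ l = -1 := by decide +kernel

theorem dm1 : ∀ n : F9, n ≠ 0 → ∀ l : F9, l = 1 ∨ l = -1 → ∀ (b : Bool) (k : F9),
    dm n l b k * star n = l * n * cond b (star k) k ∧ dm n l b k * star (dm n l b k) = k * star k := by
  decide +kernel

theorem si : star ii = -ii := by decide +kernel

theorem key (hn : n ≠ 0) (hl : l = 1 ∨ l = -1) (b : Bool) (k : F9) : ∃ s : F9, (s = 1 ∨ s = -1) ∧
    ∀ v : F9 × F9, (s * (n * l * sB b (jm k v).1), s * (n * sB b (jm k v).2)) =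
      jm (dm n l b k) (n * l * sB b v.1, n * sB b v.2) := by
  obtain ⟨e1, e2⟩ := dm1 n hn l hl b k
  have l1 : l * l = 1 := by rcases hl with rfl | rfl <;> ring
  have l2 : star l = l := by rcases hl with rfl | rfl <;> simp
  generalize dm n l b k = k' at e1 e2
  cases b
  · refine ⟨l, hl, fun v => ?_⟩
    have hs : ∀ x : F9, sB false x = x := fun _ => rfl
    simp only [hs, jm, e2, star_mul', l2, cond_false] at e1 ⊢
    refine Prod.ext ?_ ?_
    · linear_combination (ii * l * star v.1) * e1 + (n * ii * (k * star k + 1) * v.2) * l1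
    · linear_combination (ii * star v.2) * e1
  · refine ⟨-l, by rcases hl with rfl | rfl <;> simp, fun v => ?_⟩
    have hs : ∀ x : F9, sB true x = star x := fun _ => rfl
    simp only [hs, jm, e2, star_mul', star_add, star_sub, star_neg, star_one, star_star, si, l2,
      cond_true] at e1 ⊢
    refine Prod.ext ?_ ?_
    · linear_combination (ii * l * v.1) * e1 + (n * ii * (k * star k + 1) * star v.2) * l1
    · linear_combination (ii * v.2) * e1

theorem hs : ∃ e : F9, star e ≠ e := ⟨ii, by decide +kernel⟩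

theorem std (F : Cf 3 ι) (S : Std ι) (a : P ι f) (w : ∀ b, (f (b, 0)).2 = 0) :
    ∃ n l b e, n ≠ 0 ∧ l ≠ 0 ∧ Dl ι n l (sB b) ∧ star e = e ∧ star l = l ∧
      ∀ v, f v = (n * l * sB b v.1 - e * (n * sB b v.2), n * sB b v.2) := by
  obtain ⟨g, hg, a⟩ := a
  have gW : g ∈ nr ι (WW F9) := mem_nr_of hg (fun _ h => h.2) fun x hx y hy c => by
    have := congrArg Prod.snd (a x hx.2 y hy c)
    simp only [cQ, hx.1, w] at this
    exact ⟨this, hy⟩
  obtain ⟨s, n, l, hl, σ, hn, h0, d, c⟩ := Std.ext F S seQ hg gW (Q_Z hs F.inj hg)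
  obtain ⟨b, rfl⟩ := sB9 σ
  refine ⟨n, l, b, s.c, hn, h0, d, s.hc, hl, fun v => ?_⟩
  have hx : (⟨v.2, 0, v.1, 0, star_zero _, star_zero _⟩ : Uf F9) ∈ QQ F9 := rfl
  have := a _ hx _ (by simp) (c _ hx)
  rw [show v = cQ ⟨v.2, 0, v.1, 0, star_zero _, star_zero _⟩ from rfl, ← this]
  simp [cQ]
  ring

/-- the conclusion from three values -/
def Ok (k k' : F9) (A B C : F9 × F9) : Prop := ∀ n : F9, A.2 = n → ∀ e : F9, A.1 = -(e * n) → star e = e →
  ∀ l : F9, B.1 = n * l → ∀ b : Bool, C = (-(e * (n * cond b (-ii) ii)), n * cond b (-ii) ii) →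
    ∀ m, dm n l b m = -(k + k') + (k - k') ^ 2 * star (m + (k + k'))

instance (k k' : F9) (A B C : F9 × F9) : Decidable (Ok k k' A B C) := by unfold Ok; infer_instance

theorem fin (F : Cf 3 ι) (S : Std ι) (a : P ι f) (w : ∀ b, (f (b, 0)).2 = 0)
    (o : Ok k k' (f (0, 1)) (f (1, 0)) (f (0, ii))) : ∃ n l b, n ≠ 0 ∧ l ≠ 0 ∧ Dl ι n l (sB b) ∧
      ∀ m, dm n l b m = -(k + k') + (k - k') ^ 2 * star (m + (k + k')) := by
  obtain ⟨n, l, b, e, hn, hl, d, he, -, c⟩ := std F S a w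
  refine ⟨n, l, b, hn, hl, d, o n (by simp [c]) e (by simp [c]) he l (by simp [c]) b ?_⟩
  have : sB b ii = cond b (-ii) ii := by
    cases b
    · rfl
    · exact si
  simp [c, this]

theorem nrm : ∀ d : F9, d ≠ 0 → d * star d = 1 ∨ d * star d = -1 := by decide +kernel

/-- the element of the torus of order four -/
def ta (v : F9 × F9) : F9 × F9 := (ii * v.1, -ii * v.2)

theorem pt (i : Function.Injective ι) (T : T2 ι) : P ι ta :=
  P.congr (Dl.aq i (T (1 + ii) (by decide +kernel)) (by decide +kernel) (by decide +kernel)) fun v => by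
    have e1 : (1 + ii) ^ 2 * ((1 + ii) * star (1 + ii))⁻¹ = ii := by decide +kernel
    have e2 : (1 + ii) ^ 2 = -ii := by decide +kernel
    rw [e1, e2]; rfl

theorem c1 : ∀ k k' : F9, (k - k') * star (k - k') = -1 → (∀ b, (jm k (jm k' (jm k (b, 0)))).2 = 0) ∧
    Ok k k' (jm k (jm k' (jm k (0, 1)))) (jm k (jm k' (jm k (1, 0)))) (jm k (jm k' (jm k (0, ii)))) := by
  decide +kernel

theorem c2 : ∀ k k' : F9, (k - k') * star (k - k') = 1 →
    (∀ b, (ta (jm k (jm k' (jm (-(k + k')) (b, 0))))).2 = 0) ∧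
    Ok k k' (ta (jm k (jm k' (jm (-(k + k')) (0, 1))))) (ta (jm k (jm k' (jm (-(k + k')) (1, 0)))))
      (ta (jm k (jm k' (jm (-(k + k')) (0, ii))))) := by
  decide +kernel

end G2

open G2

theorem sg_dl (i : Function.Injective ι) (T : T2 ι) (h : Sg ι k) (d : Dl ι n l (sB b)) (hn : n ≠ 0) (hl : l ≠ 0) :
    Sg ι (dm n l b k) := by
  have _ := T
  obtain ⟨s, hs, e⟩ := key hn (fix l hl d.1) b k
  have D : P ι _ := Dl.aq i d hn hl
  rcases hs with rfl | rfl
  · exact D.cancel (D.comp h) fun v => by simpa using e v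
  · exact D.cancel ((D.comp h).neg h) fun v => by simpa using e v

theorem sg_third (i : Function.Injective ι) (h : Sg ι k) (h' : Sg ι k') (e : (k - k') * star (k - k') = 1) :
    Sg ι (-(k + k')) := by
  have a := pr i 1 (star_one _)
  have b := pr i (-1) (by simp)
  have c := (b.comp (P.comp h (b.comp (P.comp h' (a.comp (P.comp h a)))))).neg h
  refine P.congr (f' := jm (-(k + k'))) c ?_
  rintro ⟨x, y⟩
  exact third k k' e x y

theorem sg_refl (F : Cf 3 ι) (S : Std ι) (T : T2 ι) (h : Sg ι k) (h' : Sg ι k') (ne : k ≠ k') :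
    ∃ n l b, n ≠ 0 ∧ l ≠ 0 ∧ Dl ι n l (sB b) ∧
      ∀ m, dm n l b m = -(k + k') + (k - k') ^ 2 * star (m + (k + k')) := by
  rcases nrm _ (sub_ne_zero.2 ne) with e | e
  · exact fin F S ((pt F.inj T).comp (P.comp h (P.comp h' (sg_third F.inj h h' e)))) (c2 k k' e).1 (c2 k k' e).2
  · exact fin F S (P.comp h (P.comp h' h)) (c1 k k' e).1 (c1 k k' e).2

end U4F
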