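import Mathlib
import Cfsg.Agent.Base
import Cfsg.Agent.Lib.U4F.Ar
import Cfsg.Agent.Lib.U4F.Cv
import Cfsg.Agent.Lib.U4F.Dg
import Cfsg.Agent.Lib.U4F.Ti

set_option autoImplicit false
set_option linter.unusedSimpArgs false
set_option linter.unnecessarySeqFocus false

namespace U4F

open Subgroup H93.SX
open H68 (SylowIn)
open U5F (qq)
open scoped commutatorElement
open H19.Cov

universe u v

variable {Γ : Type u} {Γ' : Type v} [Group Γ] [Finite Γ] [Group Γ'] [Finite Γ'] {ι : Uf F9 →* Γ}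
  {ψ : Uf F9 →* Γ'} {g : Γ} {n l m k k' c : F9} {b : Bool} {X : Set F9}

namespace G3

open U4F.Uf

theorem three : (3 : F9) = 0 := CharP.cast_eq_zero F9 3

/-- the translation of the cells as an endomorphism -/
def eF (c : F9) : Uf F9 →* Uf F9 := MonoidHom.mk' (fun x =>
  ⟨x.t, x.a - (star c * x.t ^ 2 + c * star x.t ^ 2), x.b + c * star x.t, x.c,
    by simp only [sq, star_sub, star_add, star_mul', star_star, sa]; ring, x.hc⟩)
  fun x y => by
    ext <;> simp only [mul_t, mul_a, mul_b, mul_c, star_add, star_mul', star_star]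
    · linear_combination (-(star c * x.t * y.t + c * star x.t * star y.t)) * three
    · ring

theorem eF_t (c : F9) (x : Uf F9) : (eF c x).t = x.t := rfl
theorem eF_a (c : F9) (x : Uf F9) : (eF c x).a = x.a - (star c * x.t ^ 2 + c * star x.t ^ 2) := rfl
theorem eF_b (c : F9) (x : Uf F9) : (eF c x).b = x.b + c * star x.t := rfl
theorem eF_c (c : F9) (x : Uf F9) : (eF c x).c = x.c := rfl

/-- the translation of the cells as an automorphism -/
def eta (c : F9) : Uf F9 ≃* Uf F9 := MonoidHom.toMulEquiv (eF c) (eF (-c))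
  (MonoidHom.ext fun x => by
    ext <;> simp only [MonoidHom.comp_apply, MonoidHom.id_apply, eF_t, eF_a, eF_b, eF_c, star_neg] <;> ring)
  (MonoidHom.ext fun x => by
    ext <;> simp only [MonoidHom.comp_apply, MonoidHom.id_apply, eF_t, eF_a, eF_b, eF_c, star_neg] <;> ring)

theorem eta_apply (c : F9) (x : Uf F9) : (eta c).toMonoidHom x = eF c x := rfl

theorem eF_V {x : Uf F9} (hx : x ∈ VV F9) : eF c x = x := by
  have h : x.t = 0 := hx
  ext <;> simp [eF_t, eF_a, eF_b, eF_c, h]

theorem key : ∀ n l c : F9, ∀ b : Bool, dm n l b c = c → c * star n = n * l * cond b (star c) c := by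
  decide +kernel

theorem sB_apply (b : Bool) (x : F9) : sB b x = cond b (star x) x := by cases b <;> rfl

theorem eF_dl {hl : star l = l} (h : dm n l b c = c) (x : Uf F9) :
    eF c (dl n l hl (sB b) x) = dl n l hl (sB b) (eF c x) := by
  have k1 := key n l c b h
  rw [← sB_apply] at k1
  have k2 := congrArg star k1
  simp only [star_mul', star_star, hl, ← map_star] at k2
  ext <;> simp only [eF_t, eF_a, eF_b, eF_c, dl_t, dl_a, dl_b, dl_c, map_sub, map_add, map_mul, map_pow,
    star_mul', ← map_star]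
  · linear_combination (-(n * sB b x.t ^ 2)) * k2 - star n * sB b (star x.t) ^ 2 * k1
  · linear_combination sB b (star x.t) * k1

theorem tc_jm : ∀ c k x y : F9, tc c (jm k (x, y)) = jm (k + c) (tc c (x, y)) := by
  decide +kernel

theorem tc_inj {v w : F9 × F9} (h : tc c v = tc c w) : v = w := by
  simp only [tc, Prod.mk.injEq] at h
  exact Prod.ext (by rw [← add_right_cancel_iff, h.1, h.2]) h.2

theorem map_Q (c : F9) : (QQ F9).map (eta c).toMonoidHom = QQ F9 := by
  ext y
  refine ⟨?_, fun h => ⟨(eta c).symm y, h, (eta c).apply_symm_apply y⟩⟩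
  rintro ⟨x, hx, rfl⟩
  exact hx

omit [Finite Γ] in
theorem nrQ (c : F9) : nr (ι.comp (eta c).toMonoidHom) (QQ F9) = nr ι (QQ F9) := by
  rw [nr, ← map_map, map_Q]

omit [Finite Γ] in
theorem nrT (c : F9) : nr (ι.comp (eta c).toMonoidHom) ⊤ = nr ι ⊤ := by
  rw [nr, ← map_map, map_top_of_surjective (eta c).toMonoidHom (eta c).surjective]

end G3

open G3

theorem exists_tr (F : Cf 3 ι) (S : Sd F.inj)
    (hc : ∀ n l b, n ≠ 0 → l ≠ 0 → Dl ι n l (sB b) → dm n l b c = c) :
    ∃ η : Uf F9 ≃* Uf F9, Sd (F.comp η).inj ∧ ∀ k, Sg (ι.comp η.toMonoidHom) k ↔ Sg ι (k + c) := by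
  refine ⟨eta c, ⟨fun g hg => ?_, ?_, (ovV (F.comp (eta c))).ti_odd ⟨ii, by decide⟩ (by decide)⟩, fun k => ?_⟩
  · rw [nrT] at hg
    obtain ⟨s, n, l, hl, σ, hn, h0, h⟩ := S.std g hg
    obtain ⟨b, rfl⟩ := sB9 σ
    have d : dm n l b c = c := hc n l b hn h0 ⟨hl, ι s⁻¹ * g, fun x => by
      have := (Cj.self (ι := ι) s⁻¹ _).trans (h x)
      simpa [mul_assoc] using this⟩
    refine ⟨(eta c).symm s, n, l, hl, sB b, hn, h0, fun x => Cj.comp.2 ?_⟩
    rw [map_mul, map_mul, map_inv, eta_apply c (dl _ _ _ _ _), eF_dl d]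
    have e : (eta c).toMonoidHom ((eta c).symm s) = s := (eta c).apply_symm_apply s
    rw [e]
    exact h (eF c x)
  · obtain ⟨g, h⟩ := S.w2
    refine ⟨g, fun x hx => Cj.comp.2 ?_⟩
    rw [eta_apply, eta_apply, eF_V hx, eF_V (show w2 x ∈ VV F9 from rfl)]
    exact h x hx
  · refine exists_congr fun g => and_congr (by rw [nrQ]) ⟨fun h x hx y hy e => ?_, fun h x hx y hy e => ?_⟩
    · obtain ⟨x, rfl⟩ := (eta c).surjective x
      obtain ⟨y, rfl⟩ := (eta c).surjective y
      show tc c (cQ y) = jm (k + c) (tc c (cQ x))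
      rw [h x hx y hy e]
      exact tc_jm c k _ _
    · refine tc_inj (c := c) ?_
      exact (h (eF c x) hx (eF c y) hy e).trans (tc_jm c k _ _).symm

end U4F
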