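import Mathlib
import Cfsg.Agent.Base
import Cfsg.Agent.Lib.U4F.Cv
import Cfsg.Agent.Lib.U4F.Dg

set_option autoImplicit false

namespace U4F

open Subgroup H93.SX
open H68 (SylowIn)
open U5F (qq)
open scoped commutatorElement

universe u v

variable {K : Type*} {Γ : Type u} {Γ' : Type v} [Field K] [StarRing K] [Finite K] [Group Γ] [Finite Γ]
  [Group Γ'] [Finite Γ'] {p : ℕ} [Fact p.Prime] [CharP K p] {ι : Uf K →* Γ} {ψ : Uf K →* Γ'}
  {E : Subgroup (Uf K)} {g : Γ} {k : Γ'} {x y : Uf K} {t n l n' l' : K} {σ σ' : K ≃⋆+* K}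

namespace Tt

theorem refl_ap (a : K) : (StarRingEquiv.refl : K ≃⋆+* K) a = a := rfl

theorem of_V (F : Cf p ι) (S : Std ι) {hl : star l = l} (hn : n ≠ 0) (h0 : l ≠ 0)
    (h : ∀ x ∈ VV K, Cj ι g x (dl n l hl .refl x)) : Dl ι n l .refl := by
  have e : g ∈ nr ι (VV K) := mem_nr fun x hx => ⟨_, by simp_all, h x hx⟩
  have w : g ∈ nr ι (WW K) := mem_nr fun x hx => ⟨_, by simp_all, h x hx.1⟩
  have z : g ∈ nr ι (ZZ K) := mem_nr fun x hx => ⟨_, by simp_all, h x hx.1⟩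
  obtain ⟨s, n', l', hl', σ, hn', h0', hD, hc⟩ := Std.ext F S seV e w z
  have key : ∀ x ∈ VV K, s * dl n' l' hl' σ x * s⁻¹ = dl n l hl .refl x := fun x hx =>
    (hc x hx).uniq F.inj (h x hx)
  have e1 : l' = l := by
    have := congrArg Uf.c (key ⟨0, 0, 0, 1, by simp, by simp⟩ rfl)
    simpa using this
  subst e1
  obtain ⟨e2, e3⟩ := dl_uniq (n := n') (n' := n) (σ := σ) (σ' := .refl) hn' fun b => by
    have := congrArg Uf.b (key ⟨0, 0, b, 0, by simp, by simp⟩ rfl)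
    simp only [Uf.mul_b, Uf.mul_t, Uf.inv_b, Uf.inv_c, dl_b, dl_c, dl_t, map_zero, mul_zero, add_zero] at this
    apply mul_left_cancel₀ h0
    linear_combination this
  subst e2 e3
  exact hD

theorem aq_mul (i : Function.Injective ι) {g h : Γ} {φ χ : K × K → K × K} (a : AQ ι g φ) (b : AQ ι h χ) :
    AQ ι (g * h) fun v => φ (χ v) := by
  refine ⟨mul_mem a.1 b.1, fun x hx y hy e => ?_⟩
  obtain ⟨z, hz, e1⟩ := nr_cj b.1 hx
  obtain ⟨y', hy', e2⟩ := nr_cj a.1 hz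
  obtain rfl : y = y' := e.uniq i (e2.trans e1)
  rw [a.2 z hz y hy e2, b.2 x hx z hz e1]

theorem aq_self (i : Function.Injective ι) (s : Uf K) : AQ ι (ι s) fun v => (v.1 - s.c * v.2, v.2) := by
  refine ⟨self_nr fun x _ => by simp, fun x hx y _ e => ?_⟩
  obtain rfl : y = s * x * s⁻¹ := e.uniq i (Cj.self s x)
  have hc : x.c = 0 := hx
  simp only [cQ, Uf.mul_b, Uf.mul_t, Uf.inv_b, Uf.inv_c, Uf.inv_t, hc, Prod.mk.injEq]
  constructor <;> ring

/-- the shear with parameter `t` -/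
def ut (t : K) : Uf K := ⟨t, 0, 0, 0, by simp, by simp⟩

/-- the element with last coordinate `c` -/
def vc (c : K) (h : star c = c) : Uf K := ⟨0, 0, 0, c, by simp, h⟩

theorem step {g : Γ} (hg : ∀ x ∈ VV K, Cj ι g x (w2 x)) (t : K) (x : Uf K) (hx : x ∈ VV K) :
    Cj ι (ι (ut t) * g) x ⟨0, x.c - t * x.b - star t * star x.b + t * star t * x.a, -star x.b + t * x.a, x.a,
      by simp only [star_add, star_sub, star_mul', star_star, Uf.sa, Uf.sc]; ring, x.ha⟩ := by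
  have := (Cj.self (ι := ι) (ut t) (w2 x)).trans (hg x hx)
  convert this using 1
  ext <;> simp [ut, w2] <;> ring

end Tt

theorem t2_of (F : Cf p ι) (S : Std ι) (h : W2 ι) : T2 ι := by
  obtain ⟨g, hg⟩ := h
  intro m hm
  have hm' : star m ≠ 0 := by simpa using hm
  have hl : star (m * star m)⁻¹ = (m * star m)⁻¹ := by simp [mul_comm]
  refine Tt.of_V (g := ι (Tt.ut m) * g * (ι (Tt.ut m⁻¹) * g * (ι (Tt.ut m) * g))) (hl := hl) F S
    (pow_ne_zero 2 hm) (inv_ne_zero (mul_ne_zero hm hm')) fun x hx => ?_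
  have h1 := Tt.step hg m x hx
  have h2 := (Tt.step hg m⁻¹ _ rfl).trans h1
  have h3 := (Tt.step hg m _ rfl).trans h2
  have ht : x.t = 0 := hx
  convert h3 using 1
  clear h1 h2 h3
  ext
  · simp [ht]
  · simp only [dl_a, star_add, star_neg, star_mul', star_star, star_sub, star_inv₀, _root_.star_pow, Uf.sa, Uf.sc,
      Tt.refl_ap]
    field_simp
    ring
  · simp only [dl_b, star_add, star_neg, star_mul', star_star, star_sub, star_inv₀, _root_.star_pow, Uf.sa, Uf.sc,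
      Tt.refl_ap]
    field_simp
    ring
  · simp only [dl_c, star_add, star_neg, star_mul', star_star, star_sub, star_inv₀, _root_.star_pow, Uf.sa, Uf.sc,
      Tt.refl_ap]
    field_simp
    ring

theorem t1_of (hs : ∃ e : K, star e ≠ e) (F : Cf p ι) (S : Std ι) (h : W1 ι) : T1 ι := by
  obtain ⟨g, hg⟩ := h
  intro e he hse
  have hse' : star e⁻¹ = e⁻¹ := by simp [hse]
  have a1 := Tt.aq_mul F.inj (Tt.aq_self F.inj (Tt.vc e hse)) hg
  have a2 := Tt.aq_mul F.inj (Tt.aq_self F.inj (Tt.vc e⁻¹ hse')) hg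
  have a3 := Tt.aq_mul F.inj a1 (Tt.aq_mul F.inj a2 a1)
  generalize ι (Tt.vc e hse) * g * (ι (Tt.vc e⁻¹ hse') * g * (ι (Tt.vc e hse) * g)) = k at a3
  have a4 : ∀ x ∈ QQ K, ∀ y ∈ QQ K, Cj ι k x y → y.b = e * x.b ∧ y.t = e⁻¹ * x.t := fun x hx y hy c => by
    have := a3.2 x hx y hy c
    simp only [cQ, Tt.vc, Prod.mk.injEq] at this
    rw [this.1, this.2]
    constructor <;> field_simp <;> ring
  have w : k ∈ nr ι (WW K) := mem_nr_of a3.1 (fun _ h => h.2) fun x hx y hy c =>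
    ⟨by rw [(a4 x hx.2 y hy c).2, hx.1, mul_zero], hy⟩
  obtain ⟨s, n', l', hl', σ, hn', h0', hD, hc⟩ := Std.ext F S seQ a3.1 w (Q_Z hs F.inj a3.1)
  have key : ∀ x ∈ QQ K, (s * dl n' l' hl' σ x * s⁻¹).b = e * x.b ∧ (s * dl n' l' hl' σ x * s⁻¹).t = e⁻¹ * x.t :=
    fun x hx => a4 x hx _ ((hc x hx).mem F.inj a3.1 hx) (hc x hx)
  obtain ⟨e2, e3⟩ := dl_uniq (n := n') (n' := e⁻¹) (σ := σ) (σ' := .refl) hn' fun t => by
    have := (key (Tt.ut t) rfl).2
    simpa [Tt.ut] using this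
  subst e2 e3
  have e1 : l' = e ^ 2 := by
    have := (key ⟨0, 0, 1, 0, by simp, by simp⟩ rfl).1
    simp only [Uf.mul_b, Uf.mul_t, Uf.inv_b, Uf.inv_c, dl_b, dl_c, dl_t, map_zero, mul_zero, add_zero,
      map_one] at this
    have h2 : e⁻¹ * l' = e := by linear_combination this
    field_simp at h2
    exact h2
  subst e1
  exact hD

theorem exists_rho (hs : ∃ e : K, star e ≠ e) (h1 : T1 ι) (h2 : T2 ι) : ∃ r : K, r * star r = 1 ∧ r ≠ 1 ∧ Dl ι r 1 .refl := by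
  by_cases h : (2 : K) = 0
  · obtain ⟨m, hm, hm1⟩ := U5F.exists_norm_one hs
    have hm0 : m ≠ 0 := by
      rintro rfl
      simp at hm
    refine ⟨m ^ 2, ?_, fun e => hm1 ?_, ?_⟩
    · rw [_root_.star_pow, ← mul_pow, hm, one_pow]
    · have : (m - 1) ^ 2 = 0 := by linear_combination e + (1 - m) * h
      exact sub_eq_zero.1 (pow_eq_zero_iff two_ne_zero |>.1 this)
    · have := h2 m hm0
      rwa [hm, inv_one] at this
  · refine ⟨-1, by simp, fun e => h (by linear_combination -e), ?_⟩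
    have := h1 (-1) (by simp) (by simp)
    simpa using this

theorem W2.not (i : Function.Injective ι) (h : W2 ι) : ¬ nr ι (VV K) ≤ nr ι (ZZ K) := by
  obtain ⟨g, hg⟩ := h
  intro hle
  have e : g ∈ nr ι (VV K) := mem_nr fun x hx => ⟨_, rfl, hg x hx⟩
  have := (hg ⟨0, 1, 0, 0, by simp, by simp⟩ rfl).mem i (hle e) ⟨rfl, rfl, rfl⟩
  exact one_ne_zero this.2.2

theorem W1.not (i : Function.Injective ι) (h : W1 ι) : ¬ nr ι (QQ K) ≤ nr ι (WW K) := by
  obtain ⟨g, hg⟩ := h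
  intro hle
  have hx : (⟨0, 0, 1, 0, by simp, by simp⟩ : Uf K) ∈ WW K := ⟨rfl, rfl⟩
  obtain ⟨y, hy, c⟩ := nr_cj (hle hg.1) hx
  have := congrArg Prod.snd (hg.2 _ hx.2 y hy.2 c)
  exact one_ne_zero (this.symm.trans hy.1)

end U4F
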