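import Mathlib
import Cfsg.Agent.Base
import Cfsg.Agent.Lib.U4F.G2
import Cfsg.Agent.Lib.U4F.G3
import Cfsg.Agent.Lib.U4F.Tt

set_option autoImplicit false

namespace U4F

open Subgroup H93.SX
open H68 (SylowIn)
open U5F (qq)
open scoped commutatorElement
open H19.Cov

universe u v

variable {Γ : Type u} {Γ' : Type v} [Group Γ] [Finite Γ] [Group Γ'] [Finite Γ'] {ι : Uf F9 →* Γ}
  {ψ : Uf F9 →* Γ'} {g : Γ} {n l m k k' c : F9} {b : Bool} {X : Set F9}

namespace G4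

/-- a Boolean function on the field given by its nine values -/
def fb (a0 a1 a2 a3 a4 a5 a6 a7 a8 : Bool) (x : F9) : Bool :=
  match x.val.1 with
  | 0 => a0 | 1 => a1 | 2 => a2 | 3 => a3 | 4 => a4 | 5 => a5 | 6 => a6 | 7 => a7 | _ => a8

theorem fb_eq_defs : True := by
  have := @fb.eq_1
  trivial

set_option synthInstance.maxSize 2000 in
set_option synthInstance.maxHeartbeats 200000 in
theorem cls0 : ∀ a0 a1 a2 a3 a4 a5 a6 a7 a8 : Bool, (∃ k, fb a0 a1 a2 a3 a4 a5 a6 a7 a8 k = true) →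
    (∀ k, fb a0 a1 a2 a3 a4 a5 a6 a7 a8 k = true → ∀ k', fb a0 a1 a2 a3 a4 a5 a6 a7 a8 k' = true → k ≠ k' →
      -(k + k') + (k - k') ^ 2 * star (0 + (k + k')) = 0) →
    (∀ k, fb a0 a1 a2 a3 a4 a5 a6 a7 a8 k = true → ∀ k', fb a0 a1 a2 a3 a4 a5 a6 a7 a8 k' = true →
      (k - k') * star (k - k') = 1 → fb a0 a1 a2 a3 a4 a5 a6 a7 a8 (-(k + k')) = true) →
    (∀ k, fb a0 a1 a2 a3 a4 a5 a6 a7 a8 k = true → ∀ k', fb a0 a1 a2 a3 a4 a5 a6 a7 a8 k' = true → k ≠ k' →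
      ∀ m, fb a0 a1 a2 a3 a4 a5 a6 a7 a8 m = true →
        fb a0 a1 a2 a3 a4 a5 a6 a7 a8 (-(k + k') + (k - k') ^ 2 * star (m + (k + k'))) = true) →
    (∃ c, ∀ k, fb a0 a1 a2 a3 a4 a5 a6 a7 a8 k = true ↔ k = c) ∨
    (∃ k1 k2 : F9, (k1 - k2) * star (k1 - k2) = -1 ∧
      ∀ k, fb a0 a1 a2 a3 a4 a5 a6 a7 a8 k = true ↔ k = k1 ∨ k = k2) ∨
    (∃ m : F9, m * star m = 1 ∧ ∀ k, fb a0 a1 a2 a3 a4 a5 a6 a7 a8 k = true ↔ k = 0 ∨ k = m ∨ k = -m) ∨
    ∀ k, fb a0 a1 a2 a3 a4 a5 a6 a7 a8 k = true ↔ k * star k ≠ -1 := by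
  decide +kernel

theorem cls (A : F9 → Prop) (h0 : ∃ k, A k)
    (h1 : ∀ k, A k → ∀ k', A k' → k ≠ k' → -(k + k') + (k - k') ^ 2 * star (0 + (k + k')) = 0)
    (h2 : ∀ k, A k → ∀ k', A k' → (k - k') * star (k - k') = 1 → A (-(k + k')))
    (h3 : ∀ k, A k → ∀ k', A k' → k ≠ k' → ∀ m, A m →
      A (-(k + k') + (k - k') ^ 2 * star (m + (k + k')))) :
    (∃ c, ∀ k, A k ↔ k = c) ∨
    (∃ k1 k2 : F9, (k1 - k2) * star (k1 - k2) = -1 ∧ ∀ k, A k ↔ k = k1 ∨ k = k2) ∨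
    (∃ m : F9, m * star m = 1 ∧ ∀ k, A k ↔ k = 0 ∨ k = m ∨ k = -m) ∨
    ∀ k, A k ↔ k * star k ≠ -1 := by
  classical
  have e : ∀ x, fb (decide (A ⟨0⟩)) (decide (A ⟨1⟩)) (decide (A ⟨2⟩)) (decide (A ⟨3⟩)) (decide (A ⟨4⟩))
      (decide (A ⟨5⟩)) (decide (A ⟨6⟩)) (decide (A ⟨7⟩)) (decide (A ⟨8⟩)) x = true ↔ A x := by
    rintro ⟨x⟩
    fin_cases x <;> exact decide_eq_true_iff
  have := cls0 (decide (A ⟨0⟩)) (decide (A ⟨1⟩)) (decide (A ⟨2⟩)) (decide (A ⟨3⟩)) (decide (A ⟨4⟩))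
      (decide (A ⟨5⟩)) (decide (A ⟨6⟩)) (decide (A ⟨7⟩)) (decide (A ⟨8⟩))
  simp only [e] at this
  exact this h0 h1 h2 h3

theorem dm_add (n l : F9) (b : Bool) (x y : F9) : dm n l b (x + y) = dm n l b x + dm n l b y := by
  cases b <;> simp [dm, mul_add]

theorem dm_neg (n l : F9) (b : Bool) (x : F9) : dm n l b (-x) = -dm n l b x := by
  cases b <;> simp [dm]

theorem dm_zero (n l : F9) (b : Bool) : dm n l b 0 = 0 := by
  cases b <;> simp [dm]

theorem dm_eq_zero (hn : n ≠ 0) (hl : l ≠ 0) (h : dm n l b m = 0) : m = 0 := by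
  cases b <;> simpa [dm, hn, hl] using h

theorem dm_inj (hn : n ≠ 0) (hl : l ≠ 0) (h : dm n l b k = dm n l b k') : k = k' := by
  have : dm n l b (k + -k') = 0 := by rw [dm_add, dm_neg, h, add_neg_cancel]
  exact sub_eq_zero.1 (by rw [sub_eq_add_neg]; exact dm_eq_zero hn hl this)

theorem unit_norm : ∀ n l : F9, n ≠ 0 → l ≠ 0 → star l = l →
    l * (n * n * n * n * n * n) * star (l * (n * n * n * n * n * n)) = 1 := by decide +kernel

theorem exists_mu : ∀ x y : F9, x ≠ 0 → star y = y → y * (x * x * x * x * x * x) = 1 →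
    ∃ μ : F9, μ ≠ 0 ∧ μ ^ 2 = x ∧ (μ * star μ)⁻¹ = y := by decide +kernel

theorem b_eq : ∀ (u u' : F9) (b b' : Bool), u ≠ 0 →
    (∀ m : F9, u * cond b (star m) m = u' * cond b' (star m) m) → u = u' ∧ b = b' := by decide +kernel

/-- `f` is induced on the cells -/
def Re (ι : Uf F9 →* Γ) (f : F9 → F9) : Prop :=
  ∃ n l b, n ≠ 0 ∧ l ≠ 0 ∧ Dl ι n l (sB b) ∧ ∀ m, dm n l b m = f m

theorem re_eq_defs : True := by
  have := @Re.eq_1.{0}
  trivial

theorem Re.full (T : T2 ι) {f : F9 → F9} (h : Re ι f) (hn : n ≠ 0) (hl : l ≠ 0) (sl : star l = l)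
    (e : ∀ m, f m = dm n l b m) : Dl ι n l (sB b) := by
  obtain ⟨n0, l0, b0, hn0, hl0, d, e0⟩ := h
  obtain ⟨e1, rfl⟩ := b_eq (l0 * (n0 * n0 * n0 * n0 * n0 * n0)) (l * (n * n * n * n * n * n)) b0 b
    (by simp [hn0, hl0]) fun m => (e0 m).trans (e m)
  have sl0 : star l0 = l0 := d.1
  obtain ⟨μ, hμ, e2, e3⟩ := exists_mu (n / n0) (l / l0) (div_ne_zero hn hn0)
    (by rw [star_div₀, sl, sl0]) (by field_simp; linear_combination -e1)
  have := (T μ hμ).mul d
  rw [e2, e3] at this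
  convert this using 1
  · change n = n / n0 * n0
    field_simp
  · change l = l / l0 * l0
    field_simp
  · rfl

theorem Re.one : Re ι fun m => m :=
  ⟨1, 1, false, one_ne_zero, one_ne_zero, Dl.one, fun m => by simp [dm]⟩

theorem sBf (x : F9) : sB false x = x := rfl

theorem sBt (x : F9) : sB true x = star x := rfl

theorem Re.comp {f f' : F9 → F9} (h : Re ι f) (h' : Re ι f') : Re ι fun m => f (f' m) := by
  obtain ⟨n, l, b, hn, hl, d, e⟩ := h
  obtain ⟨n', l', b', hn', hl', d', e'⟩ := h'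
  refine ⟨n * sB b n', l * sB b l', xor b b', mul_ne_zero hn (by simpa using hn'),
    mul_ne_zero hl (by simpa using hl'), ?_, fun m => ?_⟩
  · convert d.mul d' using 1
    cases b <;> cases b' <;> ext x
    · rfl
    · rfl
    · rfl
    · exact (star_star x).symm
  · change _ = f (f' m)
    rw [← e, ← e']
    cases b <;> cases b' <;> simp only [dm, sBf, sBt, star_mul', star_star, Bool.xor_false, Bool.xor_true,
      Bool.not_false, Bool.not_true, cond_true, cond_false] <;> ring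

theorem re_neg (F : Cf 3 ι) (S : Std ι) (T : T2 ι) (h : Sg ι m) (h' : Sg ι (-m)) (hm : m ≠ -m) :
    Re ι fun x => (m - -m) ^ 2 * star x := by
  obtain ⟨n, l, b, hn, hl, d, e⟩ := sg_refl F S T h h' hm
  exact ⟨n, l, b, hn, hl, d, fun x => by rw [e]; simp⟩

theorem ty1 (F : Cf 3 ι) (S : Sd F.inj) (h : ∀ k, Sg ι k ↔ k = 0) : Ty ι {m | m * star m = 1} := by
  have T := t2_of F S.std S.w2
  refine ⟨⟨1, by simp⟩, fun m hm => by simpa using hm, fun n l b hn hl d m hm => ?_,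
    fun n l b hn hl sl e => Re.one.full T hn hl sl ?_, fun k => (h k).trans ?_⟩
  · have := unit_norm n l hn hl d.1
    simp only [Set.mem_ofPred_eq] at hm ⊢
    cases b
    · simp only [dm, cond_false, star_mul'] at this ⊢
      linear_combination m * star m * this + hm
    · simp only [dm, cond_true, star_mul', star_star] at this ⊢
      linear_combination m * star m * this + hm
  · have : ∀ (u : F9) (b : Bool), (∀ m : F9, m * star m = 1 → u * cond b (star m) m = m) →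
        ∀ m : F9, m = u * cond b (star m) m := by decide +kernel
    exact this _ b e
  · simp only [Set.mem_ofPred_eq]
    revert k
    decide +kernel

theorem ty2 (F : Cf 3 ι) (S : Sd F.inj) (hm : m * star m = -1) (h : ∀ k, Sg ι k ↔ k = m ∨ k = -m) :
    Ty ι {x | x = ii * m ∨ x = -(ii * m)} := by
  have T := t2_of F S.std S.w2
  refine ⟨⟨_, Or.inl rfl⟩, ?_, fun n l b hn hl d x hx => ?_,
    fun n l b hn hl sl e => ?_, fun k => (h k).trans ?_⟩
  · rintro x (rfl | rfl)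
    · exact Or.inr rfl
    · exact Or.inl (neg_neg _)
  · have h1 := (h _).1 (sg_dl F.inj T ((h m).2 (Or.inl rfl)) d hn hl)
    have : ∀ (u m x : F9) (b : Bool), (u * cond b (star m) m = m ∨ u * cond b (star m) m = -m) →
        (x = ii * m ∨ x = -(ii * m)) →
        u * cond b (star x) x = ii * m ∨ u * cond b (star x) x = -(ii * m) := by decide +kernel
    exact this _ m x b h1 hx
  · have : ∀ (u m : F9) (b : Bool), m * star m = -1 → u * cond b (star (ii * m)) (ii * m) = ii * m →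
        m ≠ -m ∧ ((∀ x : F9, x = u * cond b (star x) x) ∨
          ∀ x : F9, (m - -m) ^ 2 * star x = u * cond b (star x) x) := by decide +kernel
    obtain ⟨h1, h2 | h2⟩ := this _ m b hm (e _ (Or.inl rfl))
    · exact Re.one.full T hn hl sl h2
    · exact (re_neg F S.std T ((h _).2 (Or.inl rfl)) ((h _).2 (Or.inr rfl)) h1).full T hn hl sl h2
  · simp only [Set.mem_ofPred_eq]
    clear h
    revert k m
    decide +kernel

theorem ty3 (F : Cf 3 ι) (S : Sd F.inj) (hm : m * star m = 1)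
    (h : ∀ k, Sg ι k ↔ k = 0 ∨ k = m ∨ k = -m) : Ty ι {x | x = m ∨ x = -m} := by
  have T := t2_of F S.std S.w2
  refine ⟨⟨_, Or.inl rfl⟩, ?_, fun n l b hn hl d x hx => ?_,
    fun n l b hn hl sl e => ?_, fun k => (h k).trans ?_⟩
  · rintro x (rfl | rfl)
    · exact Or.inr rfl
    · exact Or.inl (neg_neg _)
  · refine ((h _).1 (sg_dl F.inj T ((h x).2 (Or.inr hx)) d hn hl)).resolve_left fun e => ?_
    have e0 := dm_eq_zero hn hl e
    have hm0 : m ≠ 0 := by
      rintro rfl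
      simp at hm
    rcases hx with rfl | rfl
    · exact hm0 e0
    · exact hm0 (neg_eq_zero.1 e0)
  · have : ∀ (u m : F9) (b : Bool), m * star m = 1 → u * cond b (star m) m = m →
        m ≠ -m ∧ ((∀ x : F9, x = u * cond b (star x) x) ∨
          ∀ x : F9, (m - -m) ^ 2 * star x = u * cond b (star x) x) := by decide +kernel
    obtain ⟨h1, h2 | h2⟩ := this _ m b hm (e _ (Or.inl rfl))
    · exact Re.one.full T hn hl sl h2
    · exact (re_neg F S.std T ((h _).2 (Or.inr (Or.inl rfl))) ((h _).2 (Or.inr (Or.inr rfl))) h1).full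
        T hn hl sl h2
  · simp only [Set.mem_ofPred_eq]
    clear h
    revert k m
    decide +kernel

theorem ty4 (F : Cf 3 ι) (S : Sd F.inj) (h : ∀ k, Sg ι k ↔ k * star k ≠ -1) : Ty ι {x | x = 0} := by
  have T := t2_of F S.std S.w2
  have hr : ∀ u : F9, u * star u = 1 → Re ι fun x => u * star x := by
    intro u hu
    have : ∀ u : F9, u * star u = 1 → ∃ k k' : F9, k * star k ≠ -1 ∧ k' * star k' ≠ -1 ∧ k ≠ k' ∧
        ∀ m : F9, -(k + k') + (k - k') ^ 2 * star (m + (k + k')) = u * star m := by decide +kernel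
    obtain ⟨k, k', h1, h2, h3, h4⟩ := this u hu
    obtain ⟨n, l, b, hn, hl, d, e⟩ := sg_refl F S.std T ((h k).2 h1) ((h k').2 h2) h3
    exact ⟨n, l, b, hn, hl, d, fun x => (e x).trans (h4 x)⟩
  refine ⟨⟨0, rfl⟩, ?_, ?_, fun n l b hn hl sl _ => ?_, fun k => (h k).trans (by simp)⟩
  · rintro x rfl
    exact neg_zero
  · rintro n l b - - - x rfl
    exact dm_zero n l b
  · have hu := hr _ (unit_norm n l hn hl sl)
    cases b
    · exact (hu.comp (hr 1 (by simp))).full T hn hl sl fun x => by simp [dm]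
    · exact hu.full T hn hl sl fun x => by simp [dm]

end G4

theorem exists_ty (F : Cf 3 ι) (S : Sd F.inj) (h : ¬ nr ι (QQ F9) ≤ nr ι (WW F9)) :
    ∃ (η : Uf F9 ≃* Uf F9) (X : Set F9), Sd (F.comp η).inj ∧ Ty (ι.comp η.toMonoidHom) X := by
  have T := t2_of F S.std S.w2
  rcases G4.cls (Sg ι) (exists_sg F T h)
    (fun k hk k' hk' ne => by
      obtain ⟨n, l, b, -, -, -, e⟩ := sg_refl F S.std T hk hk' ne
      rw [← e, G4.dm_zero])
    (fun k hk k' hk' e => sg_third F.inj hk hk' e)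
    (fun k hk k' hk' ne m hm => by
      obtain ⟨n, l, b, hn, hl, d, e⟩ := sg_refl F S.std T hk hk' ne
      rw [← e]
      exact sg_dl F.inj T hm d hn hl) with ⟨c, hc⟩ | ⟨k1, k2, hN, hk⟩ | ⟨m, hm, hk⟩ | hk
  · obtain ⟨η, S', e⟩ := exists_tr (c := c) F S fun n l b hn hl d =>
      (hc _).1 (sg_dl F.inj T ((hc c).2 rfl) d hn hl)
    exact ⟨η, _, S', G4.ty1 (F.comp η) S' fun k => by rw [e, hc, add_eq_right]⟩
  · have hne : k1 ≠ k2 := by
      rintro rfl
      simp at hN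
    obtain ⟨η, S', e⟩ := exists_tr (c := -(k1 + k2)) F S fun n l b hn hl d => by
      have a1 := (hk _).1 (sg_dl F.inj T ((hk k1).2 (Or.inl rfl)) d hn hl)
      have a2 := (hk _).1 (sg_dl F.inj T ((hk k2).2 (Or.inr rfl)) d hn hl)
      rw [G4.dm_neg, G4.dm_add]
      rcases a1 with a1 | a1 <;> rcases a2 with a2 | a2
      · exact absurd (G4.dm_inj hn hl (a1.trans a2.symm)) hne
      · rw [a1, a2]
      · rw [a1, a2, add_comm]
      · exact absurd (G4.dm_inj hn hl (a1.trans a2.symm)) hne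
    refine ⟨η, _, S', G4.ty2 (F.comp η) S' hN fun k => ?_⟩
    rw [e, hk]
    have : ∀ k k1 k2 : F9, (k + -(k1 + k2) = k1 ∨ k + -(k1 + k2) = k2) ↔
        k = k1 - k2 ∨ k = -(k1 - k2) := by decide +kernel
    exact this k k1 k2
  · obtain ⟨η, S', e⟩ := exists_tr (c := 0) F S fun n l b _ _ _ => G4.dm_zero n l b
    exact ⟨η, _, S', G4.ty3 (F.comp η) S' hm fun k => by rw [e, add_zero, hk]⟩
  · obtain ⟨η, S', e⟩ := exists_tr (c := 0) F S fun n l b _ _ _ => G4.dm_zero n l b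
    exact ⟨η, _, S', G4.ty4 (F.comp η) S' fun k => by rw [e, add_zero, hk]⟩

end U4F
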