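import Mathlib
import Cfsg.Agent.Base
import Cfsg.Agent.Lib.U4F.Cv
import Cfsg.Agent.Lib.U4F.Dg

set_option autoImplicit false

namespace U4F

open Subgroup H93.SX
open H68 (SylowIn)
open U5F (qq)
open scoped commutatorElement

universe u v

variable {K : Type*} {Γ : Type u} {Γ' : Type v} [Field K] [StarRing K] [Finite K] [Group Γ] [Finite Γ]
  [Group Γ'] [Finite Γ'] {p : ℕ} [Fact p.Prime] [CharP K p] {ι : Uf K →* Γ} {ψ : Uf K →* Γ'}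
  {E : Subgroup (Uf K)} {g : Γ} {k : Γ'} {x y : Uf K} {t n l n' l' : K} {σ σ' : K ≃⋆+* K}

theorem RQ.rep (hs : ∃ e : K, star e ≠ e) (z : K → K) (h1 : ∀ a b, z (a + b) = z a + z b)
    (h2 : ∀ a, star (z a) = z a) (h3 : ∀ e a, star e = e → z (e * a) = e * z a) :
    ∃ m, ∀ a, z a = m * star a + star m * a := by
  obtain ⟨e, he⟩ := hs
  have n := sub_ne_zero.2 he
  have n' := sub_ne_zero.2 he.symm
  refine ⟨(z e - e * z 1) / (star e - e), fun a => ?_⟩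
  have hb : star ((star a - a) / (star e - e)) = (star a - a) / (star e - e) := by
    rw [star_div₀, star_sub, star_sub, star_star, star_star]; field_simp; ring
  have := h1 ((a - (star a - a) / (star e - e) * e) * 1) ((star a - a) / (star e - e) * e)
  rw [h3 _ _ hb, h3 _ _ (by rw [star_sub, star_mul', hb]; field_simp; ring), mul_one, sub_add_cancel] at this
  rw [this, star_div₀, star_sub, star_sub, star_mul', star_star, h2, h2]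
  field_simp
  ring

theorem RQ.extQ (hx : x ∈ QQ K) (hy : y ∈ QQ K) (h : cQ x = cQ y) (h' : x.a = y.a) : x = y :=
  Uf.ext (congrArg Prod.snd h) h' (congrArg Prod.fst h) (Eq.trans hx (Eq.symm hy))

theorem RQ.cj {s : Uf K} (hs : s ∈ QQ K) (hx : x ∈ QQ K) : s * x * s⁻¹ ∈ QQ K ∧ cQ (s * x * s⁻¹) = cQ x ∧
    (s * x * s⁻¹).a = x.a + be (cQ s) (cQ x) := by
  refine ⟨mul_mem (mul_mem hs hx) (inv_mem hs), ?_, ?_⟩ <;> simp [cQ, be, mem_QQ.1 hs, mem_QQ.1 hx]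
  ring

theorem RQ.core (hs : ∃ e : K, star e ≠ e) (f : Uf K → Uf K) (h1 : ∀ x ∈ QQ K, ∀ y ∈ QQ K, f (x * y) = f x * f y)
    (h2 : ∀ x ∈ QQ K, f x ∈ QQ K ∧ cQ (f x) = cQ x) (h3 : ∀ z : K × K →+ K,
      (∀ x ∈ QQ K, (f x).a = x.a + z (cQ x)) → ∀ e : K, star e = e → ∀ v, z (e • v) = e * z v) :
    ∃ s ∈ QQ K, ∀ x ∈ QQ K, f x = s * x * s⁻¹ := by
  let φ : QQ K →* Uf K := MonoidHom.mk' (fun x => f x) fun x y => h1 x x.2 y y.2
  let u : K × K → Uf K := fun v => ⟨v.2, 0, v.1, 0, star_zero _, star_zero _⟩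
  have hu : ∀ v, u v ∈ QQ K := fun _ => rfl
  have hZ : ∀ x ∈ ZZ K, f x = x := fun x hx => by
    obtain ⟨c, hc⟩ := U5F.exists_tr hs x.ha
    have k : ∀ a ∈ QQ K, ∀ b ∈ QQ K, cQ a = (0, 1) → cQ b = (c, 0) → ⁅a, b⁆ = x := fun a ha b hb e e' =>
      RQ.extQ (comm_Q ha hb).2.2 hx.2.2 (Prod.ext ((comm_Q ha hb).2.1.trans hx.2.1.symm)
        ((comm_Q ha hb).1.trans hx.1.symm)) (by rw [← Cv.be_eq ha hb, e, e', ← hc]; simp [be, add_comm])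
    have := map_commutatorElement φ ⟨_, hu (0, 1)⟩ ⟨_, hu (c, 0)⟩
    rw [show φ ⁅_, _⁆ = f ⁅u (0, 1), u (c, 0)⁆ from rfl, k _ (hu _) _ (hu _) rfl rfl] at this
    exact this.trans (k _ (h2 _ (hu _)).1 _ (h2 _ (hu _)).1 (h2 _ (hu _)).2 (h2 _ (hu _)).2)
  have A : ∀ x ∈ QQ K, (f x).a = x.a + (f (u (cQ x))).a := fun x hx => by
    have := h1 ⟨0, x.a, 0, 0, x.ha, star_zero _⟩ rfl _ (hu (cQ x))
    rw [hZ ⟨0, x.a, 0, 0, x.ha, star_zero _⟩ ⟨rfl, rfl, rfl⟩, show _ * u (cQ x) = x from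
      RQ.extQ (by simp [u]) hx (by simp [cQ, u]) (by simp [u])] at this
    simp [this]
  let z : K × K →+ K := AddMonoidHom.mk' (fun v => (f (u v)).a) fun v w => by
    have := A _ (mul_mem (hu v) (hu w))
    rw [h1 _ (hu v) _ (hu w), show cQ (u v * u w) = v + w by ext <;> simp [cQ, u], Uf.mul_a, Uf.mul_a,
      show (f (u v)).t = _ from congrArg Prod.snd (h2 _ (hu v)).2,
      show (f (u w)).b = _ from congrArg Prod.fst (h2 _ (hu w)).2, mem_QQ.1 (h2 _ (hu w)).1] at this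
    simp only [cQ, u] at this ⊢
    linear_combination -this
  obtain ⟨m, hm⟩ := RQ.rep hs (fun b => z (b, 0)) (fun a b => by rw [← map_add]; simp) (fun _ => Uf.sa _)
    fun e a he => by simpa using h3 z A e he (a, 0)
  obtain ⟨m', hm'⟩ := RQ.rep hs (fun t => z (0, t)) (fun a b => by rw [← map_add]; simp) (fun _ => Uf.sa _)
    fun e a he => by simpa using h3 z A e he (0, a)
  refine ⟨u (-m', m), hu _, fun x hx => ?_⟩
  obtain ⟨a, b, c⟩ := RQ.cj (hu (-m', m)) hx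
  refine RQ.extQ (h2 x hx).1 a ((h2 x hx).2.trans b.symm) ?_
  rw [c, A x hx, show (f (u (cQ x))).a = z ((x.b, 0) + (0, x.t)) by simp [z, cQ], map_add, hm, hm']
  simp [be, cQ, u]
  ring

theorem RQ.fin (i : Function.Injective ι) (i' : Function.Injective ψ) {φ : K × K → K × K} (a : AQ ι g φ)
    (b : AQ ψ k φ) (h : ∀ f : Uf K → Uf K, (∀ x ∈ QQ K, ∀ y ∈ QQ K, f (x * y) = f x * f y) →
      (∀ x ∈ QQ K, f x ∈ QQ K ∧ cQ (f x) = cQ x) → (∀ x ∈ QQ K, ∀ y, Cj ι g x y → Cj ψ k x (f y)) →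
      ∃ s ∈ QQ K, ∀ x ∈ QQ K, f x = s * x * s⁻¹) : ∃ k', ∀ x ∈ QQ K, ∀ y, Cj ι g x y → Cj ψ k' x y := by
  have : ∀ y ∈ QQ K, ∃ w ∈ QQ K, ∃ x ∈ QQ K, Cj ι g x y ∧ Cj ψ k x w := fun y hy =>
    let ⟨x, hx, e⟩ := nr_cj' a.1 hy; let ⟨w, hw, e'⟩ := nr_cj b.1 hx; ⟨w, hw, x, hx, e, e'⟩
  choose! f hf X hX e1 e2 using this
  have k1 : ∀ x ∈ QQ K, ∀ y, Cj ι g x y → Cj ψ k x (f y) := fun x hx y e =>
    e.symm.uniq i (e1 y (e.mem i a.1 hx)).symm ▸ e2 y (e.mem i a.1 hx)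
  obtain ⟨s, -, hs⟩ := h f (fun x hx y hy => (k1 _ (mul_mem (hX x hx) (hX y hy)) _ ((e1 x hx).mul (e1 y hy))).uniq i'
    ((e2 x hx).mul (e2 y hy))) (fun y hy => ⟨hf y hy, (b.2 _ (hX y hy) _ (hf y hy) (e2 y hy)).trans
      (a.2 _ (hX y hy) _ hy (e1 y hy)).symm⟩) k1
  exact ⟨(ψ s)⁻¹ * k, fun x hx y e => (Cj.self s y).symm.trans (hs y (e.mem i a.1 hx) ▸ k1 x hx y e)⟩

theorem RQ.tw (hs : ∃ e : K, star e ≠ e) (F : Cf p ι) {r : K} (h1 : r * star r = 1) {h : Γ}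
    (d : ∀ x, Cj ι h x (dl r 1 (star_one _) .refl x)) {φ : K × K → K × K} (a : AQ ι g φ)
    (c : ∀ v, φ (r • v) = r • φ v) : ∃ s ∈ QQ K, ∀ x ∈ QQ K, ∀ y, Cj ι g x y →
      Cj ι g (dl r 1 (star_one _) .refl x) (dl r 1 (star_one _) .refl (s * y * s⁻¹)) := by
  have r0 : r ≠ 0 := left_ne_zero_of_mul_eq_one h1
  have dq : ∀ x ∈ QQ K, dl r 1 (star_one _) .refl x ∈ QQ K := fun x hx => by simpa using hx
  have dc : ∀ x, cQ (dl r 1 (star_one _) .refl x) = r • cQ x := fun x => by simp [cQ]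
  have dz : ∀ x ∈ ZZ K, dl r 1 (star_one _) .refl x = x := fun x hx => by ext <;> simp [h1, hx.1, hx.2.1]
  have key : ∀ y ∈ QQ K, ∃ w ∈ QQ K, Cj ι (h⁻¹ * (g * h * g⁻¹)) y w ∧ cQ w = cQ y ∧ (y ∈ ZZ K → w = y) :=
    fun y hy => by
      obtain ⟨x, hx, e⟩ := nr_cj' a.1 hy
      obtain ⟨y1, m1, e1⟩ := nr_cj a.1 (dq x hx)
      obtain ⟨w, hw, e2⟩ := nr_cj' (mem_nr fun x hx => ⟨_, dq x hx, d x⟩) m1
      refine ⟨w, hw, e2.symm.trans ((e1.trans (d x)).trans e.symm), smul_right_injective _ r0 ?_, fun hz => ?_⟩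
      · simp only
        rw [← dc, ← e2.uniq F.inj (d w), a.2 _ (dq x hx) _ m1 e1, dc, c, a.2 x hx y hy e]
      · rw [dz x (e.mem' F.inj (Q_Z hs F.inj a.1) hz)] at e1
        rw [e1.uniq F.inj e] at e2
        exact e2.symm.uniq F.inj (dz y hz ▸ d y).symm
  have kz : ∀ {y w : Uf K}, y ∈ QQ K → w ∈ QQ K → cQ w = cQ y → w * y⁻¹ ∈ ZZ K := fun {y w} hy hw e => by
    have e1 : w.b = y.b := congrArg Prod.fst e
    have e2 : w.t = y.t := congrArg Prod.snd e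
    simp [e1, e2, mem_QQ.1 hy, mem_QQ.1 hw]
  obtain ⟨s, e⟩ := seQ.inner F (mem_ch seQ.a seQ.b seQ.c
    (fun y hy => let ⟨w, m, e, e', _⟩ := key y hy; ⟨w, e, seQ.b (kz hy m e')⟩)
    (fun y hy => let ⟨w, m, e, e', _⟩ := key y hy.2; ⟨w, e, kz hy.2 m e'⟩)
    (fun y hy => let ⟨w, _, e, _, e'⟩ := key y hy.2.2; ⟨w, e, by simp [e' hy]⟩)
    fun y hy => by rw [mem_bot.1 hy, Cj, map_one, mul_one, mul_inv_cancel])
  refine ⟨s, ?_, fun x hx y e' => ?_⟩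
  · obtain ⟨w, -, e1, e2, -⟩ := key ⟨1, 0, 0, 0, star_zero _, star_zero _⟩ rfl
    rw [e1.uniq F.inj (e _ rfl)] at e2
    simpa [cQ, add_mul] using e2
  · have := (((d _).trans (e y (e'.mem F.inj a.1 hx))).trans e').trans (d x).symm
    rwa [show h * (h⁻¹ * (g * h * g⁻¹)) * g * h⁻¹ = g by group] at this

theorem inner_Q (hs : ∃ e : K, star e ≠ e) (f : Uf K → Uf K) (h1 : ∀ x ∈ QQ K, ∀ y ∈ QQ K, f (x * y) = f x * f y)
    (h2 : ∀ x ∈ QQ K, f x ∈ QQ K ∧ cQ (f x) = cQ x)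
    (h3 : ∀ e : K, star e = e → ∃ z : ℤ, e = z) : ∃ s ∈ QQ K, ∀ x ∈ QQ K, f x = s * x * s⁻¹ := RQ.core hs f h1 h2 fun z _ e he v => by
    obtain ⟨j, rfl⟩ := h3 e he
    rw [Int.cast_smul_eq_zsmul, map_zsmul, zsmul_eq_mul]

theorem rq_prime (hs : ∃ e : K, star e ≠ e) (i : Function.Injective ι) (i' : Function.Injective ψ)
    (h3 : ∀ e : K, star e = e → ∃ z : ℤ, e = z) {φ : K × K → K × K} (a : AQ ι g φ) (b : AQ ψ k φ) :
    ∃ k', ∀ x ∈ QQ K, ∀ y, Cj ι g x y → Cj ψ k' x y := RQ.fin i i' a b fun f h1 h2 _ => inner_Q hs f h1 h2 h3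

theorem rq (hs : ∃ e : K, star e ≠ e) (F : Cf p ι) (F' : Cf p ψ) {r : K} (h1 : r * star r = 1) (h2 : r ≠ 1)
    (d : Dl ι r 1 .refl) (d' : Dl ψ r 1 .refl) {φ : K × K → K × K} (a : AQ ι g φ) (b : AQ ψ k φ)
    (c : ∀ v, φ (r • v) = r • φ v) : ∃ k', ∀ x ∈ QQ K, ∀ y, Cj ι g x y → Cj ψ k' x y := by
  obtain ⟨_, h, d⟩ := d
  obtain ⟨_, h', d'⟩ := d'
  obtain ⟨s, hs1, e1⟩ := RQ.tw hs F h1 d a c
  obtain ⟨s', hs2, e2⟩ := RQ.tw hs F' h1 d' b c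
  refine RQ.fin F.inj F'.inj a b fun f f1 f2 f3 => RQ.core hs f f1 f2 fun z hz e he v => ?_
  have key : ∀ v, z ((r - 1) • v) = be (cQ s') v - be (cQ s) v := fun v => by
    obtain ⟨y, hy, rfl⟩ := Cv.sQ v
    obtain ⟨x, hx, c1⟩ := nr_cj' a.1 hy
    obtain ⟨m1, m2, m3⟩ := RQ.cj hs1 hy
    obtain ⟨-, -, m4⟩ := RQ.cj hs2 (f2 y hy).1
    have := congrArg Uf.a ((f3 _ (by simpa using hx) _ (e1 x hx y c1)).uniq F'.inj (e2 x hx _ (f3 x hx y c1)))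
    rw [hz _ (by simpa using mem_QQ.1 m1), show cQ (dl r 1 _ .refl (s * y * s⁻¹)) = r • cQ (s * y * s⁻¹) by
      simp only [cQ, dl_b, dl_t, mul_one]; rfl, dl_a, dl_a, m2, m3, m4, hz y hy, (f2 y hy).2, h1] at this
    rw [sub_smul, one_smul, map_sub]
    simp only [StarRingEquiv.coe_refl, id, mul_one, one_mul] at this
    linear_combination this
  obtain ⟨v, rfl⟩ : ∃ w, v = (r - 1) • w := ⟨(r - 1)⁻¹ • v, by rw [smul_inv_smul₀ (sub_ne_zero.2 h2)]⟩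
  rw [smul_comm, key, key]
  simp only [be, Prod.smul_fst, Prod.smul_snd, smul_eq_mul, star_mul', he]
  ring

end U4F
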