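import Mathlib
import Cfsg.Agent.Base
import Cfsg.Agent.Lib.U4F.G1
import Cfsg.Agent.Lib.U4F.RQ
import Cfsg.Agent.Lib.U4F.EQ

set_option autoImplicit false

namespace U4F

open Subgroup H93.SX
open H68 (SylowIn)
open U5F (qq)
open scoped commutatorElement
open H19.Cov

universe u v

variable {Γ : Type u} {Γ' : Type v} [Group Γ] [Finite Γ] [Group Γ'] [Finite Γ'] {ι : Uf F9 →* Γ}
  {ψ : Uf F9 →* Γ'} {g : Γ} {n l m k k' c : F9} {b : Bool} {X : Set F9}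

namespace G5

theorem ii_sq : ii * ii = -1 := by decide +kernel

theorem fixed : ∀ e : F9, star e = e → ∃ z : ℤ, e = z := by
  have : ∀ e : F9, star e = e → e = 0 ∨ e = 1 ∨ e = -1 := by decide +kernel
  intro e he
  rcases this e he with rfl | rfl | rfl
  · exact ⟨0, by simp⟩
  · exact ⟨1, by simp⟩
  · exact ⟨-1, by simp⟩

theorem three : (3 : F9) = 0 := by decide +kernel

theorem sb_le (F : Cf 3 ι) (i' : Function.Injective ψ) (top : Eqv ι ψ ⊤)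
    {φ : (F9 × F9) ≃ₗ[ℤ] (F9 × F9)} (hφ : φ ∈ au F.inj (QQ F9) cQ ⊤) (h : φ ∈ sb _ (ax F9)) :
    φ ∈ au i' (QQ F9) cQ ⊤ := by
  obtain ⟨g, -, a⟩ := hφ
  obtain ⟨k, hk⟩ := eqv_ext F top seQ a.1 ((acQ_W F.inj a).1 h) (Q_Z hs9 F.inj a.1)
  refine ⟨k, mem_top _, mem_nr fun x hx => ?_, fun x hx y hy e => ?_⟩
  · obtain ⟨y, hy, e⟩ := nr_cj a.1 hx
    exact ⟨y, hy, hk x hx y e⟩
  · obtain ⟨y', hy', e'⟩ := nr_cj a.1 hx
    rw [e.uniq i' (hk x hx y' e')]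
    exact a.2 x hx y' hy' e'

theorem au_le (F : Cf 3 ι) (i' : Function.Injective ψ) (T : T2 ι) (top : Eqv ι ψ ⊤)
    (sg : ∀ k, Sg ι k → Sg ψ k) : au F.inj (QQ F9) cQ ⊤ ≤ au i' (QQ F9) cQ ⊤ := by
  haveI : Finite ((F9 × F9) ≃ₗ[ℤ] (F9 × F9)) := Finite.of_injective _ DFunLike.coe_injective
  have o := oqQ hs9 F
  obtain ⟨τ, hτ, eτ⟩ := exists_tau F.inj T
  have hτ' : τ ∈ au i' (QQ F9) cQ ⊤ := sb_le F i' top hτ (mem_sb fun x hx => by
    rw [eτ, mem_ax]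
    change -ii * x.2 = 0
    rw [mem_ax.1 hx, mul_zero])
  have hR : au F.inj (QQ F9) cQ ι.range ≤ au i' (QQ F9) cQ ⊤ := fun r hr =>
    sb_le F i' top (o.syl.le hr) (mem_sb fun x hx => by
      obtain ⟨e, -, he⟩ := o.act r hr
      rw [he, mem_ax]
      exact mem_ax.1 hx)
  have hcj : ∀ φ ∈ au F.inj (QQ F9) cQ ⊤, φ * τ * φ⁻¹ ∈ au i' (QQ F9) cQ ⊤ := by
    intro φ hφ
    rcases refl_sg F T hφ eτ with h | ⟨e, m, s, he, hs, hm, h⟩
    · exact sb_le F i' top (mul_mem (mul_mem hφ hτ) (inv_mem hφ)) h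
    obtain ⟨j, hj, ej⟩ := (aq_iff hs9 i').1 (sg m hm)
    obtain ⟨r, hr, er⟩ := o.ex e he
    obtain ⟨r', hr', er'⟩ := o.ex (-e) (by rw [star_neg, he])
    have hm : r * j * r' ∈ au i' (QQ F9) cQ ⊤ := mul_mem (mul_mem (hR hr) hj) (hR hr')
    have em : ∀ v, (r * j * r') • v = ((jm m (v.1 - e * v.2, v.2)).1 +
        e * (jm m (v.1 - e * v.2, v.2)).2, (jm m (v.1 - e * v.2, v.2)).2) := fun v => by
      rw [mul_smul, mul_smul, er', ej, er, neg_mul, ← sub_eq_add_neg]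
    rcases hs with rfl | rfl
    · have : φ * τ * φ⁻¹ = r * j * r' := eq_of_smul_eq_smul fun v : F9 × F9 => by
        rw [h, em, one_smul]
      rwa [this]
    · have : φ * τ * φ⁻¹ = τ * τ * (r * j * r') := eq_of_smul_eq_smul fun v : F9 × F9 => by
        rw [h, mul_smul (τ * τ), em, mul_smul, eτ, eτ]
        ext
        · simp only [Prod.smul_fst, smul_eq_mul]
          rw [← mul_assoc, ii_sq]
        · simp only [Prod.smul_snd, smul_eq_mul]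
          rw [← mul_assoc, neg_mul_neg, ii_sq]
      rw [this]
      exact mul_mem (mul_mem hτ' hτ') hm
  intro h hh
  replace hh : h ∈ au F.inj (QQ F9) cQ ⊤ := hh
  have hle : H68.cj h (au F.inj (QQ F9) cQ ι.range) ≤
      au F.inj (QQ F9) cQ ⊤ ⊓ au i' (QQ F9) cQ ⊤ := by
    intro x hx
    rw [H68.mem_cj] at hx
    obtain ⟨r, hr, rfl⟩ : ∃ r ∈ au F.inj (QQ F9) cQ ι.range, x = h * r * h⁻¹ :=
      ⟨_, hx, by group⟩
    refine mem_inf.2 ⟨mul_mem (mul_mem hh (o.syl.le hr)) (inv_mem hh), ?_⟩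
    obtain ⟨e, -, he⟩ := o.act r hr
    have e1 : r * r * τ = τ * r := eq_of_smul_eq_smul fun v : F9 × F9 => by
      rw [mul_smul, mul_smul, mul_smul, eτ, he, he, he, eτ]
      ext
      · simp only
        linear_combination (-e * ii * v.2) * three
      · rfl
    have e2 : h * r * h⁻¹ = h * τ * h⁻¹ * (h * r * τ * (h * r)⁻¹)⁻¹ := by
      calc h * r * h⁻¹ = h * (r * r * τ) * τ⁻¹ * r⁻¹ * h⁻¹ := by group
        _ = _ := by rw [e1]; group
    rw [e2]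
    exact mul_mem (hcj h hh) (inv_mem (hcj _ (mul_mem hh (o.syl.le hr))))
  obtain ⟨n, hn, hc⟩ := (o.syl.mono (le_inf o.syl.le hR) inf_le_left).exists_cj_le
    (H68.isPGroup_cj h o.syl.isPGroup) hle
  obtain ⟨r, hr, er⟩ := o.ex 1 (star_one _)
  have hr' : n * (h * r * h⁻¹) * n⁻¹ ∈ au F.inj (QQ F9) cQ ι.range :=
    hc (H68.conj_mem_cj.2 (H68.conj_mem_cj.2 hr))
  obtain ⟨e, -, he⟩ := o.act _ hr'
  have hsb : (n * h)⁻¹ ∈ sb _ (ax F9) := mem_sb fun x hx => by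
    have e1 : r • (n * h)⁻¹ • x = (n * h)⁻¹ • x := by
      have e2 : (n * (h * r * h⁻¹) * n⁻¹) • x = x := by
        rw [he, mem_ax.1 hx, mul_zero, add_zero, ← mem_ax.1 hx]
      calc _ = (n * h)⁻¹ • (n * (h * r * h⁻¹) * n⁻¹) • x := by
            rw [← mul_smul, ← mul_smul]; congr 1; group
        _ = _ := by rw [e2]
    rw [er] at e1
    have := congrArg Prod.fst e1
    rw [mem_ax]
    simpa using this
  have := sb_le F i' top (inv_mem (mul_mem (mem_inf.1 hn).1 hh)) hsb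
  have := mul_mem (inv_mem (mem_inf.1 hn).2) (inv_mem this)
  simpa using this

end G5

theorem eqQ3 (F : Cf 3 ι) (i' : Function.Injective ψ) (T : T2 ι) (T' : T2 ψ) (top : Eqv ι ψ ⊤)
    (sg : ∀ k, Sg ι k → Sg ψ k) : Eqv ι ψ (QQ F9) := by
  intro g hg
  obtain ⟨φ, a⟩ := (coQ hs9 F.inj).exists_ac (mem_nr hg)
  obtain ⟨k, -, b⟩ := G5.au_le F i' T top sg ⟨g, mem_top _, a⟩
  obtain ⟨k', hk⟩ := rq_prime hs9 F.inj i' G5.fixed (φ := fun v => φ • v) (g := g) (k := k)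
    ⟨a.1, fun x hx y hy e => (a.2 x hx y hy e).symm⟩ ⟨b.1, fun x hx y hy e => (b.2 x hx y hy e).symm⟩
  exact ⟨k', fun x hx y _ e => hk x hx y e⟩

end U4F
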