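import Mathlib
import Cfsg.Agent.Base
import Cfsg.Agent.Lib.U4F.Ar

set_option autoImplicit false

namespace U4F

open Subgroup H93.SX
open H68 (SylowIn)
open U5F (qq)
open scoped commutatorElement
open H19.Cov

universe u v

variable {Γ : Type*} [Group Γ] {ψ : Uf F9 →* Γ} {g : Γ}

/-- the six generators -/
def gn : Fin 6 → Uf F9 := ![⟨0, 1, 0, 0, by decide, by decide⟩, ⟨0, 0, 1, 0, by decide, by decide⟩,
  ⟨0, 0, ii, 0, by decide, by decide⟩, ⟨0, 0, 0, 1, by decide, by decide⟩,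
  ⟨1, 0, 0, 0, by decide, by decide⟩, ⟨ii, 0, 0, 0, by decide, by decide⟩]

namespace L0

/-- first coordinate -/
def re (x : F9) : ℕ := x.val.1 % 3
/-- second coordinate -/
def im (x : F9) : ℕ := x.val.1 / 3

theorem re_add : ∀ x y : F9, re (x + y) = (re x + re y) % 3 := by decide +kernel
theorem im_add : ∀ x y : F9, im (x + y) = (im x + im y) % 3 := by decide +kernel
theorem re0 : re 0 = 0 := rfl
theorem im0 : im 0 = 0 := rfl

theorem dec' : ∀ (a : F9) (ha : star a = a) (c : F9) (hc : star c = c) (t b : F9),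
    (⟨t, a, b, c, ha, hc⟩ : Uf F9) =
      gn 0 ^ re a * gn 1 ^ re b * gn 2 ^ im b * gn 3 ^ re c * gn 4 ^ re t * gn 5 ^ im t := by
  decide +kernel

theorem dec (x : Uf F9) :
    x = gn 0 ^ re x.a * gn 1 ^ re x.b * gn 2 ^ im x.b * gn 3 ^ re x.c * gn 4 ^ re x.t * gn 5 ^ im x.t :=
  dec' x.a x.ha x.c x.hc x.t x.b

/-- the elements of `E` with a multiplicative property -/
def mkS (E : Subgroup (Uf F9)) (P : Uf F9 → Prop) (h1 : P 1)
    (hm : ∀ x ∈ E, ∀ y ∈ E, P x → P y → P (x * y)) : Submonoid (Uf F9) where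
  carrier := {x | x ∈ E ∧ P x}
  one_mem' := ⟨one_mem E, h1⟩
  mul_mem' := fun {a b} ha hb => ⟨mul_mem ha.1 hb.1, hm a ha.1 b hb.1 ha.2 hb.2⟩

theorem mem_all {A : Submonoid (Uf F9)} (h : ∀ i, gn i ∈ A) (x : Uf F9) : x ∈ A := by
  rw [dec x]
  exact mul_mem (mul_mem (mul_mem (mul_mem (mul_mem (pow_mem (h 0) _) (pow_mem (h 1) _))
    (pow_mem (h 2) _)) (pow_mem (h 3) _)) (pow_mem (h 4) _)) (pow_mem (h 5) _)

theorem mem_V {A : Submonoid (Uf F9)} (h : ∀ i : Fin 6, i.1 < 4 → gn i ∈ A) {x : Uf F9}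
    (hx : x ∈ VV F9) : x ∈ A := by
  rw [dec x, mem_VV.1 hx, re0, im0, pow_zero, pow_zero, mul_one, mul_one]
  exact mul_mem (mul_mem (mul_mem (pow_mem (h 0 (by decide)) _) (pow_mem (h 1 (by decide)) _))
    (pow_mem (h 2 (by decide)) _)) (pow_mem (h 3 (by decide)) _)

theorem mem_Q {A : Submonoid (Uf F9)} (h : ∀ i : Fin 6, i ≠ 3 → gn i ∈ A) {x : Uf F9}
    (hx : x ∈ QQ F9) : x ∈ A := by
  rw [dec x, mem_QQ.1 hx, re0, pow_zero, mul_one]
  exact mul_mem (mul_mem (mul_mem (mul_mem (pow_mem (h 0 (by decide)) _) (pow_mem (h 1 (by decide)) _))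
    (pow_mem (h 2 (by decide)) _)) (pow_mem (h 4 (by decide)) _)) (pow_mem (h 5 (by decide)) _)

theorem gnV : ∀ i : Fin 6, i.1 < 4 → (gn i).t = 0 := by decide +kernel
theorem gnQ : ∀ i : Fin 6, i ≠ 3 → (gn i).c = 0 := by decide +kernel

theorem pw {a : Γ} (h : a * a * a = 1) (m n : ℕ) : a ^ ((m + n) % 3) = a ^ m * a ^ n := by
  rw [← pow_eq_pow_mod _ ((pow_three' a).trans h), pow_add]

theorem comb {A : Type*} [Add A] {f f' : A → Γ} (hf : ∀ x y, f (x + y) = f x * f y)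
    (hg : ∀ x y, f' (x + y) = f' x * f' y) (c : ∀ x y, Commute (f y) (f' x)) (x y : A) :
    f (x + y) * f' (x + y) = f x * f' x * (f y * f' y) := by
  rw [hf, hg, (c x y).mul_mul_mul_comm]

/-- the map on the abelian radical -/
def fV (a : Fin 6 → Γ) (v : Hm F9) : Γ := a 0 ^ re v.a * a 1 ^ re v.b * a 2 ^ im v.b * a 3 ^ re v.c
/-- the map on the shears -/
def fU (a : Fin 6 → Γ) (t : F9) : Γ := a 4 ^ re t * a 5 ^ im t

theorem decH' : ∀ (a : F9) (ha : star a = a) (c : F9) (hc : star c = c) (b : F9),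
    (⟨a, b, c, ha, hc⟩ : Hm F9) =
      re a • cV (gn 0) + re b • cV (gn 1) + im b • cV (gn 2) + re c • cV (gn 3) := by
  decide +kernel

theorem decF : ∀ t : F9, t = re t • (1 : F9) + im t • ii := by decide +kernel

theorem sh_add (t : F9) (v w : Hm F9) : sh t (v + w) = sh t v + sh t w := by
  ext <;> simp only [sh, Hm.add_a, Hm.add_b, Hm.add_c, star_add] <;> ring

theorem sh_sh (s t : F9) (v : Hm F9) : sh (s + t) v = sh s (sh t v) := by
  ext <;> simp only [sh, star_add, star_mul', Hm.sc] <;> ring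

theorem sh_zero (v : Hm F9) : sh 0 v = v := by
  ext <;> simp [sh]

theorem sh_zero' (t : F9) : sh t 0 = 0 := by
  ext <;> simp [sh]

theorem cV_mul (x y : Uf F9) : cV (x * y) = cV x + sh x.t (cV y) := by
  ext <;> simp only [sh, cV, Hm.add_a, Hm.add_b, Hm.add_c, Uf.mul_a, Uf.mul_b, Uf.mul_c] <;> ring

/-- `g` acts as the shear `t` -/
def Rs (a : Fin 6 → Γ) (t : F9) (g : Γ) : Prop := ∀ v, g * fV a v = fV a (sh t v) * g

theorem Rs.mul {a : Fin 6 → Γ} {s t : F9} {g g' : Γ} (h : Rs a s g) (h' : Rs a t g') :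
    Rs a (s + t) (g * g') := fun v => by
  rw [mul_assoc, h' v, ← mul_assoc, h, sh_sh, mul_assoc]

theorem Rs.pow {a : Fin 6 → Γ} {t : F9} {g : Γ} (h : Rs a t g) (n : ℕ) : Rs a (n • t) (g ^ n) := by
  induction n with
  | zero => intro v; rw [zero_nsmul, sh_zero, pow_zero, one_mul, mul_one]
  | succ n ih => rw [succ_nsmul, pow_succ]; exact ih.mul h

theorem fV0 (a : Fin 6 → Γ) : fV a 0 = 1 := by simp [fV, re0, im0]

theorem Rs.of {a : Fin 6 → Γ} (hV : ∀ v w, fV a (v + w) = fV a v * fV a w) {t : F9} {g : Γ}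
    (h : ∀ i : Fin 6, i.1 < 4 → g * fV a (cV (gn i)) = fV a (sh t (cV (gn i))) * g) : Rs a t g := by
  let A : AddSubmonoid (Hm F9) :=
    { carrier := {v | g * fV a v = fV a (sh t v) * g}
      zero_mem' := by
        show g * fV a 0 = fV a (sh t 0) * g
        rw [sh_zero', fV0, mul_one, one_mul]
      add_mem' := fun {v w} hv hw => by
        show g * fV a (v + w) = fV a (sh t (v + w)) * g
        rw [sh_add, hV, hV, ← mul_assoc, show g * fV a v = _ from hv, mul_assoc,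
          show g * fV a w = _ from hw, mul_assoc] }
  intro v
  have e : v = _ := decH' v.a v.ha v.c v.hc v.b
  have : v ∈ A := by
    rw [e]
    exact add_mem (add_mem (add_mem (nsmul_mem (show cV (gn 0) ∈ A from h 0 (by decide)) _)
      (nsmul_mem (show cV (gn 1) ∈ A from h 1 (by decide)) _))
      (nsmul_mem (show cV (gn 2) ∈ A from h 2 (by decide)) _))
      (nsmul_mem (show cV (gn 3) ∈ A from h 3 (by decide)) _)
  exact this

theorem fV_eq (a : Fin 6 → Γ) {v : Hm F9} {i j k l : ℕ}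
    (h : re v.a = i ∧ re v.b = j ∧ im v.b = k ∧ re v.c = l) :
    fV a v = a 0 ^ i * a 1 ^ j * a 2 ^ k * a 3 ^ l := by
  rw [fV, h.1, h.2.1, h.2.2.1, h.2.2.2]

theorem fU_eq (a : Fin 6 → Γ) {t : F9} {i j : ℕ} (h : re t = i ∧ im t = j) :
    fU a t = a 4 ^ i * a 5 ^ j := by
  rw [fU, h.1, h.2]

theorem inj_of (ψ : Uf F9 →* Γ) (h0 : ψ (gn 0) ≠ 1) : Function.Injective ψ := by
  have k : ∀ s x, ψ x = 1 → ψ ⁅s, x⁆ = 1 := fun s x hx => by
    rw [map_commutatorElement, hx, commutatorElement_one_right]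
  have hz : ∀ x ∈ ZZ F9, ψ x = 1 → x = 1 := fun x hx e => by
    have e1 : ∀ (a : F9) (ha : star a = a), (⟨0, a, 0, 0, ha, star_zero F9⟩ : Uf F9) = 1 ∨
        (⟨0, a, 0, 0, ha, star_zero F9⟩ : Uf F9) = gn 0 ∨
        (⟨0, a, 0, 0, ha, star_zero F9⟩ : Uf F9) = (gn 0)⁻¹ := by decide +kernel
    have e2 : x = ⟨0, x.a, 0, 0, x.ha, star_zero F9⟩ := Uf.ext hx.1 rfl hx.2.1 hx.2.2
    rcases e1 x.a x.ha with h | h | h <;> rw [← e2] at h
    · exact h
    · exact absurd (h ▸ e) h0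
    · rw [h, map_inv, inv_eq_one] at e
      exact absurd e h0
  have hw : ∀ x ∈ WW F9, ψ x = 1 → x = 1 := fun x hx e => by
    refine hz x ⟨hx.1, tr_zero ⟨ii, by decide⟩ fun t => ?_, hx.2⟩ e
    have e1 := congrArg Uf.a
      (hz _ (comm_Z (⟨t, 0, 0, 0, star_zero F9, star_zero F9⟩ : Uf F9) hx) (k _ x e))
    rw [Uf.comm_a, hx.1, hx.2] at e1
    simpa using e1
  refine (injective_iff_map_eq_one ψ).2 fun x e => hw x ⟨?_, ?_⟩ e
  · have e1 := congrArg Uf.b (hw _ (comm_W (gn 3) x) (k _ x e))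
    rw [Uf.comm_b, show (gn 3).t = 0 from rfl, show (gn 3).c = 1 from rfl] at e1
    simpa using e1
  · have e1 := congrArg Uf.b (hw _ (comm_W (gn 4) x) (k _ x e))
    rw [Uf.comm_b, show (gn 4).t = 1 from rfl, show (gn 4).c = 0 from rfl] at e1
    simpa using e1

theorem aq_mul (i : Function.Injective ψ) {g g' : Γ} {φ φ' : F9 × F9 → F9 × F9} (h : AQ ψ g φ)
    (h' : AQ ψ g' φ') : AQ ψ (g * g') fun v => φ (φ' v) := by
  refine ⟨mul_mem h.1 h'.1, fun x hx y hy e => ?_⟩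
  obtain ⟨z, hz, e1⟩ := nr_cj h'.1 hx
  obtain ⟨w, hw, e2⟩ := nr_cj h.1 hz
  rw [e.uniq i (e2.trans e1), h.2 z hz w hw e2, h'.2 x hx z hz e1]

end L0

open L0

theorem exists_hom (a : Fin 6 → Γ) (h0 : a 0 ≠ 1) (h3 : ∀ i, a i * a i * a i = 1)
    (c01 : a 0 * a 1 = a 1 * a 0) (c02 : a 0 * a 2 = a 2 * a 0) (c03 : a 0 * a 3 = a 3 * a 0)
    (c12 : a 1 * a 2 = a 2 * a 1) (c13 : a 1 * a 3 = a 3 * a 1) (c23 : a 2 * a 3 = a 3 * a 2)
    (c45 : a 4 * a 5 = a 5 * a 4) (r40 : a 4 * a 0 = a 0 * a 4) (r41 : a 4 * a 1 = a 0 * a 0 * a 1 * a 4)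
    (r42 : a 4 * a 2 = a 2 * a 4) (r43 : a 4 * a 3 = a 0 * a 1 * a 3 * a 4)
    (r50 : a 5 * a 0 = a 0 * a 5) (r51 : a 5 * a 1 = a 1 * a 5)
    (r52 : a 5 * a 2 = a 0 * a 0 * a 2 * a 5) (r53 : a 5 * a 3 = a 0 * a 2 * a 3 * a 5) :
    ∃ ψ : Uf F9 →* Γ, Function.Injective ψ ∧ ∀ i, ψ (gn i) = a i := by
  have k01 : Commute (a 0) (a 1) := c01
  have k02 : Commute (a 0) (a 2) := c02
  have k03 : Commute (a 0) (a 3) := c03
  have k12 : Commute (a 1) (a 2) := c12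
  have k13 : Commute (a 1) (a 3) := c13
  have k23 : Commute (a 2) (a 3) := c23
  have k45 : Commute (a 4) (a 5) := c45
  have hV : ∀ v w, fV a (v + w) = fV a v * fV a w :=
    comb (f := fun v : Hm F9 => a 0 ^ re v.a * a 1 ^ re v.b * a 2 ^ im v.b)
      (f' := fun v : Hm F9 => a 3 ^ re v.c)
      (comb (f := fun v : Hm F9 => a 0 ^ re v.a * a 1 ^ re v.b) (f' := fun v : Hm F9 => a 2 ^ im v.b)
        (comb (f := fun v : Hm F9 => a 0 ^ re v.a) (f' := fun v : Hm F9 => a 1 ^ re v.b)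
          (fun x y => by simp only [Hm.add_a, re_add, pw (h3 0)])
          (fun x y => by simp only [Hm.add_b, re_add, pw (h3 1)]) fun x y => k01.pow_pow _ _)
        (fun x y => by simp only [Hm.add_b, im_add, pw (h3 2)])
        fun x y => (k02.pow_pow _ _).mul_left (k12.pow_pow _ _))
      (fun x y => by simp only [Hm.add_c, re_add, pw (h3 3)])
      fun x y => ((k03.pow_pow _ _).mul_left (k13.pow_pow _ _)).mul_left (k23.pow_pow _ _)
  have hU : ∀ s t, fU a (s + t) = fU a s * fU a t :=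
    comb (f := fun t : F9 => a 4 ^ re t) (f' := fun t : F9 => a 5 ^ im t)
      (fun x y => by simp only [re_add, pw (h3 4)]) (fun x y => by simp only [im_add, pw (h3 5)])
      fun x y => k45.pow_pow _ _
  have v0 : fV a (cV (gn 0)) = a 0 := by
    rw [fV_eq a (i := 1) (j := 0) (k := 0) (l := 0) (by decide +kernel)]; simp
  have v1 : fV a (cV (gn 1)) = a 1 := by
    rw [fV_eq a (i := 0) (j := 1) (k := 0) (l := 0) (by decide +kernel)]; simp
  have v2 : fV a (cV (gn 2)) = a 2 := by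
    rw [fV_eq a (i := 0) (j := 0) (k := 1) (l := 0) (by decide +kernel)]; simp
  have v3 : fV a (cV (gn 3)) = a 3 := by
    rw [fV_eq a (i := 0) (j := 0) (k := 0) (l := 1) (by decide +kernel)]; simp
  have hi : ∀ i : Fin 6, i.1 < 4 → i = 0 ∨ i = 1 ∨ i = 2 ∨ i = 3 := by decide
  have s4 : Rs a 1 (a 4) := Rs.of hV fun i h => by
    rcases hi i h with rfl | rfl | rfl | rfl
    · rw [v0, r40, fV_eq a (i := 1) (j := 0) (k := 0) (l := 0) (by decide +kernel)]; simp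
    · rw [v1, r41, fV_eq a (i := 2) (j := 1) (k := 0) (l := 0) (by decide +kernel)]; simp [pow_two]
    · rw [v2, r42, fV_eq a (i := 0) (j := 0) (k := 1) (l := 0) (by decide +kernel)]; simp
    · rw [v3, r43, fV_eq a (i := 1) (j := 1) (k := 0) (l := 1) (by decide +kernel)]; simp
  have s5 : Rs a ii (a 5) := Rs.of hV fun i h => by
    rcases hi i h with rfl | rfl | rfl | rfl
    · rw [v0, r50, fV_eq a (i := 1) (j := 0) (k := 0) (l := 0) (by decide +kernel)]; simp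
    · rw [v1, r51, fV_eq a (i := 0) (j := 1) (k := 0) (l := 0) (by decide +kernel)]; simp
    · rw [v2, r52, fV_eq a (i := 2) (j := 0) (k := 1) (l := 0) (by decide +kernel)]; simp [pow_two]
    · rw [v3, r53, fV_eq a (i := 1) (j := 0) (k := 1) (l := 1) (by decide +kernel)]; simp
  have sU : ∀ t, Rs a t (fU a t) := fun t => by
    have := (s4.pow (re t)).mul (s5.pow (im t))
    rwa [← decF] at this
  let ψ : Uf F9 →* Γ := MonoidHom.mk' (fun x => fV a (cV x) * fU a x.t) fun x y => by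
    rw [cV_mul, hV, Uf.mul_t, hU, mul_assoc, mul_assoc, ← mul_assoc (fU a x.t), sU x.t, mul_assoc]
  have u0 : fU a 0 = 1 := by simp [fU, re0, im0]
  have key : ∀ i, ψ (gn i) = a i := fun i => by
    show fV a (cV (gn i)) * fU a (gn i).t = a i
    have h6 : ∀ i : Fin 6, i.1 < 4 ∨ i = 4 ∨ i = 5 := by decide
    rcases h6 i with h | rfl | rfl
    · rw [gnV i h, u0, mul_one]
      rcases hi i h with rfl | rfl | rfl | rfl
      exacts [v0, v1, v2, v3]
    · rw [fV_eq a (i := 0) (j := 0) (k := 0) (l := 0) (by decide +kernel),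
        fU_eq a (i := 1) (j := 0) (by decide +kernel)]; simp
    · rw [fV_eq a (i := 0) (j := 0) (k := 0) (l := 0) (by decide +kernel),
        fU_eq a (i := 0) (j := 1) (by decide +kernel)]; simp
  exact ⟨ψ, inj_of ψ (by rw [key]; exact h0), key⟩

theorem gen_top {A : Subgroup (Uf F9)} (h : ∀ i, gn i ∈ A) : A = ⊤ := by
  exact eq_top_iff.2 fun x _ => mem_all (A := A.toSubmonoid) h x

theorem cj_top (f : Uf F9 →* Uf F9) (h : ∀ i, Cj ψ g (gn i) (f (gn i))) (x : Uf F9) : Cj ψ g x (f x) := by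
  exact (mem_all (A := mkS ⊤ (fun x => Cj ψ g x (f x)) (by simp [Cj])
    fun x _ y _ hx hy => by rw [map_mul]; exact hx.mul hy) (fun i => ⟨mem_top _, h i⟩) x).2

theorem cj_w2 (h : ∀ i : Fin 6, i.1 < 4 → Cj ψ g (gn i) (w2 (gn i))) : ∀ x ∈ VV F9, Cj ψ g x (w2 x) := by
  intro x hx
  have e1 : w2 (1 : Uf F9) = 1 := by decide +kernel
  have e2 : ∀ x ∈ VV F9, ∀ y ∈ VV F9, w2 (x * y) = w2 x * w2 y := fun x hx y hy => by
    ext <;> simp [w2, mem_VV.1 hx, add_comm]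
  exact (mem_V (A := mkS (VV F9) (fun x => Cj ψ g x (w2 x)) (by simp [Cj, e1])
    fun x hx y hy h1 h2 => by rw [e2 x hx y hy]; exact h1.mul h2) (fun i hi => ⟨gnV i hi, h i hi⟩) hx).2

theorem aq_of [Finite Γ] (i : Function.Injective ψ) (φ : F9 × F9 → F9 × F9) (ha : ∀ v w, φ (v + w) = φ v + φ w)
    (h : ∀ i : Fin 6, i ≠ 3 → ∃ y ∈ QQ F9, Cj ψ g (gn i) y ∧ cQ y = φ (cQ (gn i))) : AQ ψ g φ := by
  have h0 : φ 0 = 0 := by simpa using ha 0 0
  have e2 : ∀ x ∈ QQ F9, ∀ y ∈ QQ F9, cQ (x * y) = cQ x + cQ y := fun x hx y hy => by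
    ext <;> simp [cQ, mem_QQ.1 hy]
  have key : ∀ x ∈ QQ F9, ∃ y ∈ QQ F9, Cj ψ g x y ∧ cQ y = φ (cQ x) := fun x hx =>
    (mem_Q (A := mkS (QQ F9) (fun x => ∃ y ∈ QQ F9, Cj ψ g x y ∧ cQ y = φ (cQ x))
      ⟨1, one_mem _, by simp [Cj], h0.symm⟩
      fun x hx y hy ⟨x', hx', h1, h2⟩ ⟨y', hy', h3, h4⟩ =>
        ⟨x' * y', mul_mem hx' hy', h1.mul h3, by rw [e2 _ hx' _ hy', e2 _ hx _ hy, ha, h2, h4]⟩)
      (fun j hj => ⟨gnQ j hj, h j hj⟩) hx).2
  refine ⟨mem_nr fun x hx => let ⟨y, hy, e, _⟩ := key x hx; ⟨y, hy, e⟩, fun x hx y hy e => ?_⟩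
  obtain ⟨z, -, e1, e3⟩ := key x hx
  rw [e.uniq i e1, e3]

theorem dd_of {Λ : Type*} [AddCommGroup Λ] [DistribMulAction Γ Λ] {u : F9 → Λ}
    (h1 : ∃ g, (∀ x, Cj ψ g x (dl (1 + ii) 1 (star_one F9) .refl x)) ∧
      ∀ m, g • u m = u (dm (1 + ii) 1 false m))
    (h2 : ∃ g, (∀ x, Cj ψ g x (dl 1 (-1) (by decide) .refl x)) ∧ ∀ m, g • u m = u (-m))
    (h3 : ∃ g, (∀ x, Cj ψ g x (dl 1 1 (star_one F9) (sB true) x)) ∧ ∀ m, g • u m = u (star m)) :
    ∀ n l hl b, n ≠ 0 → l ≠ 0 → ∃ g, (∀ x, Cj ψ g x (dl n l hl (sB b) x)) ∧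
      ∀ m, g • u m = u (dm n l b m) := by
  obtain ⟨g1, a1, b1⟩ := h1
  obtain ⟨g2, a2, b2⟩ := h2
  obtain ⟨g3, a3, b3⟩ := h3
  have s0 : ∀ b, ∃ g, (∀ x, Cj ψ g x (dl 1 1 (star_one F9) (sB b) x)) ∧
      ∀ m, g • u m = u (dm 1 1 b m) := fun b => by
    cases b
    · refine ⟨1, fun x => ?_, fun m => by simp [dm]⟩
      have e : dl 1 1 (star_one F9) (sB false) x = x := by ext <;> simp [sB]
      rw [e]; exact Cj.one
    · exact ⟨g3, a3, fun m => by rw [b3]; simp [dm]⟩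
  have s1 : ∀ l hl b, l ≠ 0 → ∃ g, (∀ x, Cj ψ g x (dl 1 l hl (sB b) x)) ∧
      ∀ m, g • u m = u (dm 1 l b m) := fun l hl b l0 => by
    have e : ∀ l : F9, star l = l → l ≠ 0 → l = 1 ∨ l = -1 := by decide +kernel
    obtain ⟨g, c1, c2⟩ := s0 b
    rcases e l hl l0 with rfl | rfl
    · exact ⟨g, c1, c2⟩
    · refine ⟨g2 * g, fun x => ?_, fun m => by rw [mul_smul, c2, b2]; simp [dm]⟩
      have e1 : dl 1 (-1) hl (sB b) x = dl 1 (-1) hl .refl (dl 1 1 (star_one F9) (sB b) x) := by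
        ext <;> simp
      rw [e1]; exact (a2 _).trans (c1 x)
  have s2 : ∀ (k : ℕ) l hl b, l ≠ 0 → ∃ g, (∀ x, Cj ψ g x (dl ((1 + ii) ^ k) l hl (sB b) x)) ∧
      ∀ m, g • u m = u (dm ((1 + ii) ^ k) l b m) := fun k l hl b l0 => by
    induction k with
    | zero => rw [pow_zero]; exact s1 l hl b l0
    | succ k ih =>
      obtain ⟨g, c1, c2⟩ := ih
      rw [pow_succ']
      generalize (1 + ii) ^ k = n at c1 c2 ⊢
      generalize 1 + ii = o at a1 b1 ⊢
      refine ⟨g1 * g, fun x => ?_, fun m => ?_⟩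
      · have e1 : dl (o * n) l hl (sB b) x = dl o 1 (star_one F9) .refl (dl n l hl (sB b) x) := by
          ext <;> simp only [dl_t, dl_a, dl_b, dl_c, star_mul', StarRingEquiv.coe_refl, id] <;> ring
        rw [e1]; exact (a1 _).trans (c1 x)
      · rw [mul_smul, c2, b1]
        congr 1
        simp only [dm, cond_false]; ring
  intro n l hl b n0 l0
  have e : ∀ n : F9, n ≠ 0 → ∃ k : Fin 8, n = (1 + ii) ^ (k : ℕ) := by decide +kernel
  obtain ⟨k, rfl⟩ := e n n0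
  exact s2 k l hl b l0

theorem tr_of {Λ : Type*} [AddCommGroup Λ] [DistribMulAction Γ Λ] {u : F9 → Λ}
    (h1 : ∃ g, AQ ψ g (tc 1) ∧ ∀ m, g • u m = u (m + 1))
    (h2 : ∃ g, AQ ψ g (tc ii) ∧ ∀ m, g • u m = u (m + ii)) (i : Function.Injective ψ) :
    ∀ c, ∃ g, AQ ψ g (tc c) ∧ ∀ m, g • u m = u (m + c) := by
  let A : AddSubmonoid F9 :=
    { carrier := {c | ∃ g, AQ ψ g (tc c) ∧ ∀ m, g • u m = u (m + c)}
      zero_mem' := ⟨1, ⟨one_mem _, fun x _ y _ e => by rw [e.uniq i Cj.one]; simp [tc]⟩,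
        fun m => by simp⟩
      add_mem' := fun {c d} ⟨g, a1, a2⟩ ⟨g', b1, b2⟩ => ⟨g * g', by
        have e : tc (c + d) = fun v => tc c (tc d v) := funext fun v => by
          ext <;> simp only [tc]; ring
        rw [e]; exact aq_mul i a1 b1, fun m => by
        rw [mul_smul, b2, a2, add_assoc, add_comm d c]⟩ }
  intro c
  have : c ∈ A := by
    rw [decF c]
    exact add_mem (nsmul_mem (show (1 : F9) ∈ A from h1) _) (nsmul_mem (show ii ∈ A from h2) _)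
  exact this

end U4F
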