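import Mathlib
import Cfsg.Agent.Base
import Cfsg.Agent.Lib.U4F.Au

set_option autoImplicit false

namespace U4F

open Subgroup H93.SX
open H68 (SylowIn)
open U5F (qq)
open scoped commutatorElement

universe u v

variable {K : Type*} [Field K] [StarRing K] [Finite K]

theorem SL.alg2 (hs : ∃ e : K, star e ≠ e) (s : K →+ K) (h1 : s 1 = 1)
    (hf : ∀ t c, star c = c → s (t * c) = s t * s c) (hT : ∀ t, s (star t) = star (s t))
    (hN : ∀ t, s (t * star t) = s t * star (s t)) : ∃ σ : K ≃⋆+* K, ∀ t, σ t = s t := by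
  obtain ⟨θ, hθ⟩ := hs
  have hθ0 : θ - star θ ≠ 0 := sub_ne_zero.2 hθ.symm
  have dec : ∀ t : K, ∃ a b : K, star a = a ∧ star b = b ∧ t = a + θ * b := fun t => by
    have hb : star ((t - star t) / (θ - star θ)) = (t - star t) / (θ - star θ) := by
      rw [star_div₀, star_sub, star_sub, star_star, star_star, ← neg_sub t, ← neg_sub θ, neg_div_neg_eq]
    refine ⟨t - θ * ((t - star t) / (θ - star θ)), _, ?_, hb, by ring⟩
    rw [star_sub, star_mul', hb]
    field_simp
    ring
  have sq : s (θ * θ) = s θ * s θ := by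
    have e : θ * θ = θ * (θ + star θ) - θ * star θ := by ring
    rw [e, map_sub, hf _ _ (by rw [star_add, star_star, add_comm]), hN, map_add, hT]
    ring
  have m1 : ∀ t, s (t * θ) = s t * s θ := fun t => by
    obtain ⟨a, b, ha, hb, rfl⟩ := dec t
    have e : (a + θ * b) * θ = θ * a + θ * θ * b := by ring
    rw [e, map_add, map_add, hf _ _ ha, hf _ _ hb, hf _ _ hb, sq]
    ring
  have m2 : ∀ t u, s (t * u) = s t * s u := fun t u => by
    obtain ⟨a, b, ha, hb, rfl⟩ := dec u
    have e : t * (a + θ * b) = t * a + t * θ * b := by ring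
    rw [e, map_add, map_add, hf _ _ ha, hf _ _ hb, hf _ _ hb, m1]
    ring
  let f : K →+* K :=
    { toFun := s
      map_one' := h1
      map_zero' := map_zero s
      map_add' := map_add s
      map_mul' := m2 }
  obtain ⟨τ, hτ⟩ := U5F.exists_starEquiv
    (RingEquiv.ofBijective f (Finite.injective_iff_bijective.1 f.injective))
  exact ⟨τ, fun t => hτ t⟩

theorem SL.dz (hs : ∃ e : K, star e ≠ e) (s : K →+ K) (hi : ∀ t, s t = 0 → t = 0) (h1 : s 1 = 1)
    (hf : ∀ t c, star c = c → s (t * c) = s t * s c) (hF : ∀ c, star c = c → star (s c) = s c)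
    {k : K} (hk : star k = k) (hT : ∀ t, k * s (t + star t) = s t + star (s t)) (δ x : K → K)
    (hD : ∀ t c, star c = c → (k * s (t * star t) - s t * star (s t)) * s c =
      s t * star (δ c) + star (s t) * δ c - x (t * c)) (t : K) :
    k * s (t * star t) = s t * star (s t) := by
  have hN : ∀ t : K, star (t * star t) = t * star t := fun t => by rw [star_mul', star_star, mul_comm]
  by_cases h : ∃ e : K, star e = e ∧ e ≠ 0 ∧ e ≠ 1
  · obtain ⟨e, he, e0, e1⟩ := h
    have s0 : s e ≠ 0 := fun h => e0 (hi e h)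
    have s1 : s e - 1 ≠ 0 := fun h => e1 (sub_eq_zero.1 (hi _ (by rw [map_sub, h1, h])))
    have sc : ∀ t, k * s (t * e * star (t * e)) - s (t * e) * star (s (t * e)) =
        s e ^ 2 * (k * s (t * star t) - s t * star (s t)) := fun t => by
      have e2 : t * e * star (t * e) = t * star t * e * e := by rw [star_mul', he]; ring
      rw [e2, hf _ _ he, hf _ _ he, hf _ _ he, star_mul', hF e he]
      ring
    have key : ∀ t, (s e ^ 2 - s e) * (k * s (t * star t) - s t * star (s t)) =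
        s t * star (s e * δ 1 - δ e) + star (s t) * (s e * δ 1 - δ e) := fun t => by
      have a1 := hD (t * e) 1 (star_one K)
      have a2 := hD t e he
      rw [sc, h1, mul_one, mul_one, hf _ _ he, star_mul', hF e he] at a1
      rw [star_sub, star_mul', hF e he]
      linear_combination a1 - a2
    have a1 := key (t * e)
    have a2 := key t
    rw [sc, hf _ _ he, star_mul', hF e he] at a1
    have : s e ^ 2 * (s e - 1) ^ 2 * (k * s (t * star t) - s t * star (s t)) = 0 := by
      linear_combination a1 - s e * a2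
    rcases mul_eq_zero.1 this with h | h
    · exact absurd h (mul_ne_zero (pow_ne_zero _ s0) (pow_ne_zero _ s1))
    · exact sub_eq_zero.1 h
  · have hb : ∀ e : K, star e = e → e ≠ 0 → e = 1 := fun e he e0 => by
      by_contra e1
      exact h ⟨e, he, e0, e1⟩
    have k1 : k = 1 := hb k hk fun k0 => by
      obtain ⟨e, he⟩ := U5F.exists_one hs
      obtain ⟨u, rfl⟩ := (Finite.injective_iff_surjective.1 ((injective_iff_map_eq_zero s).2 hi)) e
      rw [← hT, k0, zero_mul] at he
      exact zero_ne_one he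
    by_cases t0 : t = 0
    · simp [t0]
    · rw [hb _ (hN t) (mul_ne_zero t0 (star_ne_zero.2 t0)), h1, k1, mul_one,
        hb _ (hN (s t)) (mul_ne_zero (fun h => t0 (hi t h)) (star_ne_zero.2 fun h => t0 (hi t h)))]

theorem SL.alg (hs : ∃ e : K, star e ≠ e) (π : K →+ K) (hi : ∀ t, π t = 0 → t = 0)
    (y x γ δ al : K → K) (hγ : ∀ c, star (γ c) = γ c) (l0 : γ 1 ≠ 0)
    (rb : ∀ t c, star c = c → y (t * c) = π t * γ c)
    (ra : ∀ t c, star c = c → al (t * star t * c) + x (t * c) =
      π t * star (δ c) + star (π t) * δ c + π t * star (π t) * γ c)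
    (r2 : ∀ t b, al (t * star b + star t * b) = π t * star (y b) + star (π t) * y b) :
    ∃ σ : K ≃⋆+* K, (∀ t, π t = π 1 * σ t) ∧ ∀ c, star c = c → γ c = γ 1 * σ c := by
  have n0 : π 1 ≠ 0 := fun h => one_ne_zero (hi 1 h)
  obtain ⟨s, hπ⟩ : ∃ s : K →+ K, ∀ t, π t = π 1 * s t :=
    ⟨(AddMonoidHom.mulLeft (π 1)⁻¹).comp π, fun t => by simp [n0]⟩
  have h1 : s 1 = 1 := (mul_left_cancel₀ n0 ((mul_one _).trans (hπ 1))).symm
  generalize π 1 = n at n0 hπ ⊢
  have n0' : star n ≠ 0 := star_ne_zero.2 n0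
  have hl : star (γ 1) = γ 1 := hγ 1
  have hy : ∀ t, y t = n * s t * γ 1 := fun t => by
    rw [← hπ, ← rb t 1 (star_one K), mul_one]
  have si : ∀ t, s t = 0 → t = 0 := fun t h => hi t (by rw [hπ, h, mul_zero])
  have hg : ∀ c, star c = c → γ c = γ 1 * s c := fun c hc => by
    have := rb 1 c hc
    rw [one_mul, hy, hπ, h1] at this
    exact mul_left_cancel₀ n0 (by linear_combination -this)
  generalize γ 1 = l at l0 hl hy hg ⊢
  have hf : ∀ t c, star c = c → s (t * c) = s t * s c := fun t c hc => by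
    have := rb t c hc
    rw [hy, hπ, hg c hc] at this
    exact mul_left_cancel₀ (mul_ne_zero n0 l0) (by linear_combination this)
  have hF : ∀ c, star c = c → star (s c) = s c := fun c hc => by
    have := hγ c
    rw [hg c hc, star_mul', hl] at this
    exact mul_left_cancel₀ l0 this
  have M0 : l * (n * star n) ≠ 0 := mul_ne_zero l0 (mul_ne_zero n0 n0')
  have r3 : ∀ t, al (t + star t) = l * (n * star n) * (s t + star (s t)) := fun t => by
    have := r2 t 1
    rw [star_one, mul_one, mul_one, hy, hπ, h1, star_mul', star_mul', star_mul', hl, star_one] at this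
    rw [this]; ring
  obtain ⟨e, he⟩ := U5F.exists_one hs
  obtain ⟨k, hk⟩ : ∃ k, k = s e + star (s e) := ⟨_, rfl⟩
  have hal : ∀ c, star c = c → al c = l * (n * star n) * (k * s c) := fun c hc => by
    have := r3 (e * c)
    rw [star_mul', hc, ← add_mul, he, one_mul, hf _ _ hc, star_mul', hF c hc] at this
    rw [this, hk]; ring
  have hT : ∀ t, k * s (t + star t) = s t + star (s t) := fun t =>
    mul_left_cancel₀ M0 ((hal _ (by rw [star_add, star_star, add_comm])).symm.trans (r3 t))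
  have hN := SL.dz hs s si h1 hf hF (k := k) (by rw [hk, star_add, star_star, add_comm]) hT
    (fun c => δ c / (l * n)) (fun b => x b / (l * (n * star n))) fun t c hc => by
      have hN : star (t * star t) = t * star t := by rw [star_mul', star_star, mul_comm]
      have := ra t c hc
      rw [hal _ (by rw [star_mul', hN, hc]), hf _ _ hc, hπ, hg c hc, star_mul'] at this
      rw [star_div₀, star_mul', hl]
      field_simp
      linear_combination this
  have k1 : k = 1 := by simpa [h1] using hN 1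
  rw [k1] at hT hN
  obtain ⟨σ, hσ⟩ := SL.alg2 hs s h1 hf (fun t => by
    have := hT t
    rw [one_mul, map_add] at this
    exact add_left_cancel this) fun t => by rw [← hN, one_mul]
  exact ⟨σ, fun t => by rw [hσ, hπ], fun c hc => by rw [hσ, hg c hc]⟩

theorem sl_act (hs : ∃ e : K, star e ≠ e) (α : Uf K ≃* Uf K) : ∃ (n l : K) (σ : K ≃⋆+* K), n ≠ 0 ∧ l ≠ 0 ∧ star l = l ∧
    ∀ x, (α x).t = n * σ x.t ∧ (α x).c = l * σ x.c := by
  have ht : ∀ x : Uf K, (α x).t = 0 ↔ x.t = 0 := fun x => aut_V hs α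
  have hc : ∀ x : Uf K, (α x).c = 0 ↔ x.c = 0 := fun x => aut_Q hs α
  have hb : ∀ x : Uf K, x ∈ ZZ K → (α x).b = 0 := fun x h => ((aut_Z hs α).2 h).2.1
  obtain ⟨U, Ut, Ua, Ub, Uc⟩ : ∃ U : K → Uf K, (∀ t, (U t).t = t) ∧ (∀ t, (U t).a = 0) ∧
      (∀ t, (U t).b = 0) ∧ ∀ t, (U t).c = 0 :=
    ⟨fun t => ⟨t, 0, 0, 0, by simp, by simp⟩, fun _ => rfl, fun _ => rfl, fun _ => rfl, fun _ => rfl⟩
  obtain ⟨W, Wt, Wa, Wb, Wc⟩ : ∃ W : K → Uf K, (∀ t, (W t).t = 0) ∧ (∀ t, (W t).a = 0) ∧
      (∀ t, (W t).b = t) ∧ ∀ t, (W t).c = 0 :=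
    ⟨fun t => ⟨0, 0, t, 0, by simp, by simp⟩, fun _ => rfl, fun _ => rfl, fun _ => rfl, fun _ => rfl⟩
  obtain ⟨e, he⟩ := U5F.exists_one hs
  have hr : ∀ c : K, star (e * c + star (e * c)) = e * c + star (e * c) := fun c => by
    rw [star_add, star_star, add_comm]
  have hr' : ∀ c : K, star c = c → e * c + star (e * c) = c := fun c h => by
    rw [star_mul', h, ← add_mul, he, one_mul]
  obtain ⟨V, Vt, Va, Vb, Vc⟩ : ∃ V : K → Uf K, (∀ t, (V t).t = 0) ∧ (∀ t, (V t).a = 0) ∧
      (∀ t, (V t).b = 0) ∧ ∀ t, star t = t → (V t).c = t :=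
    ⟨fun t => ⟨0, 0, 0, _, by simp, hr t⟩, fun _ => rfl, fun _ => rfl, fun _ => rfl, hr'⟩
  obtain ⟨Z, Zt, Za, Zb, Zc⟩ : ∃ Z : K → Uf K, (∀ t, (Z t).t = 0) ∧ (∀ t, star t = t → (Z t).a = t) ∧
      (∀ t, (Z t).b = 0) ∧ ∀ t, (Z t).c = 0 :=
    ⟨fun t => ⟨0, _, 0, 0, hr t, by simp⟩, fun _ => rfl, hr', fun _ => rfl, fun _ => rfl⟩
  have hA : ∀ x : Uf K, (α x).t = (α (U x.t)).t := fun x => by
    have := (ht (x * (U x.t)⁻¹)).2 (by simp [Ut])
    rw [map_mul, map_inv, Uf.mul_t, Uf.inv_t] at this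
    linear_combination this
  have hC : ∀ x : Uf K, (α x).c = (α (V x.c)).c := fun x => by
    have := (hc (x * (V x.c)⁻¹)).2 (by simp [Vc])
    rw [map_mul, map_inv, Uf.mul_c, Uf.inv_c] at this
    linear_combination this
  let π : K →+ K := AddMonoidHom.mk' (fun t => (α (U t)).t) fun a b => by
    have := hA (U a * U b)
    rw [Uf.mul_t, Ut, Ut, map_mul, Uf.mul_t] at this
    exact this.symm
  have hπ : ∀ t, π t = (α (U t)).t := fun _ => rfl
  have hi : ∀ t, π t = 0 → t = 0 := fun t h => (Ut t).symm.trans ((ht _).1 h)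
  have l0 : (α (V 1)).c ≠ 0 := fun h => one_ne_zero ((Vc 1 (star_one K)).symm.trans ((hc _).1 h))
  have R1 : ∀ t c, star c = c → ⁅α (U t), α (V c)⁆ = α (Z (t * star t * c)) * α (W (t * c)) :=
    fun t c h => by
      have hN : star (t * star t * c) = t * star t * c := by
        rw [star_mul', star_mul', star_star, h, mul_comm t]
      rw [← map_commutatorElement, ← map_mul]
      congr 1
      ext <;> simp [Uf.comm_a, Ut, Ua, Ub, Uc, Vt, Va, Vb, Vc c h, Wt, Wa, Wb, Wc, Zt, Za _ hN, Zb, Zc]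
  have R2 : ∀ t b, ⁅α (U t), α (W b)⁆ = α (Z (t * star b + star t * b)) := fun t b => by
    have hN : star (t * star b + star t * b) = t * star b + star t * b := by
      rw [star_add, star_mul', star_mul', star_star, star_star, add_comm]
    rw [← map_commutatorElement]
    congr 1
    ext <;> simp [Uf.comm_a, Ut, Ua, Ub, Uc, Wt, Wa, Wb, Wc, Zt, Za _ hN, Zb, Zc]
  obtain ⟨σ, h1, h2⟩ := SL.alg hs π hi (fun b => (α (W b)).b) (fun b => (α (W b)).a)
    (fun c => (α (V c)).c) (fun c => (α (V c)).b) (fun a => (α (Z a)).a) (fun c => Uf.sc _) l0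
    (fun t c h => by
      have := congrArg Uf.b (R1 t c h)
      rw [Uf.comm_b, Uf.mul_b, (ht _).2 (Vt c), (ht _).2 (Zt _), hb _ ⟨Zt _, Zb _, Zc _⟩] at this
      rw [hπ]
      linear_combination -this)
    (fun t c h => by
      have := congrArg Uf.a (R1 t c h)
      rw [Uf.comm_a, Uf.mul_a, (ht _).2 (Vt c), (ht _).2 (Zt _), star_zero] at this
      rw [hπ]
      linear_combination -this)
    (fun t b => by
      have := congrArg Uf.a (R2 t b)
      rw [Uf.comm_a, (ht _).2 (Wt b), (hc _).2 (Wc b), star_zero] at this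
      rw [hπ]
      linear_combination -this)
  refine ⟨π 1, (α (V 1)).c, σ, fun h => one_ne_zero (hi 1 h), l0, Uf.sc _, fun x => ⟨?_, ?_⟩⟩
  · rw [hA, ← hπ, h1]
  · rw [hC]
    exact h2 _ x.hc

end U4F
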