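import Mathlib
import Cfsg.Agent.Base
import Cfsg.Agent.Lib.U4F.SL
import Cfsg.Agent.Lib.U4F.RQ

set_option autoImplicit false

namespace U4F

open Subgroup H93.SX
open H68 (SylowIn)
open U5F (qq)
open scoped commutatorElement
open H19.Cov

universe u v

variable {Γ : Type u} {Γ' : Type v} {Λ : Type*} [Group Γ] [Finite Γ] [Group Γ'] [Finite Γ'] [AddCommGroup Λ]
  [DistribMulAction Γ' Λ] {ι : Uf F9 →* Γ} {ψ : Uf F9 →* Γ'} {u : F9 → Λ} {g k : Γ'} {X : Set F9}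

namespace L1

theorem aq_mul {φ χ : F9 × F9 → F9 × F9} (a : AQ ψ g φ) (b : AQ ψ k χ) :
    AQ ψ (g * k) fun v => φ (χ v) := by
  refine ⟨mul_mem a.1 b.1, fun x hx y hy h => ?_⟩
  obtain ⟨x', hx', h'⟩ := nr_cj b.1 hx
  have h2 : Cj ψ g x' y := by simpa using h.trans h'.symm
  rw [a.2 x' hx' y hy h2, b.2 x hx x' hx' h']

theorem aq_congr {φ χ : F9 × F9 → F9 × F9} (a : AQ ψ g φ) (e : ∀ v, φ v = χ v) : AQ ψ g χ := by
  obtain rfl : φ = χ := funext e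
  exact a

theorem aq_self (i : Function.Injective ψ) (s : Uf F9) :
    AQ ψ (ψ s) fun v => (v.1 - s.c * v.2, v.2) := by
  refine ⟨self_nr fun x _ => by simp, fun x hx y _ h => ?_⟩
  obtain rfl := h.uniq i (Cj.self s x)
  have hc : x.c = 0 := hx
  simp only [cQ, Uf.mul_b, Uf.mul_t, Uf.inv_b, Uf.inv_t, Uf.inv_c, hc, Prod.mk.injEq]
  constructor <;> ring

theorem fix3 : ∀ e : F9, star e = e → ∃ z : ℤ, e = z := by
  have h : ∀ e : F9, star e = e → e = 0 ∨ e = 1 ∨ e = -1 := by decide +kernel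
  intro e he
  rcases h e he with rfl | rfl | rfl
  exacts [⟨0, by simp⟩, ⟨1, by simp⟩, ⟨-1, by simp⟩]

theorem jm_tc : ∀ c b t : F9, tc c (jm 0 (tc (-c) (b, t))) = jm c (b, t) := by decide +kernel

theorem nrm : ∀ c m : F9, (m + -c) * star (m + -c) = (c - m) * star (c - m) := by decide +kernel

theorem span9 : ∀ t : F9, ∃ i j : Fin 3, t = (i : ℕ) • (1 : F9) + (j : ℕ) • ii := by decide +kernel

theorem solve : ∀ p q : F9, be (p, 1) (q, ii) = 0 → ∃ e c : F9, star e = e ∧ p = e + c ∧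
    q = e * ii + c * star ii := by decide +kernel

theorem lin : ∀ (e c : F9) (i j : Fin 3), (i : ℕ) • (e + c) + (j : ℕ) • (e * ii + c * star ii) =
    e * ((i : ℕ) • (1 : F9) + (j : ℕ) • ii) + c * star ((i : ℕ) • (1 : F9) + (j : ℕ) • ii) := by
  decide +kernel

theorem tr9 : ∀ a : F9, star a = a → ∃ b : F9, star b + b = a := by decide +kernel

/-- an automorphism which is trivial modulo the derived group -/
theorem triv (β : Uf F9 ≃* Uf F9) (h : ∀ x, (β x).t = x.t ∧ (β x).c = x.c) :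
    ∃ e c : F9, star e = e ∧ ∀ x ∈ QQ F9, (β x).b = x.b + e * x.t + c * star x.t := by
  let uu : F9 → Uf F9 := fun t => ⟨t, 0, 0, 0, by simp, by simp⟩
  let v1 : Uf F9 := ⟨0, 0, 0, 1, by simp, by simp⟩
  have hZ : ∀ z ∈ ZZ F9, β z ∈ ZZ F9 := fun z hz => (aut_Z hs9 β).2 hz
  have hW : ∀ w ∈ WW F9, (β w).b = w.b := by
    intro w hw
    have h1 : w * ⁅uu w.b, v1⁆⁻¹ ∈ ZZ F9 := by
      obtain ⟨a, b⟩ := hw
      simp [uu, v1, a, b]
    have h2 := (hZ _ h1).2.1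
    rw [map_mul, map_inv, map_commutatorElement] at h2
    simp only [Uf.mul_b, Uf.inv_b, Uf.inv_c, Uf.comm_b, Uf.comm_t, Uf.comm_c, h, uu, v1] at h2
    linear_combination h2
  have hA : ∀ z ∈ ZZ F9, (β z).a = z.a := by
    intro z hz
    obtain ⟨b, hb⟩ := tr9 z.a z.ha
    let w : Uf F9 := ⟨0, 0, b, 0, by simp, by simp⟩
    have hw : w ∈ WW F9 := ⟨rfl, rfl⟩
    have h1 : z = ⁅uu 1, w⁆ := by
      obtain ⟨a1, a2, a3⟩ := hz
      ext
      · simp [a1]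
      · simp [Uf.comm_a, uu, w, hb]
      · simp [uu, w, a2]
      · simp [a3]
    have h2 : (β z).a = ⁅β (uu 1), β w⁆.a := by rw [← map_commutatorElement, ← h1]
    rw [h2, Uf.comm_a]
    simp only [h, hW w hw, uu, w]
    simp [hb]
  let f : F9 →+ F9 := AddMonoidHom.mk' (fun t => (β (uu t)).b) fun t t' => by
    have : uu (t + t') = uu t * uu t' := by ext <;> simp [uu]
    simp only [this, map_mul, Uf.mul_b, h, uu, mul_zero, add_zero]
  have hb : be (f 1, 1) (f ii, ii) = 0 := by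
    have h1 : ⁅uu 1, uu ii⁆ = 1 := by simp [Uf.eq_one, Uf.comm_a, uu]
    have h2 : ⁅β (uu 1), β (uu ii)⁆.a = 0 := by rw [← map_commutatorElement, h1, map_one, Uf.one_a]
    rw [Uf.comm_a] at h2
    simp only [h, uu, mul_zero, add_zero] at h2
    exact h2
  obtain ⟨e, c, he, h1, h2⟩ := solve _ _ hb
  refine ⟨e, c, he, fun x hx => ?_⟩
  have hc : x.c = 0 := hx
  let w : Uf F9 := ⟨0, x.a, x.b, 0, x.ha, by simp⟩
  have hw : w ∈ WW F9 := ⟨rfl, rfl⟩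
  have h3 : x = w * uu x.t := by ext <;> simp [uu, w, hc]
  have h4 : f x.t = e * x.t + c * star x.t := by
    obtain ⟨i, j, hij⟩ := span9 x.t
    rw [hij, map_add, map_nsmul, map_nsmul, h1, h2, lin]
  have h5 : (β x).b = (β w).b + (β (uu x.t)).b + (β w).t * (β (uu x.t)).c := by
    rw [← Uf.mul_b, ← map_mul, ← h3]
  have h6 : (β (uu x.t)).b = f x.t := rfl
  rw [h5, hW w hw, h6, h4, (h _).1]
  simp only [w]; ring

end L1

open L1

theorem LD.same (L : LD ψ u) {φ : F9 × F9 → F9 × F9} (a : AQ ψ g φ) (b : AQ ψ k φ) :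
    (∀ m, g • u m = k • u m) ∨ ∀ m, g • u m = -(k • u m) := by
  classical
  have hh : k⁻¹ * g ∈ nr ψ (QQ F9) := mul_mem (inv_mem b.1) a.1
  have hex : ∀ x : Uf F9, ∃ y, x ∈ QQ F9 → y ∈ QQ F9 ∧ Cj ψ (k⁻¹ * g) x y := fun x => by
    by_cases hx : x ∈ QQ F9
    · obtain ⟨y, hy, h⟩ := nr_cj hh hx
      exact ⟨y, fun _ => ⟨hy, h⟩⟩
    · exact ⟨1, fun h => absurd h hx⟩
  choose f hf using hex
  obtain ⟨s, hs, hsf⟩ := inner_Q hs9 f
    (fun x hx y hy => (hf _ (mul_mem hx hy)).2.uniq L.inj ((hf x hx).2.mul (hf y hy).2))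
    (fun x hx => ⟨(hf x hx).1, by
      obtain ⟨y, hy, h1⟩ := nr_cj a.1 hx
      obtain ⟨y', hy', h2⟩ := nr_cj b.1 hx
      have h3 : Cj ψ k (f x) y := by simpa using h1.trans (hf x hx).2.symm
      have h4 : cQ y = cQ y' := by rw [a.2 x hx y hy h1, b.2 x hx y' hy' h2]
      simp only [cQ, Prod.mk.injEq] at h4 ⊢
      have c1 : y.c = 0 := hy
      have c2 : y'.c = 0 := hy'
      have h5 : y * y'⁻¹ ∈ ZZ F9 := by simp [h4.1, h4.2, c1, c2]
      have h6 := (h3.mul h2.inv).mem' L.inj (Q_Z hs9 L.inj b.1) h5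
      have c3 : x.c = 0 := hx
      simp only [mem_ZZ, Uf.mul_t, Uf.mul_b, Uf.inv_t, Uf.inv_b, Uf.inv_c, c3] at h6
      exact ⟨by linear_combination h6.2.1, by linear_combination h6.1⟩⟩) fix3
  have hc := L.cen ((ψ s)⁻¹ * (k⁻¹ * g)) fun x hx =>
    (Cj.self s x).symm.trans (hsf x hx ▸ (hf x hx).2)
  simp only [mul_smul, inv_smul_eq_iff, smul_neg, L.fix] at hc
  exact hc

theorem LD.top (L : LD ψ u) (hg : g ∈ nr ψ ⊤) : ∃ n l b c, n ≠ 0 ∧ l ≠ 0 ∧ star l = l ∧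
    (∀ x y, Cj ψ g x y → y.t = n * sB b x.t ∧ y.c = l * sB b x.c) ∧
      ((∀ m, g • u m = u (dm n l b m + c)) ∨ ∀ m, g • u m = -u (dm n l b m + c)) := by
  obtain ⟨α, hα⟩ := exists_aut L.inj hg
  obtain ⟨n, l, σ, hn, h0, hl, hσ⟩ := sl_act hs9 α
  obtain ⟨b, rfl⟩ := sB9 σ
  obtain ⟨d, hd, hdu⟩ := L.dd n l hl b hn h0
  have hdn : d ∈ nr ψ ⊤ := cj_dl_nr hn h0 hd
  have hh : g * d⁻¹ ∈ nr ψ ⊤ := mul_mem hg (inv_mem hdn)
  obtain ⟨β, hβ⟩ := exists_aut L.inj hh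
  obtain ⟨e, c, he, hb⟩ := triv β fun x => by
    obtain ⟨x₀, -, h1⟩ := nr_cj' hdn (mem_top x)
    obtain rfl := h1.uniq L.inj (hd x₀)
    rw [(hβ _).uniq L.inj ((hα x₀).trans (hd x₀).symm)]
    exact hσ x₀
  have ht : ∀ x, (β x).t = x.t := fun x => by
    obtain ⟨x₀, -, h1⟩ := nr_cj' hdn (mem_top x)
    obtain rfl := h1.uniq L.inj (hd x₀)
    rw [(hβ _).uniq L.inj ((hα x₀).trans (hd x₀).symm)]
    exact (hσ x₀).1
  have a1 : AQ ψ (g * d⁻¹) fun v => (v.1 + e * v.2 + c * star v.2, v.2) :=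
    ⟨top_Q hs9 L.inj hh, fun x hx y _ h => by
      obtain rfl := h.uniq L.inj (hβ x)
      simp only [cQ, hb x hx, ht]⟩
  obtain ⟨T, hT, hTu⟩ := L.tr c
  let s : Uf F9 := ⟨0, 0, 0, -e, by simp, by simp [he]⟩
  have a2 : AQ ψ (ψ s * T) fun v => (v.1 + e * v.2 + c * star v.2, v.2) :=
    aq_congr (aq_mul (aq_self L.inj s) hT) fun v => by
      simp only [tc, s, Prod.mk.injEq, and_true]; ring
  refine ⟨n, l, b, c, hn, h0, hl, fun x y h => ?_, ?_⟩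
  · obtain rfl := h.uniq L.inj (hα x)
    exact hσ x
  · have e1 : ∀ m, g • u m = (g * d⁻¹) • u (dm n l b m) := fun m => by
      rw [← hdu, mul_smul, inv_smul_smul]
    refine (L.same a1 a2).imp (fun h m => ?_) fun h m => ?_
    · rw [e1, h, mul_smul, hTu, L.fix]
    · rw [e1, h, mul_smul, hTu, L.fix]

theorem LD.dl (L : LD ψ u) {n l : F9} {hl : star l = l} {b : Bool} (hn : n ≠ 0) (h0 : l ≠ 0)
    (h : ∀ x, Cj ψ g x (dl n l hl (sB b) x)) :
    (∀ m, g • u m = u (dm n l b m)) ∨ ∀ m, g • u m = -u (dm n l b m) := by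
  obtain ⟨d, hd, hdu⟩ := L.dd n l hl b hn h0
  have hc := L.cen (d⁻¹ * g) fun x _ => (hd x).symm.trans (h x)
  simp only [mul_smul, inv_smul_eq_iff, smul_neg, hdu] at hc
  exact hc

theorem LD.jk (L : LD ψ u) (c : F9) : ∃ g, AQ ψ g (jm c) ∧
    (∀ m, (c - m) * star (c - m) ≠ -1 → g • u m = u m) ∧
      ∀ m, (c - m) * star (c - m) = -1 → ∀ k, g • u m ≠ u k ∧ g • u m ≠ -u k := by
  obtain ⟨j, hj, h1, h2⟩ := L.jj
  obtain ⟨T, hT, hTu⟩ := L.tr c
  obtain ⟨T', hT', hTu'⟩ := L.tr (-c)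
  refine ⟨T * (j * T'), aq_congr (aq_mul hT (aq_mul hj hT')) fun v => jm_tc c v.1 v.2,
    fun m hm => ?_, fun m hm k => ?_⟩
  · rw [mul_smul, mul_smul, hTu', h1 _ (by rwa [nrm]), hTu, neg_add_cancel_right]
  · have h3 := h2 (m + -c) (by rwa [nrm]) (k + -c)
    have h4 : u k = T • u (k + -c) := by rw [hTu, neg_add_cancel_right]
    rw [mul_smul, mul_smul, hTu', h4, ← smul_neg]
    exact ⟨fun e => h3.1 (MulAction.injective T e), fun e => h3.2 (MulAction.injective T e)⟩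

theorem LD.syl' (L : LD ψ u) (m : F9) : ¬ 3 ^ 7 ∣ Nat.card (MulAction.stabilizer Γ' (u m)) := by
  obtain ⟨T, -, hTu⟩ := L.tr m
  have h : (MulAction.orbitRel Γ' Λ).r (u m) (u 0) := ⟨T, by simp [hTu]⟩
  rw [Nat.card_congr (MulAction.stabilizerEquivStabilizerOfOrbitRel h).toEquiv]
  exact L.syl

end U4F
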