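import Mathlib
import Cfsg.Agent.Base
import Cfsg.Agent.Lib.U4F.L1
import Cfsg.Agent.Lib.U4F.Dg

set_option autoImplicit false

namespace U4F

open Subgroup H93.SX
open H68 (SylowIn)
open U5F (qq)
open scoped commutatorElement
open H19.Cov

universe u v

variable {Γ : Type u} {Γ' : Type v} {Λ : Type*} [Group Γ] [Finite Γ] [Group Γ'] [Finite Γ'] [AddCommGroup Λ]
  [DistribMulAction Γ' Λ] {ι : Uf F9 →* Γ} {ψ : Uf F9 →* Γ'} {u : F9 → Λ} {g k : Γ'} {X : Set F9}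

namespace L2

theorem dm_eq (n l : F9) (b : Bool) (m : F9) : dm n l b m = l * n ^ 6 * sB b m := by
  cases b <;> simp only [dm, cond] <;> (congr 2; ring)

theorem sB_sB (b : Bool) (m : F9) : sB b (sB b m) = m := by
  cases b
  · rfl
  · exact star_star m

theorem sB_trans (b b' : Bool) : (sB b' : F9 ≃⋆+* F9).trans (sB b) = sB (xor b b') := by
  refine StarRingEquiv.ext fun m => ?_
  cases b <;> cases b'
  exacts [rfl, rfl, rfl, star_star m]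

theorem sB_ne {b : Bool} {m : F9} (h : m ≠ 0) : sB b m ≠ 0 := (map_ne_zero _).2 h

theorem dm_mul (n l n' l' : F9) (b b' : Bool) (m : F9) :
    dm (n * sB b n') (l * sB b l') (xor b b') m = dm n l b (dm n' l' b' m) := by
  rw [dm_eq, dm_eq, dm_eq, ← sB_trans, map_mul, map_mul, map_pow, StarRingEquiv.trans_apply]
  ring

theorem dm_one (m : F9) : dm 1 1 false m = m := by simp [dm]

theorem dm_neg (n l : F9) (b : Bool) (m : F9) : dm n l b (-m) = -dm n l b m := by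
  rw [dm_eq, dm_eq, map_neg, mul_neg]

theorem dm_inj {n l : F9} {b : Bool} (hn : n ≠ 0) (hl : l ≠ 0) {m m' : F9} (e : dm n l b m = dm n l b m') :
    m = m' := by
  rw [dm_eq, dm_eq] at e
  exact (sB b).injective (mul_left_cancel₀ (mul_ne_zero hl (pow_ne_zero 6 hn)) e)

theorem dm_four : ∀ (n l : F9) (b : Bool) (m : F9), n ≠ 0 → l ≠ 0 → star l = l →
    dm n l b (dm n l b (dm n l b (dm n l b m))) = m := by decide +kernel

theorem two_c : ∀ x y c : F9, x + c = y → -x + c = -y → x = y := by decide +kernel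

theorem fix_a : ∀ a : F9, star a = a → 1 * star (-a) + star 1 * -a = a := by decide +kernel

theorem dl_of_eq (T : Ty ι X) {n l n0 l0 : F9} {b b0 : Bool} (d : Dl ι n0 l0 (sB b0)) (hn0 : n0 ≠ 0)
    (hl0 : l0 ≠ 0) (hn : n ≠ 0) (hl : l ≠ 0) (s : star l = l) (h : ∀ m ∈ X, dm n l b m = dm n0 l0 b0 m) :
    Dl ι n l (sB b) := by
  have e1 : n0 * sB b0 (sB b0 (n / n0)) = n := by rw [sB_sB, mul_div_cancel₀ _ hn0]
  have e2 : l0 * sB b0 (sB b0 (l / l0)) = l := by rw [sB_sB, mul_div_cancel₀ _ hl0]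
  have e3 : xor b0 (xor b0 b) = b := by cases b <;> cases b0 <;> rfl
  have := d.mul (T.full (sB b0 (n / n0)) (sB b0 (l / l0)) (xor b0 b) (sB_ne (div_ne_zero hn hn0))
    (sB_ne (div_ne_zero hl hl0)) (by rw [← map_star, star_div₀, s, d.1]) fun m hm =>
      dm_inj (b := b0) hn0 hl0 (by rw [← dm_mul, e1, e2, e3, h m hm]))
  rwa [e1, e2, sB_trans, e3] at this

theorem exists_G (T : Ty ι X) (u : F9 → Λ) : ∃ G : Subgroup Γ', ∀ g, g ∈ G ↔ ∃ n l b, n ≠ 0 ∧ l ≠ 0 ∧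
    Dl ι n l (sB b) ∧ ∀ m ∈ X, g • u m = u (dm n l b m) := by
  let S : Submonoid Γ' :=
    { carrier := {g | ∃ n l b, n ≠ 0 ∧ l ≠ 0 ∧ Dl ι n l (sB b) ∧ ∀ m ∈ X, g • u m = u (dm n l b m)}
      one_mem' := ⟨1, 1, false, one_ne_zero, one_ne_zero, Dl.one, fun m _ => by rw [one_smul, dm_one]⟩
      mul_mem' := by
        rintro g k ⟨n, l, b, hn, hl, d, e⟩ ⟨n', l', b', hn', hl', d', e'⟩
        refine ⟨n * sB b n', l * sB b l', xor b b', mul_ne_zero hn (sB_ne hn'), mul_ne_zero hl (sB_ne hl'),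
          sB_trans b b' ▸ d.mul d', fun m hm => ?_⟩
        rw [mul_smul, e' m hm, e _ (T.inv _ _ _ hn' hl' d' m hm), dm_mul] }
  refine ⟨⟨S, fun {g} hg => ?_⟩, fun _ => Iff.rfl⟩
  have : g⁻¹ = g ^ (orderOf g - 1) := by
    rw [inv_eq_iff_mul_eq_one, ← pow_succ', Nat.sub_add_cancel (orderOf_pos g), pow_orderOf_eq_one]
  rw [this]
  exact S.pow_mem hg _

theorem triv {ι : Uf F9 →* Γ} {g : Γ} (F : Cf 3 ι) (hg : g ∈ nr ι ⊤)
    (h : ∀ x y, Cj ι g x y → y.t = x.t ∧ y.c = x.c) : ∃ s, ∀ x, Cj ι g x (s * x * s⁻¹) := by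
  obtain ⟨α, hα⟩ := exists_aut F.inj hg
  have ht : ∀ x, (α x).t = x.t := fun x => (h x _ (hα x)).1
  have hc : ∀ x, (α x).c = x.c := fun x => (h x _ (hα x)).2
  have hb : ∀ x ∈ WW F9, (α x).b = x.b := fun x hx => by
    let a : Uf F9 := ⟨x.b, 0, 0, 0, star_zero _, star_zero _⟩
    let v : Uf F9 := ⟨0, 0, 0, 1, star_zero _, star_one _⟩
    have h1 : ⁅a, v⁆⁻¹ * x ∈ ZZ F9 := by simp [a, v, hx.1, hx.2]
    have h2 := ((aut_Z hs9 α).2 h1).2.1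
    rw [map_mul, map_inv, map_commutatorElement] at h2
    refine (neg_add_eq_zero.1 ?_).symm
    simpa [ht, hc, a, v, hx.2] using h2
  have ha : ∀ x ∈ ZZ F9, α x = x := fun x hx => by
    let a : Uf F9 := ⟨1, 0, 0, 0, star_zero _, star_zero _⟩
    let w : Uf F9 := ⟨0, 0, -x.a, 0, star_zero _, star_zero _⟩
    have h1 : x = ⁅a, w⁆ := by
      refine Uf.ext (hx.1.trans Uf.comm_t.symm) ?_ (by simp [a, w, hx.2.1]) (hx.2.2.trans Uf.comm_c.symm)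
      rw [Uf.comm_a]
      simpa [a, w] using (fix_a x.a x.ha).symm
    have hz := (aut_Z hs9 α).2 hx
    refine Uf.ext (ht x) ?_ (hz.2.1.trans hx.2.1.symm) (hc x)
    conv_lhs => rw [h1, map_commutatorElement, Uf.comm_a, ht, ht, hc, hc, hb w ⟨rfl, rfl⟩]
    simpa [a, w] using fix_a x.a x.ha
  obtain ⟨s, hs⟩ := Se.inner F seT (mem_ch le_top (fun _ h => ⟨h.1, h.2.2⟩) bot_le
    (fun x _ => ⟨_, hα x, by simp [ht, hc]⟩)
    (fun x hx => ⟨_, hα x, by simp [ht, hc, hb x hx, hx.1, hx.2]⟩)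
    (fun x hx => ⟨_, hα x, by simp [ha x hx]⟩) fun x hx => by
      rw [mem_bot.1 hx]
      simpa using hα 1)
  exact ⟨s, fun x => hs x (mem_top x)⟩

section res
variable {G : Subgroup Γ'} {χ : Uf F9 →* G} (hχ : ∀ x, (χ x : Γ') = ψ x) {a : G}
include hχ

theorem cj_iff {x y : Uf F9} : Cj χ a x y ↔ Cj ψ (a : Γ') x y := by
  rw [Cj, Cj, Subtype.ext_iff, coe_mul, coe_mul, coe_inv, hχ, hχ]

theorem nr_iff {E : Subgroup (Uf F9)} : a ∈ nr χ E ↔ (a : Γ') ∈ nr ψ E :=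
  ⟨fun h => mem_nr fun _ hx => (nr_cj h hx).imp fun _ e => ⟨e.1, (cj_iff hχ).1 e.2⟩,
    fun h => mem_nr fun _ hx => (nr_cj h hx).imp fun _ e => ⟨e.1, (cj_iff hχ).2 e.2⟩⟩

theorem aq_iff' {φ : F9 × F9 → F9 × F9} : AQ χ a φ ↔ AQ ψ (a : Γ') φ := by
  simp only [AQ, nr_iff hχ, cj_iff hχ]

end res

theorem card9 : Nat.card (Uf F9) = 3 ^ 6 := by
  have := U5F.card_K hs9
  rw [F9.natCard_eq] at this
  rw [card_Uf hs9, (Nat.pow_left_injective two_ne_zero (show 3 ^ 2 = qq F9 ^ 2 from this) : 3 = qq F9).symm]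

theorem mo (L : LD ψ u) {G : Subgroup Γ'} {χ : Uf F9 →* G} (hχ : ∀ x, (χ x : Γ') = ψ x) {m : F9}
    (h4 : ∀ g ∈ G, g ^ 4 • u m = u m) : Mo 3 χ := by
  have i : Function.Injective χ := fun x y e => L.inj (by rw [← hχ, ← hχ, e])
  have c : Nat.card χ.range = 3 ^ 6 := by
    rw [← card9]
    exact (Nat.card_congr (MonoidHom.ofInjective i).toEquiv).symm
  obtain ⟨P, hP⟩ := (IsPGroup.of_card c).exists_le_sylow
  refine ⟨i, P, (eq_of_le_of_card_ge hP ?_).symm⟩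
  obtain ⟨j, hj⟩ := P.isPGroup'.exists_card_eq
  have hle : (P : Subgroup G).map G.subtype ≤ MulAction.stabilizer Γ' (u m) := by
    rintro _ ⟨g, hg, rfl⟩
    obtain ⟨k, hk⟩ := IsPGroup.iff_orderOf.1 P.isPGroup' ⟨g, hg⟩
    rw [← orderOf_coe, ← orderOf_coe] at hk
    refine (zpowers_le.2 (show (g : Γ') ^ 4 ∈ MulAction.stabilizer Γ' (u m) from h4 g g.2))
      (mem_zpowers_pow_iff.2 ?_)
    rw [hk]
    exact Nat.Coprime.pow_right k (by norm_num)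
  have hd := card_dvd_of_le hle
  rw [card_map_of_injective G.subtype_injective, hj] at hd
  rw [hj, c]
  refine Nat.pow_le_pow_right (by norm_num) (not_lt.1 fun hlt => L.syl' m ((pow_dvd_pow 3 hlt).trans hd))

end L2

open L2 in
theorem LD.model (L : LD ψ u) (T : Ty ι X) : ∃ (G : Type v) (_ : Group G) (_ : Finite G) (χ : Uf F9 →* G),
    Mo 3 χ ∧ Std χ ∧ W2 χ ∧ (∀ n l σ, n ≠ 0 → l ≠ 0 → (Dl χ n l σ ↔ Dl ι n l σ)) ∧
      ∀ k, Sg χ k ↔ Sg ι k := by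
  obtain ⟨G, hG⟩ := exists_G (Γ' := Γ') T u
  have fx : ∀ g : Γ', (∀ m ∈ X, g • u m = u m) → g ∈ G := fun g h =>
    (hG g).2 ⟨1, 1, false, one_ne_zero, one_ne_zero, Dl.one, fun m hm => by rw [dm_one, h m hm]⟩
  obtain ⟨χ, hχ⟩ : ∃ χ : Uf F9 →* G, ∀ x, (χ x : Γ') = ψ x :=
    ⟨ψ.codRestrict G fun x => fx _ fun m _ => L.fix x m, fun _ => rfl⟩
  obtain ⟨m0, hm0⟩ := T.ne
  have hm : Mo 3 χ := mo L hχ (m := m0) fun g hg => by
    obtain ⟨n, l, b, hn, hl, d, e⟩ := (hG g).1 hg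
    have i := T.inv n l b hn hl d
    rw [show g ^ 4 = g * (g * (g * g)) by simp only [pow_succ', pow_zero, mul_one], mul_smul, mul_smul, mul_smul, e _ hm0, e _ (i _ hm0),
      e _ (i _ (i _ hm0)), e _ (i _ (i _ (i _ hm0))), dm_four n l b m0 hn hl d.1]
  refine ⟨G, inferInstance, inferInstance, χ, hm, fun g hg => ?_, ?_, fun n l σ hn hl => ?_, fun k => ?_⟩
  · obtain ⟨n, l, b, c, hn, hl, s, act, e⟩ := L.top ((nr_iff hχ).1 hg)
    obtain ⟨n0, l0, b0, hn0, hl0, d0, e0⟩ := (hG g).1 g.2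
    have e1 : ∀ m ∈ X, dm n l b m + c = dm n0 l0 b0 m := fun m hm => L.ne _ _ (by
      rw [← e0 m hm, (e.resolve_right fun e => L.ne' _ _ ((e0 m0 hm0).symm.trans (e m0))) m])
    obtain ⟨d, cd, ed⟩ := L.dd n l s b hn hl
    have dG : d ∈ G := (hG d).2 ⟨n0, l0, b0, hn0, hl0, d0, fun m hm => by
      rw [ed, two_c _ _ c (e1 m hm) (by rw [← dm_neg, ← dm_neg, e1 _ (T.neg m hm)])]⟩
    have cd' : ∀ x, Cj χ ⟨d, dG⟩ x (U4F.dl n l s (sB b) x) := fun x => (cj_iff hχ).2 (cd x)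
    have dN := cj_dl_nr hn hl cd'
    obtain ⟨t, ht⟩ := triv hm.cf (mul_mem hg (inv_mem dN)) fun x y h => by
      obtain ⟨x', -, h1⟩ := nr_cj' dN (mem_top x)
      have h2 := h.trans h1
      rw [inv_mul_cancel_right] at h2
      rw [h1.uniq hm.1 (cd' x')]
      exact act x' y ((cj_iff hχ).1 h2)
    refine ⟨t, n, l, s, sB b, hn, hl, fun x => ?_⟩
    have := (ht _).trans (cd' x)
    rwa [inv_mul_cancel_right] at this
  · obtain ⟨g, h1, h2⟩ := L.w2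
    exact ⟨⟨g, fx g fun m _ => h2 m⟩, fun x hx => (cj_iff hχ).2 (h1 x hx)⟩
  · obtain ⟨b, rfl⟩ := sB9 σ
    refine ⟨fun ⟨s, g, h⟩ => ?_, fun d => ?_⟩
    · obtain ⟨n0, l0, b0, hn0, hl0, d0, e0⟩ := (hG g).1 g.2
      have e := (L.dl hn hl fun x => (cj_iff hχ).1 (h x)).resolve_right
        fun e => L.ne' _ _ ((e0 m0 hm0).symm.trans (e m0))
      exact dl_of_eq T d0 hn0 hl0 hn hl s fun m hm => L.ne _ _ ((e m).symm.trans (e0 m hm))
    · obtain ⟨g, h1, h2⟩ := L.dd n l d.1 b hn hl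
      exact ⟨d.1, ⟨g, (hG g).2 ⟨n, l, b, hn, hl, d, fun m _ => h2 m⟩⟩, fun x => (cj_iff hχ).2 (h1 x)⟩
  · obtain ⟨g0, a0, h1, h2⟩ := L.jk k
    rw [T.sg]
    refine ⟨fun ⟨g, a⟩ m hm e => ?_, fun h => ⟨⟨g0, fx g0 fun m hm => h1 m (h m hm)⟩, (aq_iff' hχ).2 a0⟩⟩
    obtain ⟨n0, l0, b0, -, -, -, e0⟩ := (hG g).1 g.2
    rcases L.same a0 ((aq_iff' hχ).1 a) with e1 | e1
    · exact (h2 m e _).1 ((e1 m).trans (e0 m hm))
    · exact (h2 m e _).2 ((e1 m).trans (by rw [e0 m hm]))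

end U4F
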