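import Mathlib
import Cfsg.Agent.Base
import Cfsg.Agent.Lib.U4F.Ti

set_option autoImplicit false

namespace U4F

open Subgroup H93.SX
open H68 (SylowIn)
open U5F (qq)
open scoped commutatorElement
open H30

universe u v

variable {G : Type*} [Group G] [Finite G] [DistribMulAction G (Hm F4)] [FaithfulSMul G (Hm F4)]
  {H U : Subgroup G} {g w x : G} {t s t' s' : F4}

namespace M1

open H19.Cov

def al : List (Hm F4) :=
  [⟨0, .o, 0, rfl, rfl⟩, ⟨1, .o, 0, rfl, rfl⟩, ⟨0, .i, 0, rfl, rfl⟩, ⟨1, .i, 0, rfl, rfl⟩,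
   ⟨0, .w, 0, rfl, rfl⟩, ⟨1, .w, 0, rfl, rfl⟩, ⟨0, .v, 0, rfl, rfl⟩, ⟨1, .v, 0, rfl, rfl⟩,
   ⟨0, .o, 1, rfl, rfl⟩, ⟨1, .o, 1, rfl, rfl⟩, ⟨0, .i, 1, rfl, rfl⟩, ⟨1, .i, 1, rfl, rfl⟩,
   ⟨0, .w, 1, rfl, rfl⟩, ⟨1, .w, 1, rfl, rfl⟩, ⟨0, .v, 1, rfl, rfl⟩, ⟨1, .v, 1, rfl, rfl⟩]

theorem mem_al (v : Hm F4) : v ∈ al := by
  obtain ⟨a, b, c, ha, hc⟩ := v
  cases a <;> cases c <;> first | exact absurd ha (by decide) | exact absurd hc (by decide) | skip
  all_goals cases b <;> revert ha hc <;> decide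

instance dAll (q : Hm F4 → Prop) [DecidablePred q] : Decidable (∀ v, q v) :=
  decidable_of_iff (∀ v ∈ al, q v) ⟨fun h v => h v (mem_al v), fun h v _ => h v⟩

def enc (v : Hm F4) : ℕ := enc4 v.a + 2 * enc4 v.b + 8 * enc4 v.c

def shN (t i : ℕ) : ℕ :=
  0x89badcef76452310ba89fecd67542310dcfe89ab67453210fedcba9876543210 >>> (64 * t + 4 * i) % 16

def mvN (t s i : ℕ) : ℕ :=
  0x79e9e0770e9e97043dabc25168fe97025dabc4316e98f70619e9e61708f8f70fa63be278d14c9509c059c05c950c950fa27be63c9148d509c419c418d508d50fcde65478ba91230fcde4765a98b12309a9a0303a9a930309a9a21218b8b30306767676710101010454545451010101023232323101010100101010110101010 >>>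
    (64 * (4 * t + s) + 4 * i) % 16

def co (t i : ℕ) : ℕ :=
  0x5d7fb3914c6ea280b35d7f91a24c6e807fb35d916ea24c800000000000000000 >>> (64 * t + 4 * i)

theorem enc_sh : ∀ (t : F4) (v : Hm F4), enc (sh t v) = shN (enc4 t) (enc v) := by decide +kernel
theorem enc_mv : ∀ (t s : F4) (v : Hm F4), enc (mv t s v) = mvN (enc4 t) (enc4 s) (enc v) := by decide +kernel
theorem enc_add : ∀ v w : Hm F4, enc (v + w) = enc v ^^^ enc w := by decide +kernel
theorem enc_sub : ∀ v w : Hm F4, enc (v - w) = enc v ^^^ enc w := by decide +kernel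
theorem enc_inj : ∀ v w : Hm F4, enc v = enc w → v = w := by decide +kernel
theorem enc_dec : ∀ i < 16, enc (al.getD i 0) = i := by decide +kernel
theorem enc_lt : ∀ v : Hm F4, enc v < 16 := by decide +kernel
theorem enc_Z : ∀ v : Hm F4, v.b = 0 ∧ v.c = 0 ↔ enc v < 2 := by decide +kernel
theorem enc_W : ∀ v : Hm F4, v.c = 0 ↔ enc v < 8 := by decide +kernel
theorem enc_zero : enc 0 = 0 := rfl
theorem two : ∀ v : Hm F4, 2 ^ 1 • v = 0 := by decide +kernel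

/-- what `mem_of_pow` says -/
def P (f : ℕ → ℕ) : Prop :=
  ((∀ i < 2, f i < 2) ∧ (∀ i < 8, f i < 8) ∧ ∀ i < 16, f (f (f (f i))) = i) →
    ∃ a : F4, ∀ i < 16, f i = shN (enc4 a) i

instance dP (f : ℕ → ℕ) : Decidable (P f) := by unfold P; infer_instance

theorem key (o : OV F4 2 H U) (hg : g ∈ H) {f : ℕ → ℕ} (h : ∀ v, enc (g • v) = f (enc v)) : P f := by
  rintro ⟨h1, h2, h3⟩
  have : Fact (Nat.Prime 2) := ⟨Nat.prime_two⟩
  have hU : g ∈ U := mem_of_pow (p := 2) ⟨1, two⟩ o.syl o.le hg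
    (mem_sb fun v hv => (enc_Z _).2 (by rw [h]; exact h1 _ ((enc_Z v).1 hv)))
    (mem_sb fun v hv => (enc_W _).2 (by rw [h]; exact h2 _ ((enc_W v).1 hv))) (k := 2)
    (eq_of_smul_eq_smul fun v : Hm F4 => enc_inj _ _ (by
      rw [show g ^ 2 ^ 2 = g * (g * (g * g)) by simp only [← pow_succ', ← sq]; rfl]
      simp only [mul_smul, one_smul, h, h3 _ (enc_lt v)]))
  obtain ⟨a, ha⟩ := o.act g hU
  exact ⟨a, fun i hi => by rw [← enc_dec i hi, ← h, ha, enc_sh]⟩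

/-- the additive map commuting with `sh t` with given values on two generators -/
def L (t : F4) (x y v : Hm F4) : Hm F4 :=
  (if co (enc4 t) (enc v) % 2 = 1 then x else 0) + (if co (enc4 t) (enc v) / 2 % 2 = 1 then y else 0) +
    (if co (enc4 t) (enc v) / 4 % 2 = 1 then sh t x - x else 0) +
    (if co (enc4 t) (enc v) / 8 % 2 = 1 then sh t y - y else 0)

def LN (t x y i : ℕ) : ℕ :=
  (if co t i % 2 = 1 then x else 0) ^^^ (if co t i / 2 % 2 = 1 then y else 0) ^^^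
    (if co t i / 4 % 2 = 1 then shN t x ^^^ x else 0) ^^^ (if co t i / 8 % 2 = 1 then shN t y ^^^ y else 0)

theorem enc_L (t : F4) (x y v : Hm F4) : enc (L t x y v) = LN (enc4 t) (enc x) (enc y) (enc v) := by
  simp only [L, LN, enc_add, apply_ite enc, enc_sub, enc_sh, enc_zero]

theorem L_id : ∀ t : F4, t ≠ 0 → ∀ v, L t ⟨0, 0, 1, rfl, rfl⟩ ⟨0, .w * t, 0, rfl, rfl⟩ v = v := by
  decide +kernel

/-- the statement for one value of the parameter -/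
def C (t : F4) (f u : ℕ → ℕ) : Prop := (∀ i < 16, f i = 0 → i = 0) →
  P (fun i => f (f i)) → P (fun i => f (f (f i))) → P (fun i => f (u (f i))) →
    P (fun i => f (u (f (u (f i))))) → (∃ a : F4, ∀ i < 16, f i = shN (enc4 a) i) ∨
      ∃ s a b : F4, s ≠ 0 ∧ t ≠ s ∧ ∀ i < 16, f i = shN (enc4 a) (mvN (enc4 t) (enc4 s) (shN (enc4 b) i))

instance dC (t : F4) (f u : ℕ → ℕ) : Decidable (C t f u) := by unfold C; infer_instance

theorem cent1 : ∀ x < 16, ∀ y < 16, C .i (LN 1 x y) (shN 2) := by decide +kernel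
theorem cent2 : ∀ x < 16, ∀ y < 16, C .w (LN 2 x y) (shN 3) := by decide +kernel
theorem cent3 : ∀ x < 16, ∀ y < 16, C .v (LN 3 x y) (shN 1) := by decide +kernel

theorem cent (ht : t ≠ 0) (x y : Hm F4) : C t (LN (enc4 t) (enc x) (enc y)) (shN (enc4 (.w * t))) := by
  cases t
  · exact absurd rfl ht
  · exact cent1 _ (enc_lt x) _ (enc_lt y)
  · exact cent2 _ (enc_lt x) _ (enc_lt y)
  · exact cent3 _ (enc_lt x) _ (enc_lt y)

/-- the three words -/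
def D (f g : ℕ → ℕ) : Prop := P (fun i => g (f i)) ∧ (∀ a : F4, P fun i => f (g (f (shN (enc4 a) (g (f i)))))) ∧
  ∀ a : F4, P fun i => g (f (g (shN (enc4 a) (f (g i)))))

instance dD (f g : ℕ → ℕ) : Decidable (D f g) := by unfold D; infer_instance

theorem cmp : ∀ t s t' s' : F4, t ≠ 0 → s ≠ 0 → t ≠ s → t' ≠ 0 → s' ≠ 0 → t' ≠ s' →
    (t = t' ↔ s * t' = s' * t) ∨ ¬ D (mvN (enc4 t) (enc4 s)) (mvN (enc4 t') (enc4 s')) := by
  decide +kernel

end M1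

theorem OV.cent (o : OV F4 2 H U) (hg : g ∈ H) (ht : t ≠ 0) (h : ∀ v, g • sh t v = sh t (g • v)) :
    g ∈ U ∨ ∃ s a b, s ≠ 0 ∧ t ≠ s ∧ ∀ v, g • v = sh a (mv t s (sh b v)) := by
  have e0 : ∀ v, g • v = M1.L t (g • ⟨0, 0, 1, rfl, rfl⟩) (g • ⟨0, .w * t, 0, rfl, rfl⟩) v := fun v => by
    conv_lhs => rw [← M1.L_id t ht v]
    simp only [M1.L, smul_add, apply_ite (g • ·), smul_zero, smul_sub, h]
  have c := M1.cent ht (g • ⟨0, 0, 1, rfl, rfl⟩) (g • ⟨0, .w * t, 0, rfl, rfl⟩)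
  have e := fun v => (congrArg M1.enc (e0 v)).trans (M1.enc_L ..)
  generalize M1.LN _ _ _ = f at c e
  obtain ⟨u, hu, eu⟩ := o.ex (.w * t)
  have uH := o.syl.1 hu
  rcases c (fun i hi hv => by
      rw [← M1.enc_dec i hi, ← e, ← M1.enc_zero] at hv
      rw [← M1.enc_dec i hi, (smul_eq_zero_iff_eq g).1 (M1.enc_inj _ _ hv), M1.enc_zero])
    (M1.key o (mul_mem hg hg) fun v => by simp only [mul_smul, e])
    (M1.key o (mul_mem hg (mul_mem hg hg)) fun v => by simp only [mul_smul, e])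
    (M1.key o (mul_mem hg (mul_mem uH hg)) fun v => by simp only [mul_smul, e, eu, M1.enc_sh])
    (M1.key o (mul_mem hg (mul_mem uH (mul_mem hg (mul_mem uH hg)))) fun v => by
      simp only [mul_smul, e, eu, M1.enc_sh]) with ⟨a, ha⟩ | ⟨s, a, b, h1, h2, h3⟩
  · obtain ⟨u', hu', eu'⟩ := o.ex a
    exact Or.inl ((eq_of_smul_eq_smul fun v : Hm F4 => M1.enc_inj _ _ (by
      rw [e, ha _ (M1.enc_lt v), eu', M1.enc_sh]) : g = u') ▸ hu')
  · exact Or.inr ⟨s, a, b, h1, h2, fun v => M1.enc_inj _ _ (by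
      rw [e, h3 _ (M1.enc_lt v), M1.enc_sh, M1.enc_mv, M1.enc_sh])⟩

theorem OV.cmp (o : OV F4 2 H U) (hw : w ∈ H) (hx : x ∈ H) (h1 : t ≠ 0) (h2 : s ≠ 0) (h3 : t ≠ s)
    (h4 : t' ≠ 0) (h5 : s' ≠ 0) (h6 : t' ≠ s') (a : ∀ v, w • v = mv t s v)
    (b : ∀ v, x • v = mv t' s' v) : t = t' ↔ s * t' = s' * t := by
  refine (M1.cmp t s t' s' h1 h2 h3 h4 h5 h6).resolve_right (not_not.2
    ⟨M1.key o (mul_mem hx hw) fun v => by simp only [mul_smul, a, b, M1.enc_mv], fun c => ?_, fun c => ?_⟩)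
  all_goals obtain ⟨u, hu, eu⟩ := o.ex c
  · exact M1.key o (mul_mem hw (mul_mem hx (mul_mem hw (mul_mem (o.syl.1 hu) (mul_mem hx hw)))))
      fun v => by simp only [mul_smul, a, b, eu, M1.enc_mv, M1.enc_sh]
  · exact M1.key o (mul_mem hx (mul_mem hw (mul_mem hx (mul_mem (o.syl.1 hu) (mul_mem hw hx)))))
      fun v => by simp only [mul_smul, a, b, eu, M1.enc_mv, M1.enc_sh]

end U4F
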