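import Mathlib
import Cfsg.Agent.Base
import Cfsg.Agent.Lib.U4F.M1
import Cfsg.Agent.Lib.U4F.Cv
import Cfsg.Agent.Lib.U4F.Dg
import Cfsg.Agent.Lib.U4F.SE
import Cfsg.Agent.Lib.U4F.SL

set_option autoImplicit false

namespace U4F

open Subgroup H93.SX
open H68 (SylowIn)
open U5F (qq)
open scoped commutatorElement
open H30

universe u v

variable {Γ : Type u} {Γ' : Type v} [Group Γ] [Finite Γ] [Group Γ'] [Finite Γ'] {ι : Uf F4 →* Γ}
  {ψ : Uf F4 →* Γ'} {g : Γ} {t s t' s' : F4}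

namespace M2

theorem fin : Finite (Hm F4 ≃ₗ[ℤ] Hm F4) := Finite.of_injective _ DFunLike.coe_injective

theorem selfV (x : Uf F4) : ι x ∈ nr ι (VV F4) := self_nr fun z _ => (comm_W x z).1

theorem conj_sh (i : Function.Injective ι) {φ : Hm F4 ≃ₗ[ℤ] Hm F4} (a : Ac ι (VV F4) cV g φ) {x y : Uf F4}
    (e : Cj ι g x y) (v : Hm F4) : φ • sh x.t v = sh y.t (φ • v) := by
  obtain ⟨χ, b⟩ := (coV i).exists_ac (selfV (ι := ι) x)
  have c := (a.mul b).mul a.inv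
  rw [show g * ι x * g⁻¹ = ι y from e] at c
  rw [← acV_self i y c, ← acV_self i x b, mul_smul, mul_smul, inv_smul_smul]

theorem usb (F : Cf 2 ι) : au F.inj (VV F4) cV ι.range ≤ sb _ (hZ F4) ⊓ sb _ (hW F4) :=
  haveI := fin
  (ovV F).le.trans (st_le_sb fun _ h => h.2)

theorem mv_sh (ht : t ≠ 0) (hs : s ≠ 0) (h : t ≠ s) (v : Hm F4) : mv t s (sh t v) = sh t (mv t s v) := by
  obtain ⟨a, b, c, ha, hc⟩ := v
  simp only [Hm.ext_iff, mv, sh]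
  revert t s a b c
  decide

theorem not_sb (ht : t ≠ 0) {φ : Hm F4 ≃ₗ[ℤ] Hm F4} (h : ∀ v, φ • v = mv t s v) : φ ∉ sb _ (hZ F4) := fun e => by
  have := (sb_mem e (x := ⟨1, 0, 0, by simp, by simp⟩) ⟨rfl, rfl⟩).1
  rw [h] at this
  exact ht (by simpa [mv] using this)

theorem sh_ne {φ : Hm F4 ≃ₗ[ℤ] Hm F4} (h : ∀ v, φ • v = sh t v) : φ = 1 ↔ t = 0 := by
  constructor
  · rintro rfl
    simpa [sh] using (congrArg Hm.b (h ⟨0, 0, 1, by simp, by simp⟩)).symm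
  · rintro rfl
    exact eq_of_smul_eq_smul fun v : Hm F4 => by rw [h, one_smul]; ext <;> simp [sh]

theorem inner (F : Cf 2 ι) (α : Uf F4 ≃* Uf F4) (h : ∀ x, Cj ι g x (α x))
    (e : ∀ x, (α x).t = x.t ∧ (α x).c = x.c) : ∃ s, ∀ x, Cj ι g x (s * x * s⁻¹) := by
  refine (seT.inner F (mem_ch le_top seT.b bot_le (fun x _ => ⟨_, h x, by simp [e x]⟩)
    (fun x hx => ⟨_, h x, ?_⟩) (fun x hx => ⟨_, h x, ?_⟩) fun x hx => by
      rw [mem_bot.1 hx]; simpa using h 1)).imp fun s hs x => hs x trivial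
  · let u : Uf F4 := ⟨x.b, 0, 0, 0, by simp, by simp⟩
    let v : Uf F4 := ⟨0, 0, 0, 1, by simp, by simp⟩
    have h1 : ⁅u, v⁆⁻¹ * x ∈ ZZ F4 := by simp [u, v, hx.1, hx.2]
    have h2 := ((aut_Z hs4 α).2 h1).2.1
    simp [map_commutatorElement, e, u, v, hx.2] at h2
    simp [e, hx.1, hx.2, neg_add_eq_zero.1 h2]
  · have h2 := (aut_Z hs4 α).2 hx
    have h3 : (α x).a = 0 ↔ x.a = 0 := by
      have := α.map_eq_one_iff (x := x)
      rw [Uf.eq_one, Uf.eq_one] at this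
      simpa only [hx.1, hx.2.1, hx.2.2, h2.1, h2.2.1, h2.2.2, true_and, and_true] using this
    have h4 : ∀ a b : F4, star a = a → star b = b → (a = 0 ↔ b = 0) → a = b := by decide
    rw [mem_bot, mul_inv_eq_one]
    exact Uf.ext (e x).1 (h4 _ _ (α x).ha x.ha h3) (h2.2.1.trans hx.2.1.symm) (e x).2

end M2

attribute [local instance] M2.fin

theorem mv_of_cent (F : Cf 2 ι) {φ : Hm F4 ≃ₗ[ℤ] Hm F4} (hφ : φ ∈ au F.inj (VV F4) cV ⊤) (ht : t ≠ 0)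
    (h : ∀ v, φ • sh t v = sh t (φ • v)) : φ ∈ au F.inj (VV F4) cV ι.range ∨
      ∃ s a b, Mv ι t s ∧ ∀ v, φ • v = sh a (mv t s (sh b v)) := by
  have o := ovV F
  refine (o.cent hφ ht h).imp_right fun ⟨s, a, b, h1, h2, e⟩ => ⟨s, a, b, ⟨ht, h1, h2, ?_⟩, e⟩
  obtain ⟨x, hx, ex⟩ := o.ex a
  obtain ⟨y, hy, ey⟩ := o.ex b
  refine (av_iff F.inj).2 ⟨x⁻¹ * φ * y⁻¹,
    mul_mem (mul_mem (inv_mem (o.syl.le hx)) hφ) (inv_mem (o.syl.le hy)), fun v => ?_⟩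
  rw [mul_smul, mul_smul, inv_smul_eq_iff, e, ← ey, smul_inv_smul, ex]

theorem Mv.cmp (F : Cf 2 ι) (a : Mv ι t s) (b : Mv ι t' s') : t = t' ↔ s * t' = s' * t := by
  obtain ⟨w, hw, e⟩ := (av_iff F.inj).1 a.2.2.2
  obtain ⟨x, hx, e'⟩ := (av_iff F.inj).1 b.2.2.2
  exact (ovV F).cmp hw hx a.1 a.2.1 a.2.2.1 b.1 b.2.1 b.2.2.1 e e'

theorem mv_of_not_tv (F : Cf 2 ι) (h : ¬ TV F.inj) : ∃ t s, Mv ι t s := by
  have o := ovV F
  by_contra hn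
  refine h fun g hg u hu h1 h2 => ?_
  obtain ⟨n, hn1, hn2, e⟩ := fuse o.syl o.comm hu hg h2
  obtain ⟨t, et⟩ := o.act u hu
  have hc : n⁻¹ * g * u = u * (n⁻¹ * g) := by
    calc _ = n⁻¹ * (g * u * g⁻¹) * g := by group
      _ = _ := by rw [← e]; group
  rcases mv_of_cent F (mul_mem (inv_mem hn1) hg) (mt (M2.sh_ne et).2 h1)
    (fun v => by rw [← et, ← et, ← mul_smul, hc, mul_smul]) with h3 | ⟨s, -, -, h3, -⟩
  · simpa using mul_mem (o.nsb hs4 hn2) (M2.usb F h3)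
  · exact (hn ⟨t, s, h3⟩).elim

theorem M2.move (F : Cf 2 ι) (h : Mv ι t s) (hg : g ∈ nr ι ⊤) {x y : Uf F4} (e : Cj ι g x y) (hx : x.t = t)
    (hy : y.t ≠ 0) : ∃ s', Mv ι y.t s' := by
  obtain ⟨w, hw, ew⟩ := (av_iff F.inj).1 h.2.2.2
  obtain ⟨φ, a⟩ := (coV F.inj).exists_ac (top_V hs4 F.inj hg)
  have hφ : φ ∈ au F.inj (VV F4) cV ⊤ := ⟨g, trivial, a⟩
  rcases mv_of_cent F (mul_mem (mul_mem hφ hw) (inv_mem hφ)) hy (fun v => by
    rw [mul_smul, mul_smul, mul_smul, mul_smul, M2.conj_sh F.inj a.inv e.symm, ew, ew, hx,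
      M2.mv_sh h.1 h.2.1 h.2.2.1, ← hx, M2.conj_sh F.inj a e]) with h3 | ⟨s', -, -, h3, -⟩
  · have h4 := (acV_Z F.inj a).2 (top_Z hs4 F.inj hg)
    exact (M2.not_sb h.1 ew (by simpa [mul_assoc] using mul_mem (mul_mem (inv_mem h4) (M2.usb F h3).1) h4)).elim
  · exact ⟨s', h3⟩

theorem Mv.inn (F : Cf 2 ι) (h : Mv ι t s) : Inn ι := by
  intro g hg
  obtain ⟨α, e⟩ := exists_aut F.inj hg
  obtain ⟨n, l, σ, hn, hl, hl', hα⟩ := sl_act hs4 α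
  obtain ⟨b, rfl⟩ := sB4 σ
  have h0 : ∀ x : Uf F4, x.t ≠ 0 → (α x).t ≠ 0 := fun x hx => mt (aut_V hs4 α).1 hx
  let x : Uf F4 := ⟨t, 0, 0, 0, by simp, by simp⟩
  obtain ⟨s1, h1⟩ := M2.move F h hg (e x) rfl (h0 x h.1)
  obtain ⟨s2, h2⟩ := M2.move F h1 hg (e (α x)) rfl (h0 _ h1.1)
  have c1 := h.cmp F h1
  have c2 := h.cmp F h2
  have c3 := h1.cmp F h2
  have k1 := h1.2.2.1
  have k2 := h2.2.2.1
  simp only [hα, x] at c1 c2 c3 k1 k2
  have key : ∀ z : F4, n * sB b (n * sB b z) = z ∧ (star z = z → l * sB b (l * sB b z) = z) := by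
    have k3 := h1.2.1
    have k4 := h2.2.1
    have k5 := h.1
    have k6 := h.2.1
    have k7 := h.2.2.1
    clear hα h1 h2 h
    clear_value x
    cases b
    · simp only [sB, cond_false, StarRingEquiv.coe_refl, id] at *
      revert n l t s s1 s2
      decide
    · intro z
      show n * star (n * star z) = z ∧ (star z = z → l * star (l * star z) = z)
      clear c1 c2 c3 k1 k2
      revert n l z
      decide
  obtain ⟨r, hr⟩ := M2.inner F (g := g ^ 2 ^ 1) (α.trans α)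
    (fun x => by simpa [sq] using (e _).trans (e x)) fun x => by
      simp only [MulEquiv.trans_apply, hα]
      exact ⟨(key _).1, (key _).2 x.hc⟩
  exact inner_of_pow F hg hr

theorem Mv.not_es (F : Cf 2 ι) (h : Mv ι t s) : ¬ Es 2 ι (VV F4) := fun hE => by
  have o := ovV F
  obtain ⟨N, hN⟩ := es_emb F hE (coV F.inj) fun x hx e =>
    Uf.eq_one.2 ⟨hx, congrArg Hm.a e, congrArg Hm.b e, congrArg Hm.c e⟩
  have sq : ∀ {a : Hm F4 ≃ₗ[ℤ] Hm F4} {r : F4}, (∀ v, a • v = sh r v) → a ^ 2 = 1 := fun {a r} e =>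
    eq_of_smul_eq_smul fun v : Hm F4 => by
      rw [pow_two, mul_smul, e, e, one_smul]
      obtain ⟨a, b, c, ha, hc⟩ := v
      simp only [Hm.ext_iff, sh]
      clear e
      revert r a b c
      decide
  obtain ⟨a, ha, ea⟩ := o.ex 1
  obtain ⟨b, hb, eb⟩ := o.ex F4.w
  obtain ⟨c, hc, e⟩ := hN.conj o.syl ha hb (mt (M2.sh_ne ea).1 one_ne_zero)
    (mt (M2.sh_ne eb).1 (by decide)) (sq ea) (sq eb)
  obtain ⟨n, ⟨g, -, hg⟩, hn, e'⟩ := fuse o.syl o.comm ha hc (e ▸ hb)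
  have h1 := o.nsb hs4 hn
  obtain ⟨k, hk, ek⟩ := seV.ext F hg.1 ((acV_W F.inj hg).1 h1.2) ((acV_Z F.inj hg).1 h1.1) nr_bot
  obtain ⟨r, er⟩ := h.inn F k hk.2
  have h2 : n ∈ au F.inj (VV F4) cV ι.range := ⟨ι r, ⟨r, rfl⟩, M2.selfV r, fun x hx y hy e => by
    obtain ⟨z, hz, ez⟩ := nr_cj hg.1 hx
    rw [e.uniq F.inj (Cj.self r x), ← (ek x hx z ez).uniq F.inj (er x)]
    exact hg.2 x hx z hz ez⟩
  rw [e, o.comm n h2 a ha, mul_inv_cancel_right] at e'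
  have := congrArg Hm.b ((ea ⟨0, 0, 1, by simp, by simp⟩).symm.trans (e' ▸ eb _))
  simp [sh] at this

theorem es_mv (F : Cf 2 ι) (ht : t ≠ 0) (h : Es 2 ι (Et t)) : ∃ s, Mv ι t s := by
  by_contra hn
  have key : ∀ g ∈ nr ι (Et t), g ∈ nr ι (ZZ F4) ∧ g ∈ nr ι (WW F4) := fun g hg => by
    have hV := Et_V hs4 F.inj ht hg
    obtain ⟨φ, a⟩ := (coV F.inj).exists_ac hV
    obtain ⟨y, hy, e⟩ := nr_cj hg (x := ⟨t, 0, 0, 0, by simp, by simp⟩) (mul_comm _ _)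
    have h1 : y.t = t := by
      have : ∀ a b : F4, a ≠ 0 → b ≠ 0 → a * star b = star a * b → a = b := by decide
      exact this _ _ (mt (e.mem' F.inj hV) ht) ht hy
    rcases mv_of_cent F ⟨g, trivial, a⟩ ht (fun v => h1 ▸ M2.conj_sh F.inj a e v) with h3 | ⟨s, -, -, h3, -⟩
    · exact ⟨(acV_Z F.inj a).1 (M2.usb F h3).1, (acV_W F.inj a).1 (M2.usb F h3).2⟩
    · exact (hn ⟨s, h3⟩).elim
  exact (seW fun x hx => by simp [hx.1]).not F h (fun g hg => (key g hg).2) (fun g hg => (key g hg).1)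
    fun _ _ => nr_bot

theorem Mv.not_tv (F : Cf 2 ι) (h : Mv ι t s) : ¬ TV F.inj := fun hT => by
  have o := ovV F
  obtain ⟨w, hw, ew⟩ := (av_iff F.inj).1 h.2.2.2
  obtain ⟨u, hu, eu⟩ := o.ex t
  have e : w * u = u * w := eq_of_smul_eq_smul fun v : Hm F4 => by
    rw [mul_smul, mul_smul, ew, ew, eu, eu, M2.mv_sh h.1 h.2.1 h.2.2.1]
  exact M2.not_sb h.1 ew (hT w hw u hu (mt (M2.sh_ne eu).1 h.1) (by rwa [e, mul_inv_cancel_right])).1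

end U4F
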