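import Mathlib
import Cfsg.Agent.Base
import Cfsg.Agent.Lib.U4F.Ar

set_option autoImplicit false

namespace U4F

open Subgroup H93.SX
open H68 (SylowIn)
open U5F (qq)
open scoped commutatorElement

universe u v

variable {K G : Type*} [Field K] [StarRing K] [Finite K] [Group G] [Finite G]
  [DistribMulAction G (K × K)] [FaithfulSMul G (K × K)] {p : ℕ} [Fact p.Prime] [CharP K p]
  {H R : Subgroup G} {g r : G}

namespace SM

omit [Finite K] in
theorem be_star (x y : K × K) : star (be x y) = be x y := by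
  simp only [be, star_sub, star_add, star_mul', star_star]; ring

omit [Finite K] in
theorem be_sl {k : K} (hk : star k = k) (x y : K × K) : be (k • x) y = k * be x y := by
  simp only [be, Prod.smul_fst, Prod.smul_snd, smul_eq_mul, star_mul', hk]; ring

omit [Finite K] in
theorem be_sr {k : K} (hk : star k = k) (x y : K × K) : be x (k • y) = k * be x y := by
  simp only [be, Prod.smul_fst, Prod.smul_snd, smul_eq_mul, star_mul', hk]; ring

omit [Finite K] in
theorem be_sub (x x' y : K × K) : be (x - x') y = be x y - be x' y := by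
  simp only [be, Prod.fst_sub, Prod.snd_sub, star_sub]; ring

omit [Finite K] in
theorem div_fix {s t : K} (hs : star s = s) (ht : star t = t) : star (s / t) = s / t := by
  rw [star_div₀, hs, ht]

end SM

open SM

theorem be_nd (hs : ∃ e : K, star e ≠ e) {x : K × K} (h : ∀ y, be x y = 0) : x = 0 := by
  refine Prod.ext (tr_zero hs fun t => ?_) (tr_zero hs fun t => ?_)
  · have := h (0, t)
    simp only [be, star_zero, mul_zero, add_zero, zero_sub, neg_eq_zero] at this
    exact this
  · have := h (t, 0)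
    simp only [be, star_zero, zero_mul, add_zero, sub_zero] at this
    linear_combination this

theorem be_ax (hs : ∃ e : K, star e ≠ e) {x : K × K} : (∀ w ∈ ax K, be x w = 0) ↔ x ∈ ax K := by
  refine ⟨fun h => mem_ax.2 (tr_zero hs fun t => ?_), fun h w hw => ?_⟩
  · have := h (t, 0) rfl
    simp only [be, star_zero, zero_mul, add_zero, sub_zero] at this
    linear_combination this
  · simp [be, mem_ax.1 h, mem_ax.1 hw]

theorem OQ.le (o : OQ K p H R) : R ≤ st G ⊥ (ax K) := by
  intro g hg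
  obtain ⟨e, -, a⟩ := o.act g hg
  refine mem_st.2 ⟨fun x => ?_, fun x hx => ?_, fun x hx => ?_⟩
  · rw [mem_ax, a, Prod.snd_sub, sub_self]
  · rw [AddSubgroup.mem_bot, a, mem_ax.1 hx, mul_zero, add_zero, sub_eq_zero]
    exact Prod.ext rfl (mem_ax.1 hx).symm
  · rw [AddSubgroup.mem_bot.1 hx, smul_zero]

theorem OQ.card (o : OQ K p H R) : Nat.card R = qq K := by
  choose f hf a using o.act
  refine Nat.card_congr (Equiv.ofBijective (fun g : R => (⟨f g g.2, hf g g.2⟩ : {k : K // star k = k}))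
    ⟨fun g g' e => Subtype.ext (eq_of_smul_eq_smul fun v : K × K => ?_), fun e => ?_⟩)
  · have e' : f g g.2 = f g' g'.2 := congrArg Subtype.val e
    rw [a g g.2, a g' g'.2, e']
  · obtain ⟨g, hg, b⟩ := o.ex e e.2
    refine ⟨⟨g, hg⟩, Subtype.ext ?_⟩
    have := congrArg Prod.fst ((a g hg (0, 1)).symm.trans (b (0, 1)))
    simpa using this

theorem OQ.be0 (o : OQ K p H R) (hg : g ∈ H) {x y : K × K} : be (g • x) (g • y) = 0 ↔ be x y = 0 := by
  have key : ∀ g ∈ H, ∀ x y : K × K, be x y = 0 → be (g • x) (g • y) = 0 := fun g hg x y h => by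
    rw [o.form g hg x y 0 0 (by rw [h]; simp [be]), smul_zero]
    simp [be]
  exact ⟨fun h => by simpa using key _ (inv_mem hg) _ _ h, key g hg x y⟩

theorem OQ.semi (hs : ∃ e : K, star e ≠ e) (o : OQ K p H R) (hg : g ∈ H) {k : K} (hk : star k = k) :
    ∃ k' : K, star k' = k' ∧ ∀ x : K × K, g • (k' • x) = k • g • x := by
  have key : ∀ x y x' y' : K × K, be x y = be x' y' →
      be (g⁻¹ • k • g • x) y = be (g⁻¹ • k • g • x') y' := fun x y x' y' h => by
    have := o.form _ (inv_mem hg) (k • g • x) (g • y) (k • g • x') (g • y')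
      (by rw [be_sl hk, be_sl hk, o.form g hg _ _ _ _ h])
    simpa only [inv_smul_smul] using this
  obtain ⟨e, he⟩ := U5F.exists_one hs
  have h0 : be ((0, 1) : K × K) (e, 0) ≠ 0 := by
    have : be ((0, 1) : K × K) (e, 0) = 1 := by
      simp only [be, star_zero, star_one, one_mul, zero_mul, add_zero, sub_zero]
      rw [add_comm, he]
    rw [this]; exact one_ne_zero
  generalize ((0, 1) : K × K) = x0 at h0
  generalize ((e, 0) : K × K) = y0 at h0
  have hk' := div_fix (be_star (g⁻¹ • k • g • x0) y0) (be_star x0 y0)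
  refine ⟨_, hk', fun x => ?_⟩
  rw [smul_eq_iff_eq_inv_smul, ← sub_eq_zero]
  refine be_nd hs fun y => ?_
  have hκ := div_fix (be_star x y) (be_star x0 y0)
  rw [be_sub, be_sl hk', key x y x0 ((be x y / be x0 y0) • y0) (by rw [be_sr hκ]; field_simp), be_sr hκ]
  ring

theorem OQ.lin (hs : ∃ e : K, star e ≠ e) (o : OQ K p H R) (hg : g ∈ H) (hr : r ∈ R) {k : K} (hk : star k = k) (x : K × K) :
    (g * r * g⁻¹) • (k • x) = k • (g * r * g⁻¹) • x := by
  obtain ⟨k', -, a⟩ := o.semi hs hg hk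
  obtain ⟨e, -, b⟩ := o.act r hr
  have h1 : g⁻¹ • (k • x) = k' • g⁻¹ • x := by
    rw [inv_smul_eq_iff, a, smul_inv_smul]
  have h2 : ∀ y : K × K, r • (k' • y) = k' • r • y := fun y => by
    rw [b, b]
    refine Prod.ext ?_ rfl
    simp only [Prod.smul_fst, Prod.smul_snd, smul_eq_mul]
    ring
  rw [mul_smul, mul_smul, mul_smul, mul_smul, h1, h2, a]

theorem OQ.lq (hs : ∃ e : K, star e ≠ e) (o : OQ K p H R) (h : ∀ g ∈ H, g ∈ sb G (ax K) ∨ ∃ e : K, star e = e ∧
      ∀ b : K, (g • ((b, 0) : K × K)).1 = e * (g • ((b, 0) : K × K)).2) (hn : ¬ H ≤ sb G (ax K)) :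
    ∃ w ∈ H, ∀ v : K × K, w • v = (-v.2, v.1) := by
  have RH : R ≤ H := o.syl.1
  obtain ⟨g0, hg0, n0⟩ := SetLike.not_le_iff_exists.1 hn
  obtain ⟨e0, he0, hb⟩ := (h g0 hg0).resolve_left n0
  obtain ⟨r0, hr0, ar0⟩ := o.ex (-e0) (by rw [star_neg, he0])
  obtain ⟨g, hg, a1⟩ : ∃ g ∈ H, ∀ b : K, (g • ((b, 0) : K × K)).1 = 0 :=
    ⟨r0 * g0, mul_mem (RH hr0) hg0, fun b => by
      rw [mul_smul, ar0]
      change (g0 • ((b, 0) : K × K)).1 + -e0 * (g0 • ((b, 0) : K × K)).2 = 0
      rw [hb]; ring⟩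
  have a2 : ∀ t : K, ∃ b : K, g • ((b, 0) : K × K) = (0, t) := by
    have inj : Function.Injective fun b : K => (g • ((b, 0) : K × K)).2 := fun b b' e => by
      have : g • ((b, 0) : K × K) = g • ((b', 0) : K × K) := Prod.ext ((a1 b).trans (a1 b').symm) e
      exact congrArg Prod.fst (smul_left_cancel g this)
    intro t
    obtain ⟨b, e⟩ := Finite.injective_iff_surjective.1 inj t
    exact ⟨b, Prod.ext (a1 b) e⟩
  have key : ∀ e : {k : K // star k = k}, ∃ f : {k : K // star k = k}, ∃ x ∈ H,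
      (∀ v : K × K, x • v = (v.1, v.2 + f * v.1)) ∧
        ∀ u : K × K, x • g • u = g • ((u.1 + e * u.2, u.2) : K × K) := by
    intro e
    obtain ⟨r, hr, ar⟩ := o.ex e e.2
    have hx : g * r * g⁻¹ ∈ H := mul_mem (mul_mem hg (RH hr)) (inv_mem hg)
    have b0 : ∀ u : K × K, (g * r * g⁻¹) • g • u = g • ((u.1 + e * u.2, u.2) : K × K) := fun u => by
      rw [mul_smul, mul_smul, inv_smul_smul, ar]
    generalize g * r * g⁻¹ = x at hx b0
    have b1 : ∀ v : K × K, (x • v).1 = v.1 := fun v => by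
      have e1 := b0 (g⁻¹ • v)
      have e2 : (((g⁻¹ • v).1 + e * (g⁻¹ • v).2, (g⁻¹ • v).2) : K × K) =
          g⁻¹ • v + ((e : K) * (g⁻¹ • v).2, 0) := Prod.ext rfl (add_zero _).symm
      rw [e2, smul_add, smul_inv_smul] at e1
      rw [e1, Prod.fst_add, a1, add_zero]
    have b2 : ∀ t : K, x • ((0, t) : K × K) = (0, t) := fun t => by
      obtain ⟨b, eb⟩ := a2 t
      rw [← eb, b0]
      simp
    obtain ⟨f, hf, b3⟩ : ∃ f : K, star f = f ∧ ∀ b : K, (x • ((b, 0) : K × K)).2 = f * b := by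
      rcases h x hx with s | ⟨e', he', hb'⟩
      · exact ⟨0, star_zero _, fun b => by
          rw [zero_mul]; exact sb_mem s (show ((b, 0) : K × K) ∈ ax K from rfl)⟩
      · have e0' : e' ≠ 0 := by
          rintro rfl
          have := hb' 1
          rw [b1, zero_mul] at this
          exact one_ne_zero this
        refine ⟨e'⁻¹, by rw [star_inv₀, he'], fun b => ?_⟩
        have := hb' b
        rw [b1] at this
        rw [eq_inv_mul_iff_mul_eq₀ e0']
        exact this.symm
    refine ⟨⟨f, hf⟩, x, hx, fun v => ?_, b0⟩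
    have e3 : v = ((v.1, 0) : K × K) + (0, v.2) := by simp
    refine Prod.ext (b1 v) ?_
    conv_lhs => rw [e3, smul_add, b2, Prod.snd_add, b3]
    exact add_comm _ _
  choose f x hx ax' bx using key
  have inj : Function.Injective f := fun e e' hee => by
    have e1 := (bx e (0, 1)).symm.trans ((ax' e _).trans (hee ▸ (ax' e' _).symm.trans (bx e' (0, 1))))
    have e2 := congrArg Prod.fst (smul_left_cancel g e1)
    exact Subtype.ext (by simpa using e2)
  obtain ⟨e, he⟩ := Finite.injective_iff_surjective.1 inj ⟨1, star_one _⟩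
  obtain ⟨r, hr, ar⟩ := o.ex (-1) (by rw [star_neg, star_one])
  refine ⟨r * x e * r, mul_mem (mul_mem (RH hr) (hx e)) (RH hr), fun v => ?_⟩
  rw [mul_smul, mul_smul, ar v, ax', he, ar]
  refine Prod.ext ?_ ?_ <;> simp only <;> ring

end U4F
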