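import Mathlib
import Cfsg.Agent.Base
import Cfsg.Agent.Lib.U4F.SM

set_option autoImplicit false
set_option linter.unusedSectionVars false

namespace U4F

open Subgroup H93.SX
open H68 (SylowIn)
open U5F (qq)
open scoped commutatorElement

universe u v

variable {K G : Type*} [Field K] [StarRing K] [Finite K] [Group G] [Finite G]
  [DistribMulAction G (K × K)] [FaithfulSMul G (K × K)] {p : ℕ} [Fact p.Prime] [CharP K p]
  {H R : Subgroup G} {g r : G}

namespace Q1

/-- coordinates on the orthogonal complement of `(b0, 0)` -/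
def cb (b0 s b3 α β γ : K) : K × K := (α * b0 + β * (s * b0) + γ * b3, γ * (s * b0))

/-- the action of `h` on the orthogonal complement of `(b0, 0)` and on the quotient -/
structure Ac (H : Subgroup G) (b0 s b3 : K) (h : G) (m n k l : K) : Prop where
  mem : h ∈ H
  fm : star m = m
  fn : star n = n
  fk : star k = k
  fl : star l = l
  act : ∃ a c, star a = a ∧ star c = c ∧ ∀ α β γ, star α = α → star β = β → star γ = γ →
    h • cb b0 s b3 α β γ = cb b0 s b3 (α + a * β + c * γ) (m * β + n * γ) (k * β + l * γ)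
  tau : ∀ y : K × K, be (h • y) (b0, 0) = be y (b0, 0)

variable {b0 s b3 : K} {h h' : G} {m n k l m' n' k' l' : K}

theorem Ac.mul (A : Ac H b0 s b3 h m n k l) (B : Ac H b0 s b3 h' m' n' k' l') :
    Ac H b0 s b3 (h * h') (m * m' + n * k') (m * n' + n * l') (k * m' + l * k') (k * n' + l * l') := by
  obtain ⟨a, c, ha, hc, e⟩ := A.act
  obtain ⟨a', c', ha', hc', e'⟩ := B.act
  have := A.fm; have := A.fn; have := A.fk; have := A.fl
  have := B.fm; have := B.fn; have := B.fk; have := B.fl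
  refine ⟨mul_mem A.mem B.mem, by simp [*, mul_comm], by simp [*, mul_comm], by simp [*, mul_comm],
    by simp [*, mul_comm], ⟨a' + a * m' + c * k', c' + a * n' + c * l', by simp [*, mul_comm],
      by simp [*, mul_comm], fun α β γ h1 h2 h3 => ?_⟩, fun y => by rw [mul_smul, A.tau, B.tau]⟩
  rw [mul_smul, e' α β γ h1 h2 h3, e _ _ _ (by simp [*, mul_comm]) (by simp [*, mul_comm])
    (by simp [*, mul_comm])]
  congr 1 <;> ring

theorem ac_r (o : OQ K p H R) (b0 s b3 : K) {e : K} (he : star e = e) : ∃ r, Ac H b0 s b3 r 1 e 0 1 := by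
  obtain ⟨r, hr, a⟩ := o.ex e he
  refine ⟨r, o.syl.le hr, star_one _, he, star_zero _, star_one _, ⟨0, 0, star_zero _, star_zero _,
    fun α β γ _ _ _ => ?_⟩, fun y => by simp [a, be]⟩
  rw [a]
  ext <;> simp only [cb] <;> ring

theorem hM (p : ℕ) [CharP K p] : ∃ n, ∀ x : K × K, p ^ n • x = 0 :=
  ⟨1, fun x => by ext <;> simp [nsmul_eq_mul]⟩

theorem sb_bot (g : G) : g ∈ sb G (⊥ : AddSubgroup (K × K)) := fun x => by
  rw [AddSubgroup.mem_bot, AddSubgroup.mem_bot, smul_eq_zero_iff_eq]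

theorem ax_cb (t2 : (2 : K) ≠ 0) (hb : b0 ≠ 0) (s0 : s ≠ 0) (hs : star s = -s) {y : K × K} (hy : y ∈ ax K) :
    ∃ α β, star α = α ∧ star β = β ∧ y = cb b0 s b3 α β 0 := by
  refine ⟨(y.1 / b0 + star (y.1 / b0)) / 2, (y.1 / b0 - star (y.1 / b0)) / (2 * s), ?_, ?_, ?_⟩
  · rw [star_div₀, star_add, star_star, star_ofNat, add_comm]
  · rw [star_div₀, star_sub, star_star, star_mul', star_ofNat, hs]
    field_simp
    ring
  · ext
    · simp only [cb]; field_simp; ring
    · simpa [cb] using mem_ax.1 hy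

theorem Ac.sb (A : Ac H b0 s b3 h m n 0 l) (t2 : (2 : K) ≠ 0) (hb : b0 ≠ 0) (s0 : s ≠ 0) (hs : star s = -s) :
    h ∈ sb G (ax K) := mem_sb fun y hy => by
  obtain ⟨α, β, h1, h2, rfl⟩ := ax_cb (b3 := b3) t2 hb s0 hs hy
  obtain ⟨a, c, -, -, e⟩ := A.act
  rw [e _ _ _ h1 h2 (star_zero _)]
  simp [mem_ax, cb]

theorem fin (o : OQ K p H R) (t2 : (2 : K) ≠ 0) (hb : b0 ≠ 0) (s0 : s ≠ 0) (hs : star s = -s)
    (A : Ac H b0 s b3 h m n 0 l) (hl : m * l = 1) : m ^ 2 = 1 := by
  obtain ⟨r, hr, a⟩ := o.ex 1 (star_one _)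
  obtain ⟨e, he, a'⟩ := o.act _ (conj_mem_U (hM p) o.syl o.le A.mem (sb_bot h) (A.sb t2 hb s0 hs) hr)
  have k : ∀ y : K × K, h • ((y.2, 0) : K × K) = (e * (h • y).2, 0) := fun y => by
    have := a' (h • y)
    rw [mul_smul, inv_smul_smul, mul_smul, a, show ((y.1 + 1 * y.2, y.2) : K × K) = y + (y.2, 0) by
      ext <;> simp,
      smul_add, show ((((h • y).1 + e * (h • y).2, (h • y).2)) : K × K) = h • y + (e * (h • y).2, 0) by
      ext <;> simp]
      at this
    exact add_left_cancel this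
  obtain ⟨a, c, ha, -, f⟩ := A.act
  have k1 := k (cb b0 s b3 0 0 1)
  rw [f 0 0 1 (star_zero _) (star_zero _) (star_one _), show (((cb b0 s b3 0 0 1).2, 0) : K × K) =
    cb b0 s b3 0 1 0 by simp [cb], f 0 1 0 (star_zero _) (star_one _) (star_zero _)] at k1
  have k2 := k (0, b0)
  rw [show ((((0, b0) : K × K).2, 0) : K × K) = cb b0 s b3 1 0 0 by simp [cb],
    f 1 0 0 (star_one _) (star_zero _) (star_zero _)] at k2
  have k3 := A.tau (0, b0)
  have e1 := congrArg Prod.fst k1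
  have e2 := congrArg Prod.fst k2
  simp only [cb, be, mul_zero, mul_one, add_zero, zero_add, zero_mul, one_mul, star_zero, sub_zero] at e1 e2 k3
  have e3 := congrArg star e2
  rw [star_mul', he] at e3
  have sb0 : star b0 ≠ 0 := star_ne_zero.2 hb
  have e4 : e = 1 := by
    refine mul_right_cancel₀ (mul_ne_zero t2 (mul_ne_zero hb sb0)) ?_
    linear_combination -e * k3 - star b0 * e2 - b0 * e3
  have e5 : a = (l - m) * s := mul_right_cancel₀ hb (by rw [e4] at e1; linear_combination e1)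
  have e6 := congrArg star e5
  rw [ha, star_mul', star_sub, A.fl, A.fm, hs] at e6
  have e7 : l = m := sub_eq_zero.1 (mul_right_cancel₀ (mul_ne_zero t2 s0) (by linear_combination e6 - e5))
  rw [← hl, e7, pow_two]

end Q1

open Q1 in
theorem OQ.trans (hs : ∃ e : K, star e ≠ e) (o : OQ K p H R) (h2 : p ≠ 2) (h3 : ∃ e : K, star e = e ∧ e ≠ 0 ∧ e ^ 2 ≠ 1)
    (hg : g ∈ H) {b : K} (h0 : b ≠ 0) (h : (g • ((b, 0) : K × K)).2 = 0) : g ∈ sb G (ax K) := by
  by_contra hn
  have t2 : (2 : K) ≠ 0 := fun e => h2 ((Nat.prime_dvd_prime_iff_eq Fact.out Nat.prime_two).1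
    ((CharP.cast_eq_zero_iff K p 2).1 (by exact_mod_cast e)))
  obtain ⟨s, s0, ss⟩ : ∃ s : K, s ≠ 0 ∧ star s = -s := by
    obtain ⟨e, he⟩ := hs
    exact ⟨e - star e, fun k => he (sub_eq_zero.1 k).symm, by rw [star_sub, star_star, neg_sub]⟩
  obtain ⟨b0, e0⟩ : ∃ b0, g • ((b, 0) : K × K) = (b0, 0) := ⟨_, Prod.ext rfl h⟩
  have hb : b0 ≠ 0 := fun e => h0 (congrArg Prod.fst (smul_eq_zero_iff_eq g |>.1 (e0.trans (by rw [e]; rfl))))
  have sb0 : star b0 ≠ 0 := star_ne_zero.2 hb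
  have orth : ∀ c c' : K, be (g • ((c, 0) : K × K)) (g • ((c', 0) : K × K)) = 0 := fun c c' =>
    (o.be0 hg).2 (by simp [be])
  have fx : ∀ c : K, star ((g • ((c, 0) : K × K)).2 / (s * b0)) = (g • ((c, 0) : K × K)).2 / (s * b0) :=
    fun c => by
      have := orth c b
      rw [e0] at this
      simp only [be, zero_mul, star_zero, add_zero, sub_zero] at this
      rw [star_div₀, star_mul', ss]
      field_simp
      linear_combination -this
  obtain ⟨c3, b3, e3⟩ : ∃ c3 b3 : K, g • ((c3, 0) : K × K) = (b3, s * b0) := by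
    obtain ⟨⟨c, t⟩, hx, hx'⟩ := exists_of_not_sb hn
    obtain rfl : t = 0 := hx
    obtain ⟨k', -, e⟩ := o.semi hs hg (k := ((g • ((c, 0) : K × K)).2 / (s * b0))⁻¹) (by rw [star_inv₀, fx])
    refine ⟨k' * c, _, Prod.ext rfl ?_⟩
    have := congrArg Prod.snd (e (c, 0))
    rw [Prod.smul_mk, smul_eq_mul, smul_zero] at this
    have n : (g • ((c, 0) : K × K)).2 ≠ 0 := hx'
    rw [this, Prod.smul_snd, smul_eq_mul]
    field_simp
  have LL : ∀ c : K, ∃ α, star α = α ∧
      g • ((c, 0) : K × K) = cb b0 s b3 α 0 ((g • ((c, 0) : K × K)).2 / (s * b0)) := fun c => by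
    have k1 := orth c c3
    have k2 := fx c
    rw [e3] at k1
    generalize g • ((c, 0) : K × K) = y at k1 k2
    obtain ⟨γ, hγ⟩ : ∃ γ, γ = y.2 / (s * b0) := ⟨_, rfl⟩
    rw [← hγ] at k2 ⊢
    have e2 : y.2 = γ * (s * b0) := by rw [hγ]; field_simp
    refine ⟨(y.1 - γ * b3) / b0, ?_, Prod.ext (by simp only [cb]; field_simp; ring) e2⟩
    simp only [be, e2, star_mul', k2, ss] at k1
    rw [star_div₀, star_sub, star_mul', k2, div_eq_div_iff sb0 hb]
    exact mul_left_cancel₀ s0 (by linear_combination -k1)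
  obtain ⟨t', ht'⟩ : ∃ t', t' = (g⁻¹ • ((s * b0, 0) : K × K)).2 := ⟨_, rfl⟩
  have X : ∀ e, star e = e → ∃ r ∈ R, (∀ v : K × K, r • v = (v.1 + e * v.2, v.2)) ∧
      Ac H b0 s b3 (g * r * g⁻¹) 1 0 ((g • ((e * t', 0) : K × K)).2 / (s * b0)) 1 := fun e he => by
    obtain ⟨r, hr, a⟩ := o.ex e he
    have k : ∀ y : K × K, (g * r * g⁻¹) • y = y + g • ((e * (g⁻¹ • y).2, 0) : K × K) := fun y => by
      rw [mul_smul, mul_smul, a, ← smul_inv_smul g y, inv_smul_smul, ← smul_add]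
      congr 1
      ext <;> simp
    have f1 : (g * r * g⁻¹) • ((b0, 0) : K × K) = (b0, 0) := by
      rw [k, ← e0, inv_smul_smul]; simp; exact smul_zero g
    have f3 : (g * r * g⁻¹) • ((b3, s * b0) : K × K) = (b3, s * b0) := by
      rw [k, ← e3, inv_smul_smul]; simp; exact smul_zero g
    obtain ⟨α0, h1, f2⟩ := LL (e * t')
    refine ⟨r, hr, a, mul_mem (mul_mem hg (o.syl.le hr)) (inv_mem hg), star_one _, star_zero _, fx _, star_one _,
      ⟨α0, 0, h1, star_zero _, fun α β γ h1 h2 h3 => ?_⟩, fun y => ?_⟩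
    · generalize (g • ((e * t', 0) : K × K)).2 / (s * b0) = f at f2
      rw [show cb b0 s b3 α β γ = α • ((b0, 0) : K × K) + β • ((s * b0, 0) : K × K) + γ • ((b3, s * b0) : K × K) by
        ext <;> simp [cb], smul_add, smul_add, o.lin hs hg hr h1, o.lin hs hg hr h2, o.lin hs hg hr h3, f1, f3,
        k, ← ht', f2]
      ext <;> simp [cb] <;> ring
    · have := orth (e * (g⁻¹ • y).2) b
      rw [e0] at this
      rw [k]
      simp only [be, Prod.snd_add, Prod.fst_add, star_add] at this ⊢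
      linear_combination this
  have Z : ∀ e, star e = e → (g • ((e * t', 0) : K × K)).2 = 0 → e = 0 := fun e he k => by
    obtain ⟨r, hr, a, A⟩ := X e he
    rw [k, zero_div] at A
    have m := conj_mem_of_sb (h := g⁻¹) (hM p) o.syl o.le (inv_mem hg) hr (sb_bot _)
      (by rw [inv_inv]; exact A.sb t2 hb s0 ss)
    rw [inv_inv] at m
    obtain ⟨e', -, a'⟩ := o.act _ m
    have k1 := a' (b3, s * b0)
    rw [← e3, mul_smul, inv_smul_smul, mul_smul, a, mul_zero, add_zero, e3] at k1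
    have k2 : e' = 0 := by simpa [s0, hb] using congrArg Prod.fst k1
    have k3 := a' (g • ((0, 1) : K × K))
    rw [k2, zero_mul, add_zero, mul_smul, inv_smul_smul, mul_smul, a] at k3
    simpa using congrArg Prod.fst (smul_left_cancel g k3)
  let φ : {e : K // star e = e} → {e : K // star e = e} := fun e => ⟨_, fx (e * t')⟩
  have inj : Function.Injective φ := fun e e' k => by
    have k' := congrArg Subtype.val k
    simp only [φ, div_left_inj' (mul_ne_zero s0 hb)] at k'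
    refine Subtype.ext (sub_eq_zero.1 (Z _ (by rw [star_sub, e.2, e'.2]) ?_))
    rw [show (((e.1 - e'.1) * t', 0) : K × K) = (e.1 * t', 0) - (e'.1 * t', 0) by ext <;> simp [sub_mul],
      smul_sub, Prod.snd_sub, k', sub_self]
  have Y : ∀ f, star f = f → ∃ x, Ac H b0 s b3 x 1 0 f 1 := fun f hf => by
    obtain ⟨e, he⟩ := Finite.surjective_of_injective inj ⟨f, hf⟩
    obtain ⟨r, -, -, A⟩ := X e e.2
    have he' : (g • ((e.1 * t', 0) : K × K)).2 / (s * b0) = f := congrArg Subtype.val he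
    rw [he'] at A
    exact ⟨_, A⟩
  have Wl : ∀ l, star l = l → l ≠ 0 → ∃ w, Ac H b0 s b3 w 0 l (-l⁻¹) 0 := fun l hl l0 => by
    obtain ⟨r, A⟩ := ac_r o b0 s b3 hl
    obtain ⟨x, B⟩ := Y (-l⁻¹) (by rw [star_neg, star_inv₀, hl])
    refine ⟨r * x * r, ?_⟩
    convert (A.mul B).mul A using 1 <;> field_simp <;> ring
  obtain ⟨l, hl, l0, l1⟩ := h3
  obtain ⟨w, A⟩ := Wl l hl l0
  obtain ⟨w', B⟩ := Wl (-1) (by simp) (by simp)
  have C : Ac H b0 s b3 (w * w') l 0 0 l⁻¹ := by
    convert A.mul B using 1 <;> simp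
  exact l1 (fin o t2 hb s0 ss C (mul_inv_cancel₀ l0))

end U4F
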