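import Mathlib
import Cfsg.Agent.Base
import Cfsg.Agent.Lib.U4F.Q1

set_option autoImplicit false

namespace U4F

open Subgroup H93.SX
open H68 (SylowIn)
open U5F (qq)
open scoped commutatorElement

universe u v

variable {K G : Type*} [Field K] [StarRing K] [Finite K] [Group G] [Finite G]
  [DistribMulAction G (K × K)] [FaithfulSMul G (K × K)] {p : ℕ} [Fact p.Prime] [CharP K p]
  {H R : Subgroup G} {g r : G}

namespace Q2

/-- `g` maps the axis to the graph of `t ↦ e t + m t̄` -/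
def Ms (H : Subgroup G) (m : K) : Prop := ∃ g ∈ H, g ∉ sb G (ax K) ∧ ∃ e : K, star e = e ∧
  ∀ b : K, (g • ((b, 0) : K × K)).1 = e * (g • ((b, 0) : K × K)).2 + m * star (g • ((b, 0) : K × K)).2

theorem surj (hs : ∃ e : K, star e ≠ e) (o : OQ K p H R) (h2 : p ≠ 2)
    (h3 : ∃ e : K, star e = e ∧ e ≠ 0 ∧ e ^ 2 ≠ 1) (hg : g ∈ H) (hn : g ∉ sb G (ax K)) (t : K) :
    ∃ b : K, (g • ((b, 0) : K × K)).2 = t := by
  refine Finite.injective_iff_surjective.1 (fun a b e => ?_) t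
  by_contra hab
  refine hn (o.trans hs h2 h3 hg (sub_ne_zero.2 hab) ?_)
  have : ((a - b, 0) : K × K) = (a, 0) - (b, 0) := by simp
  rw [this, smul_sub, Prod.snd_sub]
  exact sub_eq_zero.2 e

theorem shape (hs : ∃ e : K, star e ≠ e) (o : OQ K p H R) (h2 : p ≠ 2)
    (h3 : ∃ e : K, star e = e ∧ e ≠ 0 ∧ e ^ 2 ≠ 1) (hg : g ∈ H) (hn : g ∉ sb G (ax K)) :
    ∃ e m : K, star e = e ∧ ∀ b : K, (g • ((b, 0) : K × K)).1 =
      e * (g • ((b, 0) : K × K)).2 + m * star (g • ((b, 0) : K × K)).2 := by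
  obtain ⟨θ, hθ⟩ := id hs
  obtain ⟨b1, h1⟩ := surj hs o h2 h3 hg hn 1
  obtain ⟨b2, h2⟩ := surj hs o h2 h3 hg hn θ
  have hb : ∀ a b : K, be (g • ((a, 0) : K × K)) (g • ((b, 0) : K × K)) = 0 := fun a b =>
    (o.be0 hg).2 (by simp [be])
  have h0 : θ - star θ ≠ 0 := sub_ne_zero.2 hθ.symm
  have h0' : star θ - θ ≠ 0 := sub_ne_zero.2 hθ
  have e0 := hb b1 b2
  simp only [be, h1, h2, star_one] at e0
  refine ⟨(θ * star (g • ((b1, 0) : K × K)).1 - star (g • ((b2, 0) : K × K)).1) / (θ - star θ),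
    (θ * (g • ((b1, 0) : K × K)).1 - (g • ((b2, 0) : K × K)).1) / (θ - star θ), ?_, fun b => ?_⟩
  · simp only [star_div₀, star_sub, star_mul', star_star]
    rw [div_eq_div_iff h0' h0]
    linear_combination (star θ - θ) * e0
  · have e1 := hb b1 b
    have e2 := hb b2 b
    simp only [be, h1, h2, star_one] at e1 e2
    field_simp
    linear_combination θ * e1 - e2

theorem inj (hs : ∃ e : K, star e ≠ e) (o : OQ K p H R) (h2 : p ≠ 2)
    (h3 : ∃ e : K, star e = e ∧ e ≠ 0 ∧ e ^ 2 ≠ 1) {m m' : K} (hm : Ms H m) (hm' : Ms H m')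
    (e0 : m - star m = m' - star m') : m = m' := by
  obtain ⟨g, hg, hn, e, he, h⟩ := hm
  obtain ⟨g', hg', hn', e', he', h'⟩ := hm'
  obtain ⟨b1, h1⟩ := surj hs o h2 h3 hg hn 1
  obtain ⟨b2, h1'⟩ := surj hs o h2 h3 hg' hn' 1
  obtain ⟨r, hr, hr'⟩ := o.ex (e' + m' - (e + m)) (by
    simp only [star_sub, star_add, he, he']; linear_combination e0)
  have hb : b1 ≠ 0 := by
    rintro rfl
    rw [show ((0, 0) : K × K) = 0 from rfl, smul_zero] at h1
    exact zero_ne_one h1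
  have e1 : r • g • ((b1, 0) : K × K) = g' • ((b2, 0) : K × K) := by
    rw [hr']
    refine Prod.ext ?_ (h1.trans h1'.symm)
    simp only [h, h', h1, h1', star_one]
    ring
  have hk := o.trans hs h2 h3 (mul_mem (inv_mem hg') (mul_mem (o.syl.1 hr) hg)) hb (by
    rw [mul_smul, mul_smul, e1, inv_smul_smul])
  obtain ⟨θ, hθ⟩ := id hs
  obtain ⟨b, hb⟩ := surj hs o h2 h3 hg hn θ
  have e2 : ((g'⁻¹ * (r * g)) • ((b, 0) : K × K)).2 = 0 := sb_mem hk (show ((b, 0) : K × K) ∈ ax K from rfl)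
  have e3 : r • g • ((b, 0) : K × K) = g' • ((((g'⁻¹ * (r * g)) • ((b, 0) : K × K)).1, 0) : K × K) := by
    rw [show ((((g'⁻¹ * (r * g)) • ((b, 0) : K × K)).1, 0) : K × K) = (g'⁻¹ * (r * g)) • ((b, 0) : K × K)
      from Prod.ext rfl e2.symm, mul_smul, mul_smul, smul_inv_smul]
  have e4 := h' ((g'⁻¹ * (r * g)) • ((b, 0) : K × K)).1
  rw [← e3, hr'] at e4
  simp only [h, hb] at e4
  exact mul_right_cancel₀ (sub_ne_zero.2 hθ) (by linear_combination e4)

omit [Finite G] [FaithfulSMul G (K × K)] [Finite K] in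
theorem torM (tor : ∀ m : K, m ≠ 0 → ∃ h ∈ H, ∀ v : K × K, h • v = (m / star m * v.1, m ^ 2 * v.2))
    {m μ : K} (hm : Ms H m) (h0 : μ ≠ 0) : Ms H (m * (μ / star μ ^ 3)) := by
  obtain ⟨g, hg, hn, e, he, h⟩ := hm
  obtain ⟨k, hk, hk'⟩ := tor μ h0
  have h1 := star_ne_zero.2 h0
  refine ⟨k * g, mul_mem hk hg, fun hc => hn ?_, e / (μ * star μ), ?_, fun b => ?_⟩
  · intro x
    rw [← hc x, mul_smul, hk']
    exact (mul_eq_zero_iff_left (pow_ne_zero 2 h0)).symm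
  · simp only [star_div₀, star_mul', star_star, he, mul_comm]
  · simp only [mul_smul, hk', h, star_mul', _root_.star_pow]
    field_simp

end Q2

theorem OQ.odd (hs : ∃ e : K, star e ≠ e) (o : OQ K p H R) (h2 : p ≠ 2) (h3 : ∃ e : K, star e = e ∧ e ≠ 0 ∧ e ^ 2 ≠ 1)
    (tor : ∀ m : K, m ≠ 0 → ∃ h ∈ H, ∀ v : K × K, h • v = (m / star m * v.1, m ^ 2 * v.2))
    (hg : g ∈ H) : g ∈ sb G (ax K) ∨ ∃ e : K, star e = e ∧
      ∀ b : K, (g • ((b, 0) : K × K)).1 = e * (g • ((b, 0) : K × K)).2 := by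
  by_contra hc
  push Not at hc
  obtain ⟨e, m, he, h⟩ := Q2.shape hs o h2 h3 hg hc.1
  have hm : Q2.Ms H m := ⟨g, hg, hc.1, e, he, h⟩
  have m0 : m ≠ 0 := by
    rintro rfl
    obtain ⟨b, hb⟩ := hc.2 e he
    exact hb (by rw [h, zero_mul, add_zero])
  have hq : 3 < qq K := by
    obtain ⟨e, he, e0, e1⟩ := h3
    have h1 := U5F.one_lt_qq (K := K)
    have h2 := star_pow hs e
    rw [he] at h2
    by_contra hc
    rcases (by omega : qq K = 2 ∨ qq K = 3) with h | h <;> rw [h] at h2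
    · exact e1 (by rw [mul_left_cancel₀ e0 (show e * e = e * 1 by linear_combination -h2)]; ring)
    · exact e1 (mul_left_cancel₀ e0 (by linear_combination -h2))
  let χ : Kˣ →* Kˣ := MonoidHom.mk' (fun μ => Units.mk0 ((μ : K) / star (μ : K) ^ 3)
    (div_ne_zero μ.ne_zero (pow_ne_zero 3 (star_ne_zero.2 μ.ne_zero)))) fun a b => by
      ext
      simp only [Units.val_mk0, Units.val_mul, star_mul', mul_pow, div_mul_div_comm]
  have hχ : ∀ μ, (χ μ : K) = (μ : K) / star (μ : K) ^ 3 := fun _ => rfl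
  have c1 : Nat.card χ.range ≤ qq K := by
    rw [← U5F.card_skew hs]
    refine Nat.card_le_card_of_injective (fun x => ⟨m * x.1 - star (m * x.1), by simp⟩) ?_
    rintro ⟨_, a, rfl⟩ ⟨_, b, rfl⟩ e
    have := Q2.inj hs o h2 h3 (Q2.torM tor hm a.ne_zero) (Q2.torM tor hm b.ne_zero)
      (congrArg Subtype.val e)
    exact Subtype.ext (Units.ext (mul_left_cancel₀ m0 this))
  have : NeZero (qq K - 3) := ⟨by omega⟩
  have c2 : Nat.card χ.ker ≤ qq K - 3 := by
    refine (Subgroup.card_le_of_le (K := rootsOfUnity (qq K - 3) K) fun μ hμ => ?_).trans ?_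
    · have e1 : (μ : K) / star (μ : K) ^ 3 = 1 := by rw [← hχ, MonoidHom.mem_ker.1 hμ, Units.val_one]
      have e2 := congrArg star (eq_of_div_eq_one e1)
      rw [_root_.star_pow, star_star, star_pow hs] at e2
      rw [mem_rootsOfUnity']
      refine mul_right_cancel₀ (pow_ne_zero 3 μ.ne_zero) ?_
      rw [← pow_add, Nat.sub_add_cancel hq.le, e2, one_mul]
    · exact card_rootsOfUnity K _
  have c3 := χ.ker.card_mul_index
  rw [Subgroup.index_ker, Nat.card_units, U5F.card_K hs] at c3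
  have c4 := Nat.mul_le_mul c2 c1
  rw [c3] at c4
  obtain ⟨n, hn⟩ := Nat.exists_eq_add_of_lt hq
  rw [hn, show 3 + n + 1 - 3 = n + 1 by omega] at c4
  have : (3 + n + 1) ^ 2 = (n + 1) * (3 + n + 1) + 3 * (3 + n + 1) := by ring
  omega

end U4F
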