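import Mathlib
import Cfsg.Agent.Base
import Cfsg.Agent.Lib.U4F.SM

set_option autoImplicit false

namespace U4F

open Subgroup H93.SX
open H68 (SylowIn)
open U5F (qq)
open scoped commutatorElement

universe u v

variable {K G : Type*} [Field K] [StarRing K] [Finite K] [Group G] [Finite G]
  [DistribMulAction G (K × K)] [FaithfulSMul G (K × K)] {p : ℕ} [Fact p.Prime] [CharP K p]
  {H R : Subgroup G} {g r : G}

theorem OQ.even (hs : ∃ e : K, star e ≠ e) (o : OQ K p H R) (h2 : p = 2) (hq : ∀ g ∈ H, ∀ v : K × K, qf v = 0 → qf (g • v) = 0)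
    (hg : g ∈ H) : g ∈ sb G (ax K) ∨ ∃ e : K, star e = e ∧
      ∀ b : K, (g • ((b, 0) : K × K)).1 = e * (g • ((b, 0) : K × K)).2 := by
  subst h2
  have two : (2 : K) = 0 := CharTwo.two_eq_zero
  have perp : ∀ v : K × K, g⁻¹ • v ∈ ax K ↔ ∀ w ∈ ax K, be v (g • w) = 0 := fun v => by
    rw [← be_ax hs]
    refine forall₂_congr fun w _ => ?_
    rw [← o.be0 hg, smul_inv_smul]
  have sm : ∀ k : K, star k = k → ∀ v : K × K, g⁻¹ • v ∈ ax K → g⁻¹ • (k • v) ∈ ax K := fun k hk v hv =>
    (perp _).2 fun w hw => by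
      have := (perp v).1 hv w hw
      simp only [be, Prod.smul_fst, Prod.smul_snd, smul_eq_mul, star_mul', hk] at this ⊢
      linear_combination k * this
  have b0 : ∀ v w : K × K, g⁻¹ • v ∈ ax K → g⁻¹ • w ∈ ax K → be v w = 0 := fun v w hv hw => by
    simpa using (perp v).1 hv _ hw
  have q0 : ∀ v : K × K, g⁻¹ • v ∈ ax K → qf v = 0 := fun v hv => by
    have := hq g hg (g⁻¹ • v) (by rw [qf, show (g⁻¹ • v).2 = 0 from hv]; simp)
    rwa [smul_inv_smul] at this
  have mem : ∀ b : K, g⁻¹ • g • ((b, 0) : K × K) ∈ ax K := fun b => by rw [inv_smul_smul]; rfl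
  by_cases hA : ∀ v : K × K, g⁻¹ • v ∈ ax K → v.2 = 0 → v = 0
  · right
    have inj : Function.Injective fun b : K => (g • ((b, 0) : K × K)).2 := fun b b' e => by
      have := hA (g • ((b - b', 0) : K × K)) (mem _) (by
        rw [show ((b - b', 0) : K × K) = (b, 0) - (b', 0) by simp, smul_sub, Prod.snd_sub, sub_eq_zero]
        exact e)
      rw [smul_eq_zero_iff_eq] at this
      exact sub_eq_zero.1 (congrArg Prod.fst this)
    obtain ⟨b1, e1⟩ := Finite.surjective_of_injective inj 1
    have m1 := mem b1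
    have e1' : (g • ((b1, 0) : K × K)).2 = 1 := e1
    generalize g • ((b1, 0) : K × K) = v1 at e1' m1
    have s1 : star v1.1 = v1.1 := by
      have := q0 _ m1
      simp only [qf, e1', star_one] at this
      linear_combination this - v1.1 * two
    refine ⟨v1.1, s1, fun b => ?_⟩
    have m := mem b
    generalize g • ((b, 0) : K × K) = v at m
    by_cases ht : star v.2 = v.2
    · have := hA (v - v.2 • v1) (by rw [smul_sub]; exact sub_mem m (sm _ ht _ m1)) (by simp [e1'])
      have := congrArg Prod.fst this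
      simp only [Prod.fst_sub, Prod.smul_fst, smul_eq_mul, Prod.fst_zero] at this
      linear_combination this
    · have k1 := b0 _ _ m m1
      have k2 := q0 _ m
      simp only [be, qf, e1', s1, star_one] at k1 k2
      refine mul_left_cancel₀ (sub_ne_zero.2 ht) ?_
      linear_combination k2 + v.2 * k1 - (v.2 * v.2 * v1.1 + star v.2 * v.2 * v1.1 - v.2 * v.2 * v1.1) * two
  · left
    push Not at hA
    obtain ⟨v0, m0, t0, n0⟩ := hA
    have n1 : v0.1 ≠ 0 := fun e => n0 (Prod.ext e t0)
    obtain ⟨r, hr, er⟩ := o.ex 1 (star_one K)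
    have k : g⁻¹ * r * g ∈ R := conj_mem_of_sb (p := 2) ⟨1, fun x => by
        ext <;> simp [two]⟩ o.syl o.le hg hr (fun x => by simp [smul_eq_zero_iff_eq]) (mem_sb fun x hx => by
      have m : g⁻¹ • g • x ∈ ax K := by rwa [inv_smul_smul]
      rw [mul_smul, mul_smul]
      generalize g • x = v at m
      have k1 := b0 _ _ m m0
      simp only [be, t0, star_zero] at k1
      have n2 : star v0.1 ≠ 0 := star_ne_zero.2 n1
      have e : r • v = v + (v.2 / v0.1) • v0 := by
        rw [er]; ext <;> simp [t0, n1]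
      rw [e, smul_add]
      refine add_mem m (sm _ ?_ _ m0)
      rw [star_div₀, div_eq_div_iff n2 n1]
      linear_combination k1 - v.2 * star v0.1 * two)
    refine mem_sb fun x hx => ?_
    have := (o.le k).2.1 x hx
    rw [AddSubgroup.mem_bot, sub_eq_zero, mul_smul, mul_smul, inv_smul_eq_iff, er] at this
    simpa [mem_ax] using congrArg Prod.fst this

end U4F
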