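import Mathlib
import Cfsg.Agent.Base
import Cfsg.Agent.Lib.U4F.QE
import Cfsg.Agent.Lib.U4F.Q2
import Cfsg.Agent.Lib.U4F.Cv

set_option autoImplicit false

namespace U4F

open Subgroup H93.SX
open H68 (SylowIn)
open U5F (qq)
open scoped commutatorElement

universe u v

variable {K : Type*} {Γ : Type u} {Γ' : Type v} [Field K] [StarRing K] [Finite K] [Group Γ] [Finite Γ]
  [Group Γ'] [Finite Γ'] {p : ℕ} [Fact p.Prime] [CharP K p] {ι : Uf K →* Γ} {ψ : Uf K →* Γ'}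
  {E : Subgroup (Uf K)} {g : Γ} {k : Γ'} {x y : Uf K} {t n l n' l' : K} {σ σ' : K ≃⋆+* K}

theorem QF.sq_of (hs : ∃ e : K, star e ≠ e) (i : Function.Injective ι)
    (h : ∀ φ ∈ au i (QQ K) cQ ⊤, φ ∈ sb _ (ax K) ∨ ∃ e : K, star e = e ∧
      ∀ b : K, (φ • ((b, 0) : K × K)).1 = e * (φ • ((b, 0) : K × K)).2) : SQ ι := by
  intro g hg
  obtain ⟨φ, a⟩ := (coQ hs i).exists_ac hg
  rcases h φ ⟨g, mem_top g, a⟩ with h1 | ⟨e, he, h1⟩
  · exact Or.inl ((acQ_W i a).1 h1)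
  · refine Or.inr ⟨e, he, fun x hx y c => ?_⟩
    have hq : x ∈ QQ K := hx.2
    have e1 := a.2 x hq y (c.mem i hg hq) c
    have e2 : cQ x = (x.b, 0) := Prod.ext rfl hx.1
    have := h1 x.b
    rw [← e2, e1] at this
    exact this

theorem sq_even (hs : ∃ e : K, star e ≠ e) (F : Cf p ι) (h2 : p = 2) : SQ ι := by
  refine QF.sq_of hs F.inj fun φ hφ => (oqQ hs F).even hs h2 ?_ hφ
  subst h2
  exact oq_qf hs F.inj

theorem sq_odd (hs : ∃ e : K, star e ≠ e) (F : Cf p ι) (h2 : p ≠ 2) (h3 : ∃ e : K, star e = e ∧ e ≠ 0 ∧ e ^ 2 ≠ 1) (T : T2 ι) :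
    SQ ι := by
  refine QF.sq_of hs F.inj fun φ hφ => (oqQ hs F).odd hs h2 h3 (fun m hm => ?_) hφ
  have hm' : star m ≠ 0 := star_ne_zero.2 hm
  obtain ⟨χ, h1, h4⟩ := (aq_iff hs F.inj).1
    ((T m hm).aq F.inj (pow_ne_zero 2 hm) (inv_ne_zero (mul_ne_zero hm hm')))
  refine ⟨χ, h1, fun v => ?_⟩
  rw [h4]
  refine Prod.ext ?_ rfl
  show m ^ 2 * (m * star m)⁻¹ * v.1 = m / star m * v.1
  field_simp

theorem w1_of (hs : ∃ e : K, star e ≠ e) (F : Cf p ι) (S : SQ ι) (h : ¬ nr ι (QQ K) ≤ nr ι (WW K)) : W1 ι := by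
  refine (aq_iff hs F.inj).2 ((oqQ hs F).lq hs ?_ ?_)
  · rintro φ ⟨g, -, a⟩
    rcases S g a.1 with h1 | ⟨e, he, h1⟩
    · exact Or.inl ((acQ_W F.inj a).2 h1)
    · refine Or.inr ⟨e, he, fun b => ?_⟩
      let x : Uf K := ⟨0, 0, b, 0, star_zero K, star_zero K⟩
      have hx : x ∈ WW K := ⟨rfl, rfl⟩
      obtain ⟨y, hy, c⟩ := nr_cj a.1 (show x ∈ QQ K from rfl)
      have e1 : φ • ((b, 0) : K × K) = cQ y := a.2 x rfl y hy c
      rw [e1]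
      exact h1 x hx y c
  · intro hle
    refine h fun g hg => ?_
    obtain ⟨φ, a⟩ := (coQ hs F.inj).exists_ac hg
    exact (acQ_W F.inj a).1 (hle ⟨g, mem_top g, a⟩)

end U4F
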