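import Mathlib
import Cfsg.Agent.Base
import Cfsg.Agent.Lib.U4F.M2
import Cfsg.Agent.Lib.U4F.QF
import Cfsg.Agent.Lib.U4F.E0

set_option autoImplicit false

namespace U4F

open Subgroup H93.SX
open H68 (SylowIn)
open U5F (qq)
open scoped commutatorElement
open H30

universe u v

variable {Γ : Type u} {Γ' : Type v} [Group Γ] [Finite Γ] [Group Γ'] [Finite Γ'] {ι : Uf F4 →* Γ}
  {ψ : Uf F4 →* Γ'} {g : Γ} {t s t' s' : F4}

theorem M3.line : ∀ t u : F4, t ≠ 0 → u * star t = star u * t → u = 0 ∨ u = t := by decide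

theorem M3.conj_mem (r : Uf F4) {x : Uf F4} (hx : x ∈ Xt t) : r * x * r⁻¹ ∈ Xt t := by
  obtain ⟨h1, h2, h3⟩ := mem_Xt.1 hx
  have e1 : (r * x * r⁻¹).t = x.t := by simp
  have e2 : (r * x * r⁻¹).b = x.b - x.t * r.c := by simp [h3]; ring
  have e3 : (r * x * r⁻¹).c = 0 := by simp [h3]
  rw [mem_Xt, e1, e2, e3]
  refine ⟨h1, ?_, rfl⟩
  rw [star_sub, star_mul', Uf.sc]
  linear_combination h2 - r.c * h1

theorem M3.self (r : Uf F4) : ι r ∈ nr ι (Xt t) :=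
  mem_nr fun x hx => ⟨_, M3.conj_mem r hx, Cj.self r x⟩

theorem M3.top (h : Inn ι) : nr ι ⊤ ≤ nr ι (Xt t) := fun g hg =>
  let ⟨r, hr⟩ := h g hg
  mem_nr fun x hx => ⟨_, M3.conj_mem r hx, hr x⟩

theorem M3.le_Q : Xt t ≤ QQ F4 := fun _ hx => hx.2.2

theorem M3.le_E : Xt t ≤ Et t := fun _ hx => hx.1

theorem M3.qw (F : Cf 2 ι) (h : Inn ι) (hQ : g ∈ nr ι (QQ F4)) (hW : g ∈ nr ι (WW F4)) : g ∈ nr ι (Xt t) := by
  obtain ⟨k, hk, e⟩ := seQ.ext F hQ hW (Q_Z hs4 F.inj hQ) nr_bot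
  exact mem_nr_of hQ M3.le_Q fun x hx y hy a => (e x (M3.le_Q hx) y a).mem F.inj (M3.top h hk.2) hx

theorem M3.q (F : Cf 2 ι) (h : Inn ι) (h1 : W1 ι) : nr ι (QQ F4) ≤ nr ι (Xt t) := by
  intro g hg
  rcases sq_even hs4 F rfl g hg with hW | ⟨e, he, hW⟩
  · exact M3.qw F h hg hW
  obtain ⟨w, hw, aw⟩ := h1
  have wX : w ∈ nr ι (Xt t) := by
    refine mem_nr_of hw M3.le_Q fun x hx y hy a => ?_
    have e := aw x (M3.le_Q hx) y hy a
    simp only [cQ, Prod.mk.injEq] at e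
    obtain ⟨h1, h2, h3⟩ := mem_Xt.1 hx
    rw [mem_Xt, e.1, e.2, star_neg]
    exact ⟨h2, by linear_combination -h1, hy⟩
  let r : Uf F4 := ⟨0, 0, 0, e, by simp, he⟩
  have rQ : ι r ∈ nr ι (QQ F4) := le_nr (fun t x _ => seQ.a (comm_W t x)) ⟨r, rfl⟩
  have kQ : w * (ι r * g) ∈ nr ι (QQ F4) := mul_mem hw (mul_mem rQ hg)
  have kW : w * (ι r * g) ∈ nr ι (WW F4) := by
    refine mem_nr fun x hx => ?_
    obtain ⟨y, hy, a⟩ := nr_cj hg (seQ.a hx)
    have hy' : r * y * r⁻¹ ∈ QQ F4 := (Cj.self r y).mem F.inj rQ hy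
    obtain ⟨z, hz, b⟩ := nr_cj hw hy'
    refine ⟨z, ⟨?_, hz⟩, b.trans ((Cj.self r y).trans a)⟩
    have e1 := aw _ hy' z hz b
    simp only [cQ, Prod.mk.injEq] at e1
    have e2 := hW x hx y a
    have e3 : y.c = 0 := hy
    rw [e1.2]
    simp [r, e2, e3]
    ring
  have := M3.qw (t := t) F h kQ kW
  have h2 := mul_mem (inv_mem (M3.self r)) (mul_mem (inv_mem wX) this)
  rwa [inv_mul_cancel_left, inv_mul_cancel_left] at h2

theorem M3.char (ht : t ≠ 0) {x : Uf F4} (hx : x ∈ Et t) :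
    x ∈ Xt t ↔ (∀ y ∈ Et t, ⁅x, y⁆ = 1) ∨ (x ∉ VV F4 ∧ x * x = 1) := by
  have hx' := M3.line t x.t ht hx
  constructor
  · rintro ⟨-, h2, h3⟩
    have hb := M3.line t x.b ht h2
    rcases hx' with e | e
    · refine Or.inl fun y hy => ?_
      have hy' := M3.line t y.t ht hy
      rw [Uf.eq_one]
      refine ⟨Uf.comm_t, ?_, ?_, Uf.comm_c⟩
      · rw [Uf.comm_a, e, h3]
        generalize y.b = b1, y.c = c1, y.t = t1, x.b = b0 at *
        revert ht hb hy'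
        clear * -
        revert t b0 t1 b1 c1
        decide
      · rw [Uf.comm_b, e, h3]; simp
    · refine Or.inr ⟨fun hv => ht (e.symm.trans hv), ?_⟩
      rw [Uf.eq_one, Uf.mul_t, Uf.mul_a, Uf.mul_b, Uf.mul_c, e, h3]
      generalize x.a = a0, x.b = b0 at *
      revert ht hb
      clear * -
      revert t b0 a0
      decide
  · rintro (h | ⟨h1, h2⟩)
    · have e1 := h ⟨t, 0, 0, 0, by simp, by simp⟩ (mul_comm _ _)
      have e2 := h ⟨0, 0, 0, 1, by simp, by simp⟩ (by simp)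
      rw [Uf.eq_one, Uf.comm_a, Uf.comm_b] at e1 e2
      have e3 := e1.2.1
      have e4 := e1.2.2.1
      have e5 := e2.2.2.1
      rw [mem_Xt]
      dsimp only at e3 e4 e5
      generalize x.t = t0, x.b = b0, x.c = c0 at *
      revert ht e3 e4 e5
      clear * -
      revert t b0 t0 c0
      decide
    · rw [Uf.eq_one, Uf.mul_t, Uf.mul_a, Uf.mul_b, Uf.mul_c] at h2
      rw [mem_VV] at h1
      rw [mem_Xt]
      generalize x.t = t0, x.a = a0, x.b = b0, x.c = c0 at *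
      revert ht h1 h2 hx'
      clear * -
      revert t a0 b0 t0 c0
      decide

theorem M3.e (F : Cf 2 ι) (ht : t ≠ 0) : nr ι (Et t) ≤ nr ι (Xt t) := by
  intro g hg
  have hV := Et_V hs4 F.inj ht hg
  have one : Cj ι g 1 1 := by simp [Cj]
  refine mem_nr_of hg M3.le_E fun x hx y hy a => (M3.char ht hy).2 ?_
  rcases (M3.char ht (M3.le_E hx)).1 hx with h | ⟨h1, h2⟩
  · refine Or.inl fun z hz => ?_
    obtain ⟨w, hw, b⟩ := nr_cj' hg hz
    have := a.comm b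
    rw [h w hw] at this
    exact this.uniq F.inj one
  · refine Or.inr ⟨fun hv => h1 (a.mem' F.inj hV hv), ?_⟩
    have := a.mul a
    rw [h2] at this
    exact this.uniq F.inj one

theorem Mv.two (F : Cf 2 ι) (hc : (Cfsg.groupFusionSystem ι.range).core = ⊥) (h : Mv ι t s) :
    ∃ t' s', t' ≠ t ∧ Mv ι t' s' := by
  by_contra hn
  have ht : t ≠ 0 := h.1
  have hi := h.inn F
  have e : Xt t = ⊥ := eq_bot F hc (M3.top hi) fun E hE => by
    rcases es_cases hs4 F hE with rfl | rfl | ⟨-, u, hu, rfl⟩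
    · exact ⟨M3.le_Q, M3.q F hi (w1_of hs4 F (sq_even hs4 F rfl) (not_QW hs4 F hc))⟩
    · exact (h.not_es F hE).elim
    · obtain ⟨s', h'⟩ := es_mv F hu hE
      have : u = t := by
        by_contra hne
        exact hn ⟨u, s', hne, h'⟩
      subst this
      exact ⟨M3.le_E, M3.e F hu⟩
  have h1 : (⟨t, 0, 0, 0, by simp, by simp⟩ : Uf F4) ∈ Xt t := ⟨mul_comm _ _, by simp, rfl⟩
  rw [e, mem_bot, Uf.eq_one] at h1
  exact ht h1.1

end U4F
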