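import Mathlib
import Cfsg.Agent.Base
import Cfsg.Agent.Lib.U4F.M2

set_option autoImplicit false

namespace U4F

open Subgroup H93.SX
open H68 (SylowIn)
open U5F (qq)
open scoped commutatorElement
open H30

universe u v

variable {Γ : Type u} {Γ' : Type v} [Group Γ] [Finite Γ] [Group Γ'] [Finite Γ'] {ι : Uf F4 →* Γ}
  {ψ : Uf F4 →* Γ'} {g : Γ} {t s t' s' : F4}

namespace M4

theorem cV_inj {x y : Uf F4} (hx : x ∈ VV F4) (hy : y ∈ VV F4) (h : cV x = cV y) : x = y :=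
  Uf.ext ((mem_VV.1 hx).trans (mem_VV.1 hy).symm) (congrArg Hm.a h) (congrArg Hm.b h) (congrArg Hm.c h)

theorem conj_V (m : Uf F4) {x : Uf F4} (hx : x ∈ VV F4) : m * x * m⁻¹ ∈ VV F4 := by
  simp [mem_VV.1 hx]

theorem cV_conj (m : Uf F4) {x : Uf F4} (hx : x ∈ VV F4) : cV (m * x * m⁻¹) = sh m.t (cV x) := by
  have := mem_VV.1 hx
  ext <;> simp [cV, sh, this] <;> ring

theorem et_cases (ht : t ≠ 0) {x : Uf F4} (hx : x ∈ Et t) : x.t = 0 ∨ x.t = t := by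
  have : ∀ t r : F4, t ≠ 0 → r * star t = star r * t → r = 0 ∨ r = t := by decide
  exact this _ _ ht hx

theorem sh_zero (v : Hm F4) : sh 0 v = v := by ext <;> simp [sh]

theorem V_le : VV F4 ≤ Et t := fun x hx => by simp [mem_VV.1 hx]

omit [Finite Γ] in
theorem av_cj (i : Function.Injective ι) {f : Hm F4 → Hm F4} (a : AV ι g f) {x y : Uf F4}
    (hx : x ∈ VV F4) (hy : y ∈ VV F4) (h : cV y = f (cV x)) : Cj ι g x y := by
  obtain ⟨z, hz, c⟩ := nr_cj a.1 hx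
  rwa [cV_inj hy hz (h.trans (a.2 x hx z hz c).symm)]

theorem av_self (i : Function.Injective ι) (m : Uf F4) : AV ι (ι m) (sh m.t) :=
  ⟨self_nr fun _ _ => Uf.comm_t, fun x hx y _ c => by
    rw [c.uniq i (Cj.self m x), cV_conj m hx]⟩

omit [Finite Γ] in
theorem av_mul {f f' : Hm F4 → Hm F4} {k : Γ} (a : AV ι g f) (b : AV ι k f') :
    AV ι (g * k) fun v => f (f' v) :=
  ⟨mul_mem a.1 b.1, fun x hx y hy e => by
    obtain ⟨z, hz, e'⟩ := nr_cj b.1 hx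
    show _ = f (f' _)
    rw [← b.2 x hx z hz e', a.2 z hz y hy (by simpa using e.trans e'.symm)]⟩

/-- the shear element -/
def ut (t : F4) : Uf F4 := ⟨t, 0, 0, 0, star_zero _, star_zero _⟩

theorem ut_mem : ut t ∈ Et t := by simp [ut, mul_comm]

theorem ut_sq : ut t * ut t = 1 := by
  have : ∀ t : F4, t + t = 0 := by decide
  ext <;> simp [ut, this]

theorem img_t (i : Function.Injective ι) (ht : t ≠ 0) (hg : g ∈ nr ι (Et t)) {y : Uf F4}
    (c : Cj ι g (ut t) y) : y.t = t := by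
  refine (et_cases ht (c.mem i hg ut_mem)).resolve_left fun h => ht ?_
  exact mem_VV.1 (c.mem' i (Et_V hs4 i ht hg) (mem_VV.2 h))

theorem exists_r (ht : t ≠ 0) {y y' : Uf F4} (h : y.t = t) (h' : y'.t = t) (e : y * y = 1)
    (e' : y' * y' = 1) : ∃ r ∈ VV F4, r * y' * r⁻¹ = y := by
  have k1 : ∀ t a b c : F4, t ≠ 0 → a + a + t * star b + star t * b + t * star t * c = 0 →
      b + b + t * c = 0 → c = 0 ∧ t * star b + star t * b = 0 := by decide +kernel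
  have k2 : ∀ t a b a' b' : F4, t ≠ 0 → star a = a → star a' = a' → t * star b + star t * b = 0 →
      t * star b' + star t * b' = 0 → ∃ rb rc : F4, star rc = rc ∧ b = b' - t * rc ∧
        a = a' - (t * star rb + star t * rb + t * star t * rc) := by decide +kernel
  have h1 := k1 t y.a y.b y.c ht (by simpa [h] using congrArg Uf.a e) (by simpa [h] using congrArg Uf.b e)
  have h2 := k1 t y'.a y'.b y'.c ht (by simpa [h'] using congrArg Uf.a e')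
    (by simpa [h'] using congrArg Uf.b e')
  obtain ⟨rb, rc, h3, h4, h5⟩ := k2 t y.a y.b y'.a y'.b ht y.ha y'.ha h1.2 h2.2
  refine ⟨⟨0, 0, rb, rc, star_zero _, h3⟩, rfl, ?_⟩
  ext
  · simp [h, h']
  · simp [h', h5]; ring
  · simp [h', h4]; ring
  · simp [h1.1, h2.1]

end M4

open M4 H2 H90 H91 H93.R3 Cfsg Cfsg.FusionSystem in
theorem ext_E (F : Cf 2 ι) (ht : t ≠ 0) {f : Hm F4 → Hm F4} (a : AV ι g f) (h : ∀ v, f (sh t v) = sh t (f v)) :
    ∃ k ∈ nr ι (Et t), AV ι k f := by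
  have hV : ∀ m : Uf F4, ∀ x ∈ VV F4, ⁅m, x⁆ ∈ VV F4 := fun _ _ _ => Uf.comm_t
  have hQ := fn_of (ι := ι) hV
  have i := iso_cn hQ.1 ((cn_eq a.1).le.trans hQ.1)
  obtain ⟨f', hf, e⟩ := (isReceptive_iff_map.1 (receptive_of_normalized F.pr F.sat hQ)).2 _ _ i.1
    (i.im_eq.trans (cn_eq a.1))
  have key : ∀ m ∈ Et t, ∀ x ∈ VV F4, ∀ y, Cj ι g x y → Cj ι g (m * x * m⁻¹) (m * y * m⁻¹) := by
    intro m hm x hx y c
    have hy := c.mem F.inj a.1 hx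
    refine av_cj F.inj a (conj_V m hx) (conj_V m hy) ?_
    rw [cV_conj m hx, cV_conj m hy, a.2 x hx y hy c]
    rcases et_cases ht hm with e | e <;> rw [e]
    · rw [sh_zero, sh_zero]
    · rw [h]
  obtain ⟨-, h1, u, hu⟩ := map_group.1 (hf.mono (Q := (Et t).map ι) (by
    rintro _ ⟨m, hm, rfl⟩
    refine ⟨⟨⟨m, rfl⟩, le_nr hV ⟨m, rfl⟩⟩, ι m, ⟨m, rfl⟩, ?_⟩
    rintro _ ⟨x, hx, rfl⟩
    obtain ⟨y, hy, c⟩ := nr_cj a.1 hx
    show g * (ι m * ι x * (ι m)⁻¹) * g⁻¹ = ι m * (g * ι x * g⁻¹) * (ι m)⁻¹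
    have := key m hm x hx y c
    rw [Cj] at this c
    rw [c]
    simpa using this))
  have h2 : ∀ x ∈ VV F4, ∀ y, Cj ι g x y → Cj ι u x y := fun x hx y c =>
    ((hu _ ⟨x, V_le hx, rfl⟩).symm.trans (e _ ⟨x, hx, rfl⟩)).trans c
  have h3 : u ∈ nr ι (VV F4) := mem_nr fun x hx =>
    let ⟨y, hy, c⟩ := nr_cj a.1 hx; ⟨y, hy, h2 x hx y c⟩
  refine ⟨u, mem_nr fun m hm => ?_, h3, fun x hx y hy c => ?_⟩
  · obtain ⟨y, hy⟩ := h1 _ ⟨m, hm, rfl⟩
    have c : Cj ι u m y := (hu _ ⟨m, hm, rfl⟩).symm.trans hy.symm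
    refine ⟨y, ?_, c⟩
    obtain ⟨x, hx, c'⟩ := nr_cj' a.1 (y := ⟨0, 0, 0, 1, star_zero _, star_one _⟩) rfl
    have h4 := congrArg Uf.b (((c.mul (h2 x hx _ c')).mul c.inv).uniq F.inj
      (h2 _ (conj_V m hx) _ (key m hm x hx _ c')))
    have h5 : y.t = m.t := by
      simp only [Uf.mul_b, Uf.mul_t, Uf.inv_b, Uf.inv_c] at h4
      linear_combination h4
    rw [mem_Et, h5]
    exact hm
  · obtain ⟨z, hz, c'⟩ := nr_cj a.1 hx
    rw [← (h2 x hx z c').uniq F.inj c]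
    exact a.2 x hx z hz c'

open M4 in
theorem eqE (F : Cf 2 ι) (F' : Cf 2 ψ) (h : ∀ t s, Mv ι t s → Mv ψ t s) (ht : t ≠ 0) : Eqv ι ψ (Et t) := by
  intro g hg0
  have hg : g ∈ nr ι (Et t) := mem_nr hg0
  have hV := Et_V hs4 F.inj ht hg
  obtain ⟨φ, a⟩ := (coV F.inj).exists_ac hV
  obtain ⟨y, -, c⟩ := nr_cj hg (ut_mem (t := t))
  have hy := img_t F.inj ht hg c
  have av : AV ι g fun v => φ • v := ⟨hV, fun x hx y hy c => (a.2 x hx y hy c).symm⟩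
  have hc : ∀ v, φ • sh t v = sh t (φ • v) := fun v => by
    obtain ⟨x, hx, rfl⟩ := (coV F.inj).surj v
    obtain ⟨z, hz, c'⟩ := nr_cj hV hx
    have := a.2 _ (conj_V (ut t) hx) _ (conj_V y hz) ((c.mul c').mul c.inv)
    rw [cV_conj _ hx, cV_conj _ hz, hy] at this
    rw [a.2 x hx z hz c']
    exact this
  obtain ⟨k0, a0⟩ : ∃ k0, AV ψ k0 fun v => φ • v := by
    rcases mv_of_cent F ⟨g, trivial, a⟩ ht hc with ⟨_, ⟨m, rfl⟩, b⟩ | ⟨s, a', b', m, e⟩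
    · exact ⟨ψ m, (funext (acV_self F.inj m b) : (fun v => φ • v) = sh m.t) ▸ av_self F'.inj m⟩
    · obtain ⟨-, -, -, w, hw⟩ := h t s m
      exact ⟨_, (funext e : (fun v => φ • v) = fun v => sh a' (mv t s (sh b' v))) ▸
        av_mul (av_self F'.inj (ut a')) (av_mul hw (av_self F'.inj (ut b')))⟩
  obtain ⟨k, hk, ak⟩ := ext_E F' ht a0 hc
  obtain ⟨y', -, c'⟩ := nr_cj hk (ut_mem (t := t))
  have hy' := img_t F'.inj ht hk c'
  obtain ⟨r, hr, e⟩ := exists_r ht hy hy' ((ut_sq (t := t) ▸ c.mul c).uniq F.inj (by simp [Cj]))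
    ((ut_sq (t := t) ▸ c'.mul c').uniq F'.inj (by simp [Cj]))
  have k1 : ∀ x ∈ VV F4, ∀ z, Cj ι g x z → Cj ψ (ψ r * k) x z := fun x hx z cz => by
    have hz := cz.mem F.inj hV hx
    have := (Cj.self r z).trans (av_cj F'.inj ak hx hz (av.2 x hx z hz cz))
    rwa [mul_inv_eq_iff_eq_mul.2 (commutatorElement_eq_one_iff_mul_comm.1 (comm_V hr hz))] at this
  refine ⟨ψ r * k, fun x hx z _ cz => ?_⟩
  rcases et_cases ht hx with e0 | e0
  · exact k1 x e0 z cz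
  · have := (e ▸ (Cj.self r y').trans c').mul (k1 _ (by simp [ut, e0]) _ (c.inv.mul cz))
    simpa using this

end U4F
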