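import Mathlib
import Cfsg.Agent.Base
import Cfsg.Agent.Lib.U4F.Ar

/-!
The matrices of the elements of the unipotent group and its normaliser in the unitary group.
-/

set_option autoImplicit false
set_option maxHeartbeats 3200000
set_option linter.unusedVariables false

namespace U4F

open Subgroup H93.SX
open H68 (SylowIn)
open U5F (qq)
open scoped commutatorElement
open Matrix

universe u v

variable {K : Type*} [Field K] [StarRing K]

theorem mx_one : mx (1 : Uf K) = 1 := by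
  ext i j; fin_cases i <;> fin_cases j <;> simp [mx]

theorem mx_mul (x y : Uf K) : mx (x * y) = mx x * mx y := by
  ext i j
  fin_cases i <;> fin_cases j <;> simp [mx, Matrix.mul_apply, Fin.sum_univ_four] <;> ring

theorem mx_inj : Function.Injective (mx (K := K)) := fun x y h => by
  have e1 : x.t = y.t := congrArg (· 0 1) h
  have e2 : x.b = y.b := congrArg (· 0 3) h
  have e3 : x.a - x.b * star x.t = y.a - y.b * star y.t := congrArg (· 0 2) h
  rw [e1, e2, sub_left_inj] at e3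
  exact Uf.ext e1 e3 e2 (congrArg (· 1 3) h)

theorem mx_unit (x : Uf K) : mx x * JJ K * (mx x)ᴴ = JJ K := by
  ext i j
  fin_cases i <;> fin_cases j <;>
    simp [mx, JJ, Matrix.mul_apply, Fin.sum_univ_four, conjTranspose_apply] <;> ring

theorem mx_det (x : Uf K) : (mx x).det = 1 := by
  simp [mx, det_succ_column_zero, Fin.sum_univ_succ, Fin.succAbove]

theorem JJ_mul : JJ K * JJ K = -1 := by
  ext i j; fin_cases i <;> fin_cases j <;> simp [JJ, Matrix.mul_apply, Fin.sum_univ_four]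

theorem JJ_conj : (JJ K)ᴴ = -JJ K := by
  ext i j; fin_cases i <;> fin_cases j <;> simp [JJ, conjTranspose_apply]

theorem dg_unit {d e : K} (hd : d ≠ 0) (he : e ≠ 0) : dg d e * JJ K * (dg d e)ᴴ = JJ K := by
  ext i j
  fin_cases i <;> fin_cases j <;>
    simp [dg, JJ, Matrix.mul_apply, Fin.sum_univ_four, conjTranspose_apply, diagonal_apply, *]

theorem dg_mx {d e : K} (hd : d ≠ 0) (he : e ≠ 0) (hl : star (e * star e) = e * star e) (x : Uf K) :
    dg d e * mx x = mx (dl (d / e) (e * star e) hl .refl x) * dg d e := by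
  have := star_ne_zero.2 hd
  have := star_ne_zero.2 he
  ext i j
  rw [dg, diagonal_mul, mul_diagonal]
  fin_cases i <;> fin_cases j <;> simp [mx] <;> field_simp

theorem mx_map (σ : K ≃⋆+* K) (x : Uf K) : (mx x).map σ = mx (dl 1 1 (star_one K) σ x) := by
  ext i j
  fin_cases i <;> fin_cases j <;> simp [mx, map_star]

theorem Mt.uni {p q r s c w : K}
    (h : (!![1, p, q, r; 0, 1, s, c; 0, 0, 1, 0; 0, 0, w, 1] : Matrix (Fin 4) (Fin 4) K) * JJ K *
      (!![1, p, q, r; 0, 1, s, c; 0, 0, 1, 0; 0, 0, w, 1] : Matrix (Fin 4) (Fin 4) K)ᴴ = JJ K) :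
    ∃ x : Uf K, (!![1, p, q, r; 0, 1, s, c; 0, 0, 1, 0; 0, 0, w, 1] : Matrix (Fin 4) (Fin 4) K) = mx x := by
  have e00 := congrFun (congrFun h 0) 0
  have e11 := congrFun (congrFun h 1) 1
  have e30 := congrFun (congrFun h 3) 0
  have e10 := congrFun (congrFun h 1) 0
  simp [JJ, Matrix.mul_apply, Fin.sum_univ_four, conjTranspose_apply] at e00 e11 e30 e10
  refine ⟨⟨p, q + r * star p, r, c, by
    simp only [star_add, star_mul', star_star]; linear_combination e00, by linear_combination e11⟩, ?_⟩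
  have f1 : w = -star p := by linear_combination -e30
  have f2 : s = star r - c * star p := by linear_combination -e10
  rw [mx, f1, f2, add_sub_cancel_right]

theorem tri_decomp (hs : ∃ e : K, star e ≠ e) {A : Matrix (Fin 4) (Fin 4) K} (hA : A * JJ K * Aᴴ = JJ K)
    (h : ∀ x : Uf K, ∃ y : Uf K, A * mx x = mx y * A) :
    ∃ (s : Uf K) (d e : K), d ≠ 0 ∧ e ≠ 0 ∧ A = mx s * dg d e := by
  obtain ⟨y, hy⟩ := h ⟨1, 0, 0, 0, by simp, by simp⟩
  obtain ⟨y', hy'⟩ := h ⟨0, 0, 0, 1, by simp, by simp⟩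
  have a20 : A 2 0 = 0 := by
    simpa [mx, Matrix.mul_apply, Fin.sum_univ_four] using congrFun (congrFun hy 2) 1
  have a23 : A 2 3 = 0 := by
    simpa [mx, Matrix.mul_apply, Fin.sum_univ_four] using congrFun (congrFun hy 2) 2
  have a21 : A 2 1 = 0 := by
    simpa [mx, Matrix.mul_apply, Fin.sum_univ_four] using congrFun (congrFun hy' 2) 3
  have a30 : A 3 0 = 0 := by
    simpa [mx, Matrix.mul_apply, Fin.sum_univ_four, a21] using congrFun (congrFun hy 3) 1
  have a31 : A 3 1 = 0 := by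
    simpa [mx, Matrix.mul_apply, Fin.sum_univ_four, a23] using congrFun (congrFun hy' 3) 3
  have a10 : A 1 0 = 0 := by
    simpa [mx, Matrix.mul_apply, Fin.sum_univ_four, a21, a31] using congrFun (congrFun hy 1) 1
  have e02 := congrFun (congrFun hA 0) 2
  have e13 := congrFun (congrFun hA 1) 3
  simp [JJ, Matrix.mul_apply, Fin.sum_univ_four, conjTranspose_apply, a20, a23, a21, a30, a31, a10] at e02 e13
  have d0 : A 0 0 ≠ 0 := left_ne_zero_of_mul_eq_one e02
  have d1 : A 1 1 ≠ 0 := left_ne_zero_of_mul_eq_one e13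
  have s0 := star_ne_zero.2 d0
  have s1 := star_ne_zero.2 d1
  have a22 : A 2 2 = (star (A 0 0))⁻¹ := eq_inv_of_mul_eq_one_right (by simpa using congrArg star e02)
  have a33 : A 3 3 = (star (A 1 1))⁻¹ := eq_inv_of_mul_eq_one_right (by simpa using congrArg star e13)
  have hB : A * dg (A 0 0)⁻¹ (A 1 1)⁻¹ =
      !![1, A 0 1 / A 1 1, A 0 2 * star (A 0 0), A 0 3 * star (A 1 1);
        0, 1, A 1 2 * star (A 0 0), A 1 3 * star (A 1 1);
        0, 0, 1, 0; 0, 0, A 3 2 * star (A 0 0), 1] := by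
    ext i j
    rw [dg, mul_diagonal]
    fin_cases i <;> fin_cases j <;> simp [div_eq_mul_inv, *]
  have hU := dg_unit (inv_ne_zero d0) (inv_ne_zero d1)
  obtain ⟨s, e⟩ := Mt.uni (K := K) (by
    rw [← hB, conjTranspose_mul]
    calc _ = A * (dg (A 0 0)⁻¹ (A 1 1)⁻¹ * JJ K * (dg (A 0 0)⁻¹ (A 1 1)⁻¹)ᴴ) * Aᴴ := by
          simp only [Matrix.mul_assoc]
      _ = _ := by rw [hU, hA])
  refine ⟨s, A 0 0, A 1 1, d0, d1, ?_⟩
  rw [← e, ← hB, Matrix.mul_assoc, dg, dg, diagonal_mul_diagonal]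
  convert (Matrix.mul_one A).symm
  rw [← diagonal_one]
  congr 1
  funext i
  fin_cases i <;> simp [*]

theorem exists_n1 : ∃ A : Matrix (Fin 4) (Fin 4) K, A * JJ K * Aᴴ = JJ K ∧ A.det = 1 ∧
    ∀ x ∈ QQ K, ∃ y ∈ QQ K, A * mx x = mx y * A ∧ cQ y = (-x.t, x.b) := by
  refine ⟨!![1, 0, 0, 0; 0, 0, 0, 1; 0, 0, 1, 0; 0, -1, 0, 0], ?_, ?_, fun x hx => ?_⟩
  · ext i j
    fin_cases i <;> fin_cases j <;> simp [JJ, Matrix.mul_apply, Fin.sum_univ_four, conjTranspose_apply]
  · simp [det_succ_row_zero, Fin.sum_univ_succ, Fin.succAbove]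
  · have := mem_QQ.1 hx
    refine ⟨⟨x.b, x.a - x.b * star x.t - x.t * star x.b, -x.t, 0, by
      simp only [star_sub, star_mul', star_star, Uf.sa]; ring, by simp⟩, rfl, ?_, rfl⟩
    ext i j
    fin_cases i <;> fin_cases j <;> simp [mx, Matrix.mul_apply, Fin.sum_univ_four, *]

theorem exists_n2 : ∃ A : Matrix (Fin 4) (Fin 4) K, A * JJ K * Aᴴ = JJ K ∧ A.det = 1 ∧
    ∀ x ∈ VV K, A * mx x = mx (w2 x) * A := by
  refine ⟨!![0, 1, 0, 0; -1, 0, 0, 0; 0, 0, 0, 1; 0, 0, -1, 0], ?_, ?_, fun x hx => ?_⟩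
  · ext i j
    fin_cases i <;> fin_cases j <;> simp [JJ, Matrix.mul_apply, Fin.sum_univ_four, conjTranspose_apply]
  · simp [det_succ_row_zero, Fin.sum_univ_succ, Fin.succAbove]
  · have := mem_VV.1 hx
    ext i j
    fin_cases i <;> fin_cases j <;> simp [mx, w2, Matrix.mul_apply, Fin.sum_univ_four, *]

end U4F
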