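import Mathlib
import Cfsg.Agent.Base
import Cfsg.Agent.Lib.U4F.Mt
import Cfsg.Agent.Lib.U5F.Syl
import Cfsg.Agent.S0278

set_option autoImplicit false

namespace U4F

open Subgroup H93.SX
open H68 (SylowIn)
open U5F (qq)
open scoped commutatorElement
open Matrix

universe u v

namespace SY

variable {K : Type*} [Field K] [StarRing K]

set_option maxHeartbeats 3200000 in
theorem mat {u v w x s : K} (e1 : u * star u + v * star v = 0) (e2 : u * star w + v * star x = s)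
    (e3 : w * star u + x * star v = -s) (e4 : w * star w + x * star x = 0) :
    !![u, 0, v, 0; 0, u, 0, v; w, 0, x, 0; 0, w, 0, x] *
      !![u, 0, v, 0; 0, u, 0, v; w, 0, x, 0; 0, w, 0, x]ᴴ = s • JJ K := by
  have h1 : !![u, 0, v, 0; 0, u, 0, v; w, 0, x, 0; 0, w, 0, x]ᴴ =
      !![star u, 0, star w, 0; 0, star u, 0, star w; star v, 0, star x, 0; 0, star v, 0, star x] := by
    ext i j
    fin_cases i <;> fin_cases j <;> first | rfl | exact star_zero K
  have h2 : s • JJ K = !![0, 0, s, 0; 0, 0, 0, s; -s, 0, 0, 0; 0, -s, 0, 0] := by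
    ext i j
    fin_cases i <;> fin_cases j <;> first | exact mul_zero s | exact mul_one s | exact mul_neg_one s
  rw [h1, h2]
  ext i j
  rw [Matrix.mul_apply, Fin.sum_univ_four]
  fin_cases i <;> fin_cases j <;> simp [e1, e2, e3, e4]

theorem exists_R0 [Finite K] (hs : ∃ e : K, star e ≠ e) :
    ∃ (R : Matrix (Fin 4) (Fin 4) K) (s : K), s ≠ 0 ∧ R * Rᴴ = s • JJ K := by
  obtain ⟨a, ha⟩ := U5F.exists_norm hs (k := -1) (by simp)
  obtain ⟨l, hl, l1⟩ := U5F.exists_norm_one hs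
  obtain ⟨c, hc⟩ : ∃ c : K, c * (1 - l) = 1 := ⟨_, inv_mul_cancel₀ (sub_ne_zero.2 l1.symm)⟩
  obtain ⟨s, s0, s2⟩ := U5F.exists_skew hs
  have s1 : star s = -s := eq_neg_of_add_eq_zero_right s2
  have hc' : star c * (1 - star l) = 1 := by simpa [mul_comm] using congrArg star hc
  refine ⟨_, s, s0, mat (u := s) (v := s * a) (w := c) (x := c * a * l) ?_ ?_ ?_ ?_⟩ <;>
    simp only [star_mul', s1]
  · linear_combination (-(s * s)) * ha
  · linear_combination s * hc' + s * star c * star l * ha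
  · linear_combination (-s) * hc - s * c * l * ha
  · linear_combination c * star c * l * star l * ha - c * star c * hl

theorem exists_R [Finite K] (hs : ∃ e : K, star e ≠ e) :
    ∃ (R S : Matrix (Fin 4) (Fin 4) K), R * S = 1 ∧ ∀ g : Matrix (Fin 4) (Fin 4) K,
      (g * JJ K * gᴴ = JJ K ∧ g.det = 1) ↔ (S * g * R * (S * g * R)ᴴ = 1 ∧ (S * g * R).det = 1) := by
  obtain ⟨R, s, s0, hR⟩ := exists_R0 hs
  have J2 := JJ_mul (K := K)
  generalize JJ K = J at *
  obtain ⟨S, RS⟩ : ∃ S, R * S = 1 := ⟨Rᴴ * ((-s⁻¹) • J), by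
    rw [← mul_assoc, hR, smul_mul_smul_comm, J2, mul_neg, mul_inv_cancel₀ s0]; simp⟩
  have SR : S * R = 1 := mul_eq_one_comm.1 RS
  refine ⟨R, S, RS, fun g => and_congr ?_ ?_⟩
  · have e : S * g * R * (S * g * R)ᴴ = S * (s • (g * J * gᴴ)) * Sᴴ := by
      rw [← smul_mul_assoc, ← mul_smul_comm, ← hR]
      simp only [conjTranspose_mul, mul_assoc]
    rw [e]
    refine ⟨fun h => ?_, fun h => smul_right_injective _ s0 ?_⟩
    · rw [h, ← hR, ← mul_assoc, SR, one_mul, ← conjTranspose_mul, SR, conjTranspose_one]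
    · have : R * (S * (s • (g * J * gᴴ)) * Sᴴ) * Rᴴ = s • J := by rw [h, mul_one, hR]
      rwa [← mul_assoc, ← mul_assoc, RS, one_mul, mul_assoc, ← conjTranspose_mul, RS, conjTranspose_one,
        mul_one] at this
  · rw [det_mul, det_mul, mul_right_comm, ← det_mul, SR, det_one, one_mul]

theorem mem_su {q : ℕ} (hq : ∀ x : K, star x = x ^ q) (B : SpecialLinearGroup (Fin 4) K) :
    B ∈ Cfsg.SU 4 K q ↔ B.1 * B.1ᴴ = 1 := by
  have hf : ∀ u v : Fin 4 → K, Cfsg.hermForm 4 K q u v = star v ⬝ᵥ u := fun u v => by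
    simp [Cfsg.hermForm, dotProduct, hq, mul_comm]
  change (∀ u v, Cfsg.hermForm 4 K q (B.1 *ᵥ u) (B.1 *ᵥ v) = Cfsg.hermForm 4 K q u v) ↔ _
  simp only [hf, star_mulVec, dotProduct_mulVec, vecMul_vecMul]
  rw [mul_eq_one_comm]
  refine ⟨fun h => Matrix.ext fun i j => ?_, fun h u v => by rw [h, vecMul_one]⟩
  simpa [Matrix.one_apply, Pi.single_apply, eq_comm] using h (Pi.single j 1) (Pi.single i 1)

theorem JJ_det : (JJ K).det = 1 := by
  simp [JJ, det_succ_row_zero, Fin.sum_univ_succ, Fin.succAbove]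

theorem exists_hom [Finite K] (hs : ∃ e : K, star e ≠ e) {q : ℕ} (hq : ∀ x : K, star x = x ^ q) :
    ∃ f : Uf K →* Cfsg.PSU 4 K q, Function.Injective f := by
  obtain ⟨R, S, RS, H⟩ := exists_R hs
  have su : ∀ g : Matrix (Fin 4) (Fin 4) K, g * JJ K * gᴴ = JJ K → g.det = 1 →
      ∃ A : Cfsg.SU 4 K q, (A : SpecialLinearGroup (Fin 4) K).1 = S * g * R := fun g h1 h2 =>
    let ⟨a, b⟩ := (H g).1 ⟨h1, h2⟩; ⟨⟨⟨_, b⟩, (mem_su hq _).2 a⟩, rfl⟩
  choose ψ hψ using fun x : Uf K => su _ (mx_unit x) (mx_det x)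
  obtain ⟨w, hw⟩ := su (JJ K) (by rw [JJ_mul, JJ_conj]; simp) JJ_det
  have mul : ∀ a b : Matrix (Fin 4) (Fin 4) K, S * a * R * (S * b * R) = S * (a * b) * R := fun a b => by
    calc S * a * R * (S * b * R) = S * a * (R * S) * b * R := by simp only [mul_assoc]
      _ = _ := by rw [RS]; simp only [mul_assoc, one_mul]
  let f : Uf K →* Cfsg.SU 4 K q := MonoidHom.mk' ψ fun x y => Subtype.ext (Subtype.ext (by
    change _ = (ψ x : SpecialLinearGroup (Fin 4) K).1 * (ψ y : SpecialLinearGroup (Fin 4) K).1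
    rw [hψ, hψ, hψ, mul, mx_mul]))
  refine ⟨(QuotientGroup.mk' _).comp f, (injective_iff_map_eq_one _).2 fun x hx => ?_⟩
  have h1 := mem_center_iff.1 ((QuotientGroup.eq_one_iff _).1 hx) w
  have h2 : (w : SpecialLinearGroup (Fin 4) K).1 * (ψ x : SpecialLinearGroup (Fin 4) K).1 =
      (ψ x : SpecialLinearGroup (Fin 4) K).1 * (w : SpecialLinearGroup (Fin 4) K).1 :=
    congrArg (fun a : Cfsg.SU 4 K q => (a : SpecialLinearGroup (Fin 4) K).1) h1
  rw [hψ, hw, mul, mul] at h2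
  have h3 : JJ K * mx x = mx x * JJ K := by
    have := congrArg (fun a => R * a * S) h2
    simpa only [← mul_assoc, RS, one_mul, mul_assoc _ R S, mul_one] using this
  have e := fun i j => congrFun (congrFun h3 i) j
  have e1 := e 0 0
  have e2 := e 0 1
  have e3 := e 1 1
  have e4 := e 0 3
  simp [JJ, mx, Matrix.mul_apply, Fin.sum_univ_four] at e1 e2 e3 e4
  exact Uf.eq_one.2 ⟨e4.symm, by simpa [e2] using e1, e2, e3⟩

theorem ndvd {p q : ℕ} (hp : p.Prime) (h : p ∣ q) (q1 : 1 ≤ q) (n : ℕ) :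
    ¬ p ∣ ∏ i ∈ Finset.range n, (if Even i then q ^ (i + 1) + 1 else q ^ (i + 1) - 1) := fun d => by
  obtain ⟨i, -, hi⟩ := (hp.prime.dvd_finsetProd_iff _).1 d
  have d1 : p ∣ q ^ (i + 1) := dvd_pow h (by omega)
  have d2 : 1 ≤ q ^ (i + 1) := Nat.one_le_pow _ _ q1
  refine hp.one_lt.ne' (Nat.dvd_one.1 ?_)
  split_ifs at hi
  · exact (Nat.dvd_add_right d1).1 hi
  · simpa [Nat.sub_sub_self d2] using Nat.dvd_sub d1 hi

end SY

theorem exists_equiv {K : Type*} [Field K] [Fintype K] (p : ℕ) [Fact p.Prime] [CharP K p] (n : ℕ)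
    (hn : 1 ≤ n) (hK : Fintype.card K = (p ^ n) ^ 2) (T : Sylow p (Cfsg.PSU 4 K (p ^ n))) :
    ∃ _ : StarRing K, (∃ e : K, star e ≠ e) ∧
      Nonempty (Uf K ≃* (T : Subgroup (Cfsg.PSU 4 K (p ^ n)))) := by
  have hp : p.Prime := Fact.out
  have q1 : 1 < p ^ n := Nat.one_lt_pow (by omega) hp.one_lt
  letI : StarRing K :=
    { star := fun x => x ^ p ^ n
      star_involutive := fun x => by
        change (x ^ p ^ n) ^ p ^ n = x
        rw [← pow_mul, ← sq, ← hK, FiniteField.pow_card]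
      star_mul := fun x y => by
        change (x * y) ^ p ^ n = y ^ p ^ n * x ^ p ^ n
        rw [mul_pow, mul_comm]
      star_add := fun x y => add_pow_char_pow x y p n }
  have hs : ∃ e : K, star e ≠ e := by
    by_contra h
    push Not at h
    have h1 := (FiniteField.forall_pow_eq_one_iff K (p ^ n - 1)).1 fun x => by
      have : x ^ p ^ n = x := Units.ext (h (x : K))
      rw [← mul_left_inj x, ← pow_succ, Nat.sub_add_cancel q1.le, this, one_mul]
    have h2 := Nat.le_of_dvd (by omega) h1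
    rw [hK, sq] at h2
    have : p ^ n * 2 ≤ p ^ n * p ^ n := Nat.mul_le_mul_left _ q1
    omega
  refine ⟨this, hs, ?_⟩
  obtain ⟨f, hf⟩ := SY.exists_hom hs (q := p ^ n) fun _ => rfl
  have hq : qq K = p ^ n := by
    have := U5F.card_K hs
    rw [Nat.card_eq_fintype_card, hK] at this
    exact (Nat.pow_left_injective two_ne_zero this).symm
  have e := MonoidHom.ofInjective hf
  have hc : Nat.card f.range = (p ^ n) ^ 6 := by rw [← Nat.card_congr e.toEquiv, card_Uf hs, hq]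
  have h := Cfsg.Agent.S0280.result hK 4 (by norm_num)
  rw [← f.range.card_mul_index, hc, show 4 * (4 - 1) / 2 = 6 from rfl, ← mul_assoc, mul_left_comm] at h
  have h1 := Nat.eq_of_mul_eq_mul_left (by positivity) h
  have nd : ¬ p ∣ f.range.index := fun d =>
    SY.ndvd hp (dvd_pow_self p (by omega)) q1.le 4 (h1 ▸ d.mul_left _)
  exact ⟨e.trans ((((pg_uf p).of_equiv e).toSylow nd).equiv T)⟩

theorem card_unit {K : Type*} [Field K] [StarRing K] [Finite K] (p : ℕ) [Fact p.Prime] [CharP K p] (hs : ∃ e : K, star e ≠ e) :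
    ∃ m, ¬ p ∣ m ∧ Nat.card {A : Matrix (Fin 4) (Fin 4) K // A * JJ K * Aᴴ = JJ K ∧ A.det = 1} =
      qq K ^ 6 * m := by
  have hp : p.Prime := Fact.out
  have := Fintype.ofFinite K
  have hK : Fintype.card K = qq K ^ 2 := by rw [← Nat.card_eq_fintype_card, U5F.card_K hs]
  have pq : p ∣ qq K := hp.dvd_of_dvd_pow (hK ▸ (CharP.cast_eq_zero_iff K p _).1 (FiniteField.cast_card_eq_zero K))
  obtain ⟨R, S, RS, H⟩ := SY.exists_R hs
  have SR : S * R = 1 := mul_eq_one_comm.1 RS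
  let e : Matrix (Fin 4) (Fin 4) K ≃ Matrix (Fin 4) (Fin 4) K :=
    ⟨fun g => S * g * R, fun g => R * g * S,
      fun g => by simp only [← mul_assoc, RS, one_mul, mul_assoc _ R S, mul_one],
      fun g => by simp only [← mul_assoc, SR, one_mul, mul_assoc _ S R, mul_one]⟩
  let e' : {B : Matrix (Fin 4) (Fin 4) K // B * Bᴴ = 1 ∧ B.det = 1} ≃ Cfsg.SU 4 K (qq K) :=
    ⟨fun B => ⟨⟨B.1, B.2.2⟩, (SY.mem_su (star_pow hs) _).2 B.2.1⟩,
      fun B => ⟨B.1.1, (SY.mem_su (star_pow hs) _).1 B.2, B.1.2⟩, fun _ => rfl, fun _ => rfl⟩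
  rw [Nat.card_congr ((e.subtypeEquiv H).trans e')]
  have h := Cfsg.Agent.S0278.result hK 4 (by norm_num)
  rw [show 4 * (4 - 1) / 2 = 6 from rfl] at h
  obtain ⟨m, hm⟩ : qq K ^ 6 ∣ Nat.card (Cfsg.SU 4 K (qq K)) :=
    (Nat.Coprime.pow_left 6 (show (qq K).Coprime (qq K + 1) by simp)).dvd_of_dvd_mul_left ⟨_, h⟩
  refine ⟨m, fun d => ?_, hm⟩
  have q1 := U5F.one_lt_qq (K := K)
  rw [hm, mul_left_comm] at h
  exact SY.ndvd hp pq q1.le 4 (Nat.eq_of_mul_eq_mul_left (by positivity) h ▸ d.mul_left _)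

end U4F
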