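import Mathlib
import Cfsg.Agent.Base
import Cfsg.Agent.Lib.U4F.Mt
import Cfsg.Agent.Lib.U4F.Dg
import Cfsg.Agent.Lib.U4F.SY
import Cfsg.Agent.Lib.Core.Coprime

set_option autoImplicit false
set_option maxHeartbeats 400000
set_option linter.unusedSectionVars false

namespace U4F

open Subgroup H93.SX
open H68 (SylowIn)
open U5F (qq)
open scoped commutatorElement

universe u v

namespace MD

open Matrix

variable {K : Type v} {Γ : Type u} [Field K] [StarRing K] [Group Γ] {ι : Uf K →* Γ}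
  {π ρ : Equiv.Perm (Fin 4 → K)} {A B : Matrix (Fin 4) (Fin 4) K} {σ τ : K ≃⋆+* K}

theorem nn (e : K) : star (e * star e) = e * star e := by rw [star_mul', star_star, mul_comm]

theorem dl_one (x : Uf K) : dl 1 1 (star_one K) .refl x = x := by ext <;> simp

/-- The permutation is the semilinear map with the given matrix and field automorphism. -/
def Sl (π : Equiv.Perm (Fin 4 → K)) (A : Matrix (Fin 4) (Fin 4) K) (σ : K ≃⋆+* K) : Prop :=
  ∀ w, π w = A *ᵥ (σ ∘ w)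

theorem map_mv (σ : K ≃⋆+* K) (B : Matrix (Fin 4) (Fin 4) K) (w : Fin 4 → K) :
    σ ∘ (B *ᵥ w) = B.map σ *ᵥ (σ ∘ w) := by
  ext i
  simp [mulVec, dotProduct, map_sum]

theorem Sl.mul (a : Sl π A σ) (b : Sl ρ B τ) : Sl (π * ρ) (A * B.map σ) (τ.trans σ) := fun w => by
  rw [Equiv.Perm.mul_apply, a, b, map_mv, mulVec_mulVec]; rfl

theorem Sl.uniq (a : Sl π A σ) (b : Sl π B τ) : A = B := by
  ext i j
  have k : ∀ σ : K ≃⋆+* K, σ ∘ (Pi.single j 1 : Fin 4 → K) = Pi.single j 1 := fun σ => by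
    ext k
    by_cases h : k = j <;> simp [Pi.single_apply, h]
  have := congrFun ((a (Pi.single j 1)).symm.trans (b _)) i
  simpa [k] using this

theorem Sl.ext (a : Sl π A σ) (b : Sl ρ A σ) : π = ρ := Equiv.ext fun w => (a w).trans (b w).symm

theorem exists_sl [Finite K] (hA : A * JJ K * Aᴴ = JJ K) (σ : K ≃⋆+* K) : ∃ π, Sl π A σ := by
  have e : JJ K * Aᴴ * -JJ K * A = 1 := mul_eq_one_comm.1 (by
    rw [← Matrix.mul_assoc, ← Matrix.mul_assoc, hA, Matrix.mul_neg, JJ_mul, neg_neg])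
  refine ⟨Equiv.ofBijective (fun w => A *ᵥ (σ ∘ w)) (Finite.injective_iff_bijective.1 fun w w' h => ?_),
    fun _ => rfl⟩
  have := congrArg ((JJ K * Aᴴ * -JJ K) *ᵥ ·) h
  simp only [mulVec_mulVec, e, one_mulVec] at this
  exact funext fun i => EquivLike.injective σ (congrFun this i)

variable (K) in
/-- The natural action of the unipotent group. -/
def ps : Uf K →* Equiv.Perm (Fin 4 → K) := MonoidHom.toHomPerm
  { toFun := fun x w => mx x *ᵥ w
    map_one' := funext fun w => by rw [mx_one, one_mulVec]; rfl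
    map_mul' := fun x y => funext fun w => by rw [mx_mul, ← mulVec_mulVec]; rfl }

theorem sl_ps (x : Uf K) : Sl (ps K x) (mx x) .refl := fun _ => rfl

theorem Sl.cj (a : Sl π A σ) {x y : Uf K} :
    Cj (ps K) π x y ↔ A * mx (dl 1 1 (star_one K) σ x) = mx y * A := by
  have e1 : Sl (π * ps K x) (A * mx (dl 1 1 (star_one K) σ x)) σ := mx_map σ x ▸ a.mul (sl_ps x)
  have e2 : Sl (ps K y * π) (mx y * A) σ := (sl_ps y).mul a
  rw [Cj, mul_inv_eq_iff_eq_mul]
  exact ⟨fun h => e1.uniq (h ▸ e2), fun h => e1.ext (h ▸ e2)⟩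

theorem Sl.dg {d e : K} (a : Sl π (dg d e) σ) (hd : d ≠ 0) (he : e ≠ 0) (x : Uf K) :
    Cj (ps K) π x (dl (d / e) (e * star e) (nn e) σ x) := by
  rw [a.cj, dg_mx hd he (nn e)]
  congr 2
  ext <;> simp

theorem det_dg (d e : K) : (dg d e).det = d * e * (star d)⁻¹ * (star e)⁻¹ := by
  simp [dg, det_diagonal, Fin.prod_univ_four]

theorem unit_map (hB : B * JJ K * Bᴴ = JJ K) (σ : K ≃⋆+* K) :
    B.map σ * JJ K * (B.map σ)ᴴ = JJ K := by
  have e : (JJ K).map σ = JJ K := by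
    ext i j; fin_cases i <;> fin_cases j <;> simp [JJ]
  have e' : (Bᴴ).map σ = (B.map σ)ᴴ := by
    ext i j; simp [conjTranspose_apply, map_star]
  have := congrArg (·.map σ) hB
  simp only [Matrix.map_mul (f := σ), e, e'] at this
  exact this

theorem det_map' (B : Matrix (Fin 4) (Fin 4) K) (σ : K ≃⋆+* K) : (B.map σ).det = σ B.det :=
  (RingHom.map_det (σ.toRingEquiv : K →+* K) B).symm

variable [Finite K] [Finite Γ]

variable (ι) in
/-- The model group. -/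
def GG : Subgroup (Equiv.Perm (Fin 4 → K)) :=
  let M : Submonoid (Equiv.Perm (Fin 4 → K)) :=
    { carrier := {π | ∃ (A : Matrix (Fin 4) (Fin 4) K) (σ : K ≃⋆+* K) (l m : K), Sl π A σ ∧
        A * JJ K * Aᴴ = JJ K ∧ l ≠ 0 ∧ m ≠ 0 ∧ Dl ι l (m * star m) σ ∧
        A.det * (star l * star m ^ 2) = l * m ^ 2}
      one_mem' := ⟨1, .refl, 1, 1, fun w => (one_mulVec w).symm, by simp, one_ne_zero, one_ne_zero,
        by simpa using Dl.one, by simp⟩
      mul_mem' := by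
        rintro π ρ ⟨A, σ, l, m, a1, a2, a3, a4, a5, a6⟩ ⟨B, τ, l', m', b1, b2, b3, b4, b5, b6⟩
        refine ⟨_, _, _, _, a1.mul b1, ?_, mul_ne_zero a3 (show σ l' ≠ 0 by simpa using b3),
          mul_ne_zero a4 (show σ m' ≠ 0 by simpa using b4), ?_, ?_⟩
        · rw [conjTranspose_mul, show A * B.map σ * JJ K * ((B.map σ)ᴴ * Aᴴ) =
            A * (B.map σ * JJ K * (B.map σ)ᴴ) * Aᴴ by simp only [Matrix.mul_assoc], unit_map b2, a2]
        · convert a5.mul b5 using 1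
          rw [map_mul, map_star, star_mul']; ring
        · have := congrArg σ b6
          simp only [map_mul, map_pow, map_star] at this
          rw [det_mul, det_map', star_mul', star_mul']
          linear_combination (σ B.det * star (σ l') * star (σ m') ^ 2) * a6 + (l * m ^ 2) * this }
  { M with
    inv_mem' := fun {x} hx => by
      obtain ⟨n, e⟩ := (mem_powers_iff_mem_zpowers (x := x) (y := x⁻¹)).2 (inv_mem (mem_zpowers x))
      exact e ▸ M.pow_mem hx n }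

theorem mem_GG : π ∈ GG ι ↔ ∃ (A : Matrix (Fin 4) (Fin 4) K) (σ : K ≃⋆+* K) (l m : K), Sl π A σ ∧
    A * JJ K * Aᴴ = JJ K ∧ l ≠ 0 ∧ m ≠ 0 ∧ Dl ι l (m * star m) σ ∧
      A.det * (star l * star m ^ 2) = l * m ^ 2 :=
  Iff.rfl

theorem mem_one (a : Sl π A .refl) (hA : A * JJ K * Aᴴ = JJ K) (h : A.det = 1) : π ∈ GG ι :=
  mem_GG.2 ⟨A, _, 1, 1, a, hA, one_ne_zero, one_ne_zero, by simpa using Dl.one, by simp [h]⟩

variable (ι) in
/-- The embedding into the model group. -/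
def psi : Uf K →* GG ι := (ps K).codRestrict _ fun x => mem_one (sl_ps x) (mx_unit x) (mx_det x)

theorem cj_psi {g : GG ι} {x y : Uf K} : Cj (psi ι) g x y ↔ Cj (ps K) g x y := Subtype.ext_iff

theorem psi_inj : Function.Injective (psi ι) := fun x y h =>
  have e : ps K x = ps K y := congrArg Subtype.val h
  mx_inj ((sl_ps x).uniq (e ▸ sl_ps y))

theorem weyl (h1 : A * JJ K * Aᴴ = JJ K) (h2 : A.det = 1) :
    ∃ n, ∀ x y, A * mx x = mx y * A → Cj (psi ι) n x y := by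
  obtain ⟨π, a⟩ := exists_sl h1 .refl
  exact ⟨⟨π, mem_one a h1 h2⟩, fun x y h => cj_psi.2 (a.cj.2 (by rw [dl_one]; exact h))⟩

theorem Dl_psi (hs : ∃ e : K, star e ≠ e) {n l : K} (hn : n ≠ 0) (hl : l ≠ 0) (h : Dl ι n l σ) :
    Dl (psi ι) n l σ := by
  obtain ⟨m, rfl⟩ := U5F.exists_norm hs h.1
  have hm := left_ne_zero_of_mul hl
  have u := dg_unit (mul_ne_zero hn hm) hm
  obtain ⟨π, a⟩ := exists_sl u σ
  refine ⟨nn m, ⟨π, mem_GG.2 ⟨_, σ, n, m, a, u, hn, hm, h, ?_⟩⟩, fun x => cj_psi.2 ?_⟩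
  · have := star_ne_zero.2 hn
    have := star_ne_zero.2 hm
    rw [det_dg, star_mul']
    field_simp
  · have := a.dg (mul_ne_zero hn hm) hm x
    rwa [mul_div_cancel_right₀ _ hm] at this

variable (hs : ∃ e : K, star e ≠ e) (h1 : T1 ι) (h2 : T2 ι)
include hs h1 h2

theorem decomp {g : GG ι} (hg : g ∈ nr (psi ι) ⊤) :
    ∃ (s : Uf K) (d e : K) (σ : K ≃⋆+* K), d ≠ 0 ∧ e ≠ 0 ∧
      Dl ι (d / e) (e * star e) σ ∧ Sl ((psi ι s)⁻¹ * g : GG ι) (dg d e) σ := by
  obtain ⟨A, σ, l, m, a1, a2, a3, a4, a5, a6⟩ := mem_GG.1 g.2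
  obtain ⟨s, d, e, hd, he, rfl⟩ := tri_decomp hs a2 fun x => by
    obtain ⟨y, -, h⟩ := nr_cj hg (mem_top (dl 1 1 (star_one K) σ.symm x))
    refine ⟨y, ?_⟩
    rw [← a1.cj.1 (cj_psi.1 h)]
    congr 2
    ext <;> simp
  refine ⟨s, d, e, σ, hd, he, ?_, ?_⟩
  · have := star_ne_zero.2 hd
    have := star_ne_zero.2 he
    have := star_ne_zero.2 a3
    have := star_ne_zero.2 a4
    rw [det_mul, mx_det, det_dg, one_mul] at a6
    have k : star (d * e / (l * m ^ 2)) = d * e / (l * m ^ 2) := by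
      rw [star_div₀, star_mul', star_mul', _root_.star_pow]
      field_simp at a6 ⊢
      linear_combination -a6
    have h := ((h2 (d / (l * m)) (div_ne_zero hd (mul_ne_zero a3 a4))).mul (h1 (d * e / (l * m ^ 2))
      (div_ne_zero (mul_ne_zero hd he) (mul_ne_zero a3 (pow_ne_zero 2 a4))) k)).mul a5
    convert h using 1
    · change _ = (d / (l * m)) ^ 2 * (d * e / (l * m ^ 2))⁻¹ * l
      field_simp
    · change _ = (d / (l * m) * star (d / (l * m)))⁻¹ * (d * e / (l * m ^ 2)) ^ 2 * (m * star m)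
      simp only [star_div₀, star_mul']
      field_simp at a6 ⊢
      linear_combination -a6
    · rfl
  · have := (sl_ps s⁻¹).mul a1
    rw [show (mx s * dg d e).map (StarRingEquiv.refl : K ≃⋆+* K) = mx s * dg d e from rfl,
      ← Matrix.mul_assoc, ← mx_mul, inv_mul_cancel, mx_one, Matrix.one_mul, map_inv] at this
    exact this

theorem std' {g : GG ι} (hg : g ∈ nr (psi ι) ⊤) :
    ∃ t n l hl σ, n ≠ 0 ∧ l ≠ 0 ∧ Dl ι n l σ ∧ ∀ x, Cj (psi ι) g x (t * dl n l hl σ x * t⁻¹) := by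
  obtain ⟨s, d, e, σ, hd, he, h, a⟩ := decomp hs h1 h2 hg
  refine ⟨s, _, _, nn e, σ, div_ne_zero hd he, mul_ne_zero he (star_ne_zero.2 he), h, fun x => ?_⟩
  have := (Cj.self s _).trans (cj_psi.2 (a.dg hd he x))
  rwa [mul_inv_cancel_left] at this

theorem Dl_of {n l : K} (hn : n ≠ 0) (h : Dl (psi ι) n l σ) : Dl ι n l σ := by
  obtain ⟨hl, g, a⟩ := h
  obtain ⟨t, n', l', hl', τ, -, -, h, b⟩ := std' hs h1 h2 (mem_nr fun x _ => ⟨_, mem_top _, a x⟩)
  have k : ∀ y : K, n * σ y = n' * τ y ∧ l = l' := fun y => by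
    have e := (a ⟨y, 0, 0, 1, star_zero K, star_one K⟩).uniq psi_inj (b _)
    have ea := congrArg Uf.t e
    have eb := congrArg Uf.c e
    simp only [Uf.mul_t, Uf.mul_c, Uf.inv_t, Uf.inv_c, dl_t, dl_c, map_one] at ea eb
    exact ⟨by linear_combination ea, by linear_combination eb⟩
  obtain ⟨e1, e2⟩ := k 1
  simp only [map_one, mul_one] at e1
  subst e1 e2
  obtain rfl : σ = τ := StarRingEquiv.ext fun y => mul_left_cancel₀ hn (k y).1
  exact h

theorem syl {p : ℕ} [Fact p.Prime] [CharP K p] (F : Cf p ι) :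
    ∃ P : Sylow p (GG ι), (P : Subgroup (GG ι)) = (psi ι).range := by
  refine ⟨⟨(psi ι).range, F.pg.of_surjective _ (psi ι).rangeRestrict_surjective, fun {Q} hQ le => ?_⟩, rfl⟩
  refine le_antisymm (H2.le_of_normalizer_inf_le hQ.isNilpotent le fun g hg => ?_) le
  obtain ⟨s, d, e, σ, hd, he, h, a⟩ := decomp hs h1 h2 (nr_top (ι := psi ι) ▸ hg.2)
  obtain ⟨k, hk⟩ := hQ ⟨_, mul_mem (inv_mem (le ⟨s, rfl⟩)) hg.1⟩
  replace hk : ((psi ι s)⁻¹ * g) ^ p ^ k = 1 := congrArg Subtype.val hk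
  generalize hh : (psi ι s)⁻¹ * g = π at a hk
  have c : ∀ n x, Cj (psi ι) (π ^ n) x ((dl (d / e) (e * star e) (nn e) σ)^[n] x) := fun n x => by
    induction n with
    | zero => rw [pow_zero]; exact Cj.one
    | succ n ih =>
      rw [pow_succ', Function.iterate_succ_apply']
      exact (cj_psi.2 (a.dg hd he _)).trans ih
  obtain ⟨e1, e2, e3⟩ := dl_triv F h (div_ne_zero hd he) (mul_ne_zero he (star_ne_zero.2 he)) k
    fun x => (c _ x).uniq psi_inj (hk ▸ Cj.one)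
  obtain rfl : d = e := (div_eq_one_iff_eq he).1 e1
  have e4 : (star d)⁻¹ = d := (eq_inv_of_mul_eq_one_left e2).symm
  have b : ∀ w, (π : Equiv.Perm (Fin 4 → K)) w = d • w := fun w => by
    rw [a w]
    ext i
    rw [dg, mulVec_diagonal, e4]
    fin_cases i <;> simp [e3]
  have b' : ∀ n w, ((π ^ n : GG ι) : Equiv.Perm (Fin 4 → K)) w = d ^ n • w := fun n w => by
    induction n with
    | zero => simp
    | succ n ih => rw [pow_succ', coe_mul, Equiv.Perm.mul_apply, ih, b, smul_smul, pow_succ']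
  have e5 : d = 1 := by
    have := congrFun (b' (p ^ k) 1) 0
    rw [hk] at this
    have h1 : d ^ (p ^ k * 1) = 1 := by simpa using this.symm
    simpa using (ExpChar.pow_prime_pow_mul_eq_one_iff p k 1 d).1 h1
  have e6 : π = 1 := Subtype.ext (Equiv.ext fun w => by rw [b, e5, one_smul]; rfl)
  exact ⟨s, inv_mul_eq_one.1 (hh.trans e6)⟩

end MD

theorem exists_model {K : Type v} {Γ : Type u} [Field K] [StarRing K] [Finite K] [Group Γ] [Finite Γ]
    {p : ℕ} [Fact p.Prime] [CharP K p] {ι : Uf K →* Γ} (hs : ∃ e : K, star e ≠ e) (F : Cf p ι)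
    (h1 : T1 ι) (h2 : T2 ι) : ∃ (G : Type v) (_ : Group G) (_ : Finite G) (ψ : Uf K →* G),
      Mo p ψ ∧ Std ψ ∧ (∀ n l σ, n ≠ 0 → l ≠ 0 → (Dl ψ n l σ ↔ Dl ι n l σ)) ∧ W1 ψ ∧ W2 ψ := by
  obtain ⟨A, a1, a2, a3⟩ := exists_n1 (K := K)
  obtain ⟨B, b1, b2, b3⟩ := exists_n2 (K := K)
  obtain ⟨g, hg⟩ := MD.weyl (ι := ι) a1 a2
  obtain ⟨k, hk⟩ := MD.weyl (ι := ι) b1 b2
  refine ⟨MD.GG ι, inferInstance, inferInstance, MD.psi ι, ⟨MD.psi_inj, MD.syl hs h1 h2 F⟩,
    fun _ hg => let ⟨t, n, l, hl, σ, hn, h0, _, h⟩ := MD.std' hs h1 h2 hg; ⟨t, n, l, hl, σ, hn, h0, h⟩,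
    fun _ _ _ hn hl => ⟨MD.Dl_of hs h1 h2 hn, MD.Dl_psi hs hn hl⟩,
    ⟨g, mem_nr fun x hx => let ⟨y, hy, e, _⟩ := a3 x hx; ⟨y, hy, hg x y e⟩, fun x hx y _ e => ?_⟩,
    k, fun x hx => hk x _ (b3 x hx)⟩
  obtain ⟨y', -, e', c⟩ := a3 x hx
  rw [e.uniq MD.psi_inj (hg x y' e'), c]
  rfl

end U4F
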