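import Mathlib
import Cfsg.Agent.Base
import Cfsg.Agent.Lib.U4F.Ar

set_option autoImplicit false

namespace U4F

open Subgroup H93.SX
open H68 (SylowIn)
open U5F (qq)
open scoped commutatorElement
open H30

universe u v

namespace ML

abbrev Z2 := ZMod 2
abbrev M4 := Matrix (Fin 4) (Fin 4) Z2

def bt : F4 → Z2
  | .i => 1
  | _ => 0

def tb (x t : F4) : Z2 := bt (x * star t + star x * t)

def ut (p q r s u w : Z2) : M4 := !![1, p, q, r; 0, 1, s, u; 0, 0, 1, w; 0, 0, 0, 1]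

theorem ut_mul (p q r s u w p' q' r' s' u' w' : Z2) : ut p q r s u w * ut p' q' r' s' u' w' =
    ut (p' + p) (q' + p * s' + q) (r' + p * u' + q * w' + r) (s' + s) (u' + s * w' + u) (w' + w) := by
  ext i j
  fin_cases i <;> fin_cases j <;> simp [ut, Matrix.mul_apply, Fin.sum_univ_four]

theorem ut_inj {p q r s u w : Z2} (h : ut p q r s u w = 1) :
    p = 0 ∧ q = 0 ∧ r = 0 ∧ s = 0 ∧ u = 0 ∧ w = 0 :=
  ⟨congrFun (congrFun h 0) 1, congrFun (congrFun h 0) 2, congrFun (congrFun h 0) 3,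
    congrFun (congrFun h 1) 2, congrFun (congrFun h 1) 3, congrFun (congrFun h 2) 3⟩

def mm (t t' : F4) (e : Z2) (x a b c : F4) : M4 :=
  ut (tb x t') (tb b t') (bt a + tb b t' + tb b t + e * bt c + tb x t * tb b t') (bt c)
    (tb b t + tb x t * bt c) (tb x t)

theorem tb_add : ∀ x y t : F4, tb (x + y) t = tb x t + tb y t := by decide +kernel

theorem tb_mul : ∀ x c t : F4, star c = c → tb (x * c) t = tb x t * bt c := by decide +kernel

theorem bt_add : ∀ a c : F4, star a = a → star c = c → bt (a + c) = bt a + bt c := by decide +kernel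

theorem bt_a : ∀ t t' : F4, t ≠ 0 → t' ≠ 0 → t ≠ t' → ∀ a a' : F4, star a = a → star a' = a' →
    ∀ c : F4, star c = c → ∀ x b : F4, bt (a + a' + x * star b + star x * b + x * star x * c) =
      bt a + bt a' + tb x t' * tb b t + tb x t * tb b t' +
        (tb x t + tb x t' + tb x t * tb x t') * bt c := by decide +kernel

theorem alg : ∀ e i j q u a c j' q' u' a' c' : Z2,
    a + a' + i * u' + j * q' + (j + i + j * i) * c' + (q + q' + i * c') + (u + u' + j * c') +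
      e * (c + c') + (j + j') * (q + q' + i * c') =
    a' + q' + u' + e * c' + j' * q' + i * (u' + j' * c') + q * j' + (a + q + u + e * c + j * q) := by
  intro e i j q u a c j' q' u' a' c'
  have h2 : (2 : Z2) = 0 := rfl
  linear_combination (j * q' + j * c' + i * c' + i * j * c') * h2

theorem alg2 : ∀ j u c j' u' c' : Z2, u + u' + j * c' + (j + j') * (c + c') =
    u' + j' * c' + c * j' + (u + j * c) := by decide +kernel

theorem zero : ∀ t t' : F4, t ≠ 0 → t' ≠ 0 → t ≠ t' → ∀ x : F4, tb x t = 0 → tb x t' = 0 → x = 0 := by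
  decide +kernel

theorem zero' : ∀ a : F4, star a = a → bt a = 0 → a = 0 := by decide +kernel

variable {t t' : F4} (h1 : t ≠ 0) (h4 : t' ≠ 0) (h7 : t ≠ t') (e : Z2)

def ps0 : Uf F4 →* M4 where
  toFun x := mm t t' e x.t x.a x.b x.c
  map_one' := by
    have h : ∀ t : F4, tb 0 t = 0 := by decide +kernel
    have h' : bt 0 = 0 := rfl
    ext i j
    fin_cases i <;> fin_cases j <;> simp [mm, ut, h, h']
  map_mul' x y := by
    simp only [mm, ut_mul, Uf.mul_t, Uf.mul_a, Uf.mul_b, Uf.mul_c, tb_add, tb_mul _ _ _ y.hc,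
      bt_add _ _ x.hc y.hc, bt_a t t' h1 h4 h7 _ _ x.ha y.ha _ y.hc]
    rw [alg, alg2]
    congr 1 <;> ring

def ps : Uf F4 →* GL (Fin 4) Z2 := (ps0 h1 h4 h7 e).toHomUnits

theorem ps_val (x : Uf F4) : (ps h1 h4 h7 e x : M4) = mm t t' e x.t x.a x.b x.c := rfl

theorem ps_inj : Function.Injective (ps h1 h4 h7 e) := by
  rw [injective_iff_map_eq_one]
  intro x hx
  obtain ⟨a1, a2, a3, a4, a5, a6⟩ := ut_inj (congrArg Units.val hx)
  rw [a6, zero_mul, add_zero] at a5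
  rw [a2, a4, a5, a6] at a3
  exact Uf.eq_one.2 ⟨zero t t' h1 h4 h7 _ a6 a1, zero' _ x.ha (by simpa using a3),
    zero t t' h1 h4 h7 _ a5 a2, zero' _ x.hc a4⟩

theorem mo : Mo 2 (ps h1 h4 h7 e) := by
  refine ⟨ps_inj h1 h4 h7 e, ?_⟩
  have hq : qq F4 = 2 := by
    have h := U5F.card_K hs4
    rw [Nat.card_eq_fintype_card, show Fintype.card F4 = 2 ^ 2 from rfl] at h
    exact (Nat.pow_left_injective two_ne_zero h).symm
  have hG : Nat.card (GL (Fin 4) Z2) = 2 ^ 6 * 315 := by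
    rw [Matrix.card_GL_field]; decide
  have hc : Nat.card (ps h1 h4 h7 e).range = 2 ^ 6 := by
    rw [← Nat.card_congr (MonoidHom.ofInjective (ps_inj h1 h4 h7 e)).toEquiv, card_Uf hs4, hq]
  have hi : (ps h1 h4 h7 e).range.index = 315 := by
    have := (ps h1 h4 h7 e).range.card_mul_index
    rw [hc, hG] at this
    omega
  exact ⟨(IsPGroup.of_card hc).toSylow (by rw [hi]; decide), rfl⟩

/-- an involution -/
def iv (g : M4) (h : g * g = 1) : GL (Fin 4) Z2 := ⟨g, g, h, h⟩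

theorem cj_of {g : M4} (h : g * g = 1) {x y : Uf F4}
    (k : g * mm t t' e x.t x.a x.b x.c = mm t t' e y.t y.a y.b y.c * g) :
    Cj (ps h1 h4 h7 e) (iv g h) x y :=
  mul_inv_eq_iff_eq_mul.2 (Units.ext k)

theorem av_of {g : M4} (h : g * g = 1) {r s : F4}
    (k : ∀ a b c : F4, star a = a → star c = c → g * mm t t' e 0 a b c =
      mm t t' e 0 (a + c + (b * star r + star b * r))
        (c * s + (a + (b * star (r + s) + star b * (r + s))) * r) (b * star r + star b * r) * g) :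
    AV (ps h1 h4 h7 e) (iv g h) (mv r s) := by
  have key : ∀ x ∈ VV F4, Cj (ps h1 h4 h7 e) (iv g h) x
      ⟨0, (mv r s (cV x)).a, (mv r s (cV x)).b, (mv r s (cV x)).c, Hm.ha _, Hm.hc _⟩ := fun x hx => by
    refine cj_of h1 h4 h7 e h ?_
    rw [show x.t = 0 from hx]
    exact k _ _ _ x.ha x.hc
  refine ⟨mem_nr fun x hx => ⟨_, rfl, key x hx⟩, fun x hx y _ hy => ?_⟩
  rw [hy.uniq (ps_inj h1 h4 h7 e) (key x hx)]
  rfl

def g1 (e : Z2) : M4 := !![1, e, 0, 0; 0, 1, 0, 0; 0, 0, 0, 1; 0, 0, 1, 0]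
def g2 (e : Z2) : M4 := !![0, 1, 0, 0; 1, 0, 0, 0; 0, 0, 1, e; 0, 0, 0, 1]
def g3 : M4 := !![1, 0, 0, 0; 0, 0, 1, 0; 0, 1, 0, 0; 0, 0, 0, 1]

theorem g1_sq : ∀ e, g1 e * g1 e = 1 := by decide +kernel
theorem g2_sq : ∀ e, g2 e * g2 e = 1 := by decide +kernel
theorem g3_sq : g3 * g3 = 1 := by decide +kernel

theorem k1 : ∀ t s t' s' : F4, t ≠ 0 → s ≠ 0 → t ≠ s → t' ≠ 0 → s' ≠ 0 → t' ≠ s' → t ≠ t' →
    s * t' ≠ s' * t → ∀ a b c : F4, star a = a → star c = c →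
      g1 (if s = t' then 0 else 1) * mm t t' (if s = t' then 0 else 1) 0 a b c =
      mm t t' (if s = t' then 0 else 1) 0 (a + c + (b * star t + star b * t))
        (c * s + (a + (b * star (t + s) + star b * (t + s))) * t) (b * star t + star b * t) *
          g1 (if s = t' then 0 else 1) := by decide +kernel

theorem k2 : ∀ t s t' s' : F4, t ≠ 0 → s ≠ 0 → t ≠ s → t' ≠ 0 → s' ≠ 0 → t' ≠ s' → t ≠ t' →
    s * t' ≠ s' * t → ∀ a b c : F4, star a = a → star c = c →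
      g2 (if s = t' then 0 else 1) * mm t t' (if s = t' then 0 else 1) 0 a b c =
      mm t t' (if s = t' then 0 else 1) 0 (a + c + (b * star t' + star b * t'))
        (c * s' + (a + (b * star (t' + s') + star b * (t' + s'))) * t') (b * star t' + star b * t') *
          g2 (if s = t' then 0 else 1) := by decide +kernel

theorem k3 : ∀ t t' : F4, t ≠ 0 → t' ≠ 0 → t ≠ t' → ∀ (e : Z2) (x a b : F4), star a = a →
    ∃ a' : F4, star a' = a' ∧ g3 * mm t t' e x a b 0 = mm t t' e b a' x 0 * g3 := by decide +kernel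

end ML

open ML

theorem model2 {t s t' s' : F4} (h1 : t ≠ 0) (h2 : s ≠ 0) (h3 : t ≠ s) (h4 : t' ≠ 0) (h5 : s' ≠ 0)
    (h6 : t' ≠ s') (h7 : t ≠ t') (h8 : s * t' ≠ s' * t) : ∃ (G : Type) (_ : Group G) (_ : Finite G)
      (ψ : Uf F4 →* G), Mo 2 ψ ∧ Mv ψ t s ∧ Mv ψ t' s' ∧ ¬ nr ψ (QQ F4) ≤ nr ψ (WW F4) := by
  refine ⟨GL (Fin 4) Z2, inferInstance, inferInstance, ps h1 h4 h7 (if s = t' then 0 else 1),
    mo h1 h4 h7 _, ⟨h1, h2, h3, _, av_of h1 h4 h7 _ (g1_sq _) (k1 t s t' s' h1 h2 h3 h4 h5 h6 h7 h8)⟩,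
    ⟨h4, h5, h6, _, av_of h1 h4 h7 _ (g2_sq _) (k2 t s t' s' h1 h2 h3 h4 h5 h6 h7 h8)⟩, fun hle => ?_⟩
  generalize (if s = t' then (0 : Z2) else 1) = e at hle
  have key : ∀ x ∈ QQ F4, ∃ y ∈ QQ F4, Cj (ps h1 h4 h7 e) (iv g3 g3_sq) x y ∧ y.t = x.b := fun x hx => by
    obtain ⟨a', ha', k⟩ := k3 t t' h1 h4 h7 e x.t x.a x.b x.ha
    refine ⟨⟨x.b, a', x.t, 0, ha', rfl⟩, rfl, cj_of h1 h4 h7 e g3_sq ?_, rfl⟩
    rw [show x.c = 0 from hx]
    exact k
  have hg := hle (mem_nr fun x hx => (key x hx).imp fun _ h => ⟨h.1, h.2.1⟩)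
  obtain ⟨y, -, hy, e1⟩ := key ⟨0, 0, 1, 0, rfl, rfl⟩ rfl
  have := (hy.mem (ps_inj h1 h4 h7 e) hg ⟨rfl, rfl⟩).1
  rw [e1] at this
  exact one_ne_zero this

end U4F
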