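import Mathlib
import Cfsg.Agent.Base
import Cfsg.Agent.Lib.U4F.SL
import Cfsg.Agent.Lib.U4F.Dg

set_option autoImplicit false

namespace U4F

open Subgroup H93.SX
open H68 (SylowIn)
open U5F (qq)
open scoped commutatorElement

universe u v

variable {K : Type*} {Γ : Type u} {Γ' : Type v} [Field K] [StarRing K] [Finite K] [Group Γ] [Finite Γ]
  [Group Γ'] [Finite Γ'] {p : ℕ} [Fact p.Prime] [CharP K p] {ι : Uf K →* Γ} {ψ : Uf K →* Γ'}
  {E : Subgroup (Uf K)} {g : Γ} {k : Γ'} {x y : Uf K} {t n l n' l' : K} {σ σ' : K ≃⋆+* K}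

namespace ST

open U4F.Uf U5F.TopB

omit [Finite K] in
theorem W_le (hs : ∃ e : K, star e ≠ e) : WW K ≤ commutator (Uf K) := by
  have cm : ∀ x y : Uf K, ⁅x, y⁆ ∈ commutator (Uf K) := fun x y =>
    commutator_mem_commutator (mem_top x) (mem_top y)
  have k1 : ∀ t ∈ ZZ K, t ∈ commutator (Uf K) := fun t ht => by
    obtain ⟨h1, h2, h3⟩ := ht
    obtain ⟨w, hw⟩ := U5F.exists_tr hs t.ha
    have : t = ⁅(⟨1, 0, 0, 0, by simp, by simp⟩ : Uf K), (⟨0, 0, w, 0, by simp, by simp⟩ : Uf K)⁆ :=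
      Uf.ext (by simp [h1]) (by rw [comm_a]; simp [← hw, add_comm]) (by simp [h2]) (by simp [h3])
    exact this ▸ cm _ _
  intro t ht
  obtain ⟨h1, h2⟩ := ht
  have := k1 (t * ⁅(⟨t.b, 0, 0, 0, by simp, by simp⟩ : Uf K), (⟨0, 0, 0, 1, by simp, by simp⟩ : Uf K)⁆⁻¹)
    (by simp [h1, h2])
  exact (mul_mem_cancel_right (inv_mem (cm _ _))).1 this

variable (K) in
/-- automorphisms that are trivial modulo the derived group -/
def PP : Subgroup (MulAut (Uf K)) where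
  carrier := {α | ∀ x, (α x).t = x.t ∧ (α x).c = x.c}
  one_mem' _ := ⟨rfl, rfl⟩
  mul_mem' := fun {α β} h k x => ⟨(h (β x)).1.trans (k x).1, (h (β x)).2.trans (k x).2⟩
  inv_mem' := fun {α} h x => by
    have := h (α⁻¹ x)
    rw [MulAut.apply_inv_self] at this
    exact ⟨this.1.symm, this.2.symm⟩

variable (K) in
/-- the standard automorphisms -/
def DD : Subgroup (MulAut (Uf K)) where
  carrier := {α | ∃ n l hl σ, n ≠ 0 ∧ l ≠ 0 ∧ ∀ x, α x = dl n l hl σ x}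
  one_mem' := ⟨1, 1, star_one _, .refl, one_ne_zero, one_ne_zero, fun x => by ext <;> simp⟩
  mul_mem' := by
    rintro α β ⟨l, m, h, σ, hl, hm, e⟩ ⟨l', m', h', σ', hl', hm', e'⟩
    refine ⟨l * σ l', m * σ m', by rw [star_mul', h, ← map_star, h'], σ'.trans σ, by simp [hl, hl'],
      by simp [hm, hm'], fun x => ?_⟩
    rw [MulAut.mul_apply, e', e]
    ext <;> simp [star_mul', map_star] <;> ring
  inv_mem' := by
    rintro α ⟨l, m, h, σ, hl, hm, e⟩
    refine ⟨σ.symm l⁻¹, σ.symm m⁻¹, by rw [← map_star, star_inv₀, h], σ.symm, by simp [hl], by simp [hm],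
      fun x => ?_⟩
    have := star_ne_zero.2 hl
    rw [MulAut.inv_apply, MulEquiv.symm_apply_eq, e]
    ext <;> simp [map_star] <;> field_simp

omit [CharP K p] in
theorem pg_PP (hs : ∃ e : K, star e ≠ e) (h : IsPGroup p (Uf K)) : IsPGroup p (PP K) := by
  rintro ⟨α, hα⟩
  obtain ⟨k, n, hn, e⟩ := Nat.exists_eq_pow_mul_and_not_dvd (orderOf_pos α).ne' p (Fact.out : p.Prime).ne_one
  have h0 : p ^ k ≠ 0 := pow_ne_zero _ (Fact.out : p.Prime).ne_zero
  refine ⟨k, Subtype.ext (H5.aut_eq_one_of_frattini h (α ^ p ^ k) ?_ fun x => ?_)⟩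
  · rw [orderOf_pow_of_dvd h0 ⟨n, e⟩, e, Nat.mul_div_cancel_left _ (Nat.pos_of_ne_zero h0)]
    exact ((Nat.Prime.coprime_iff_not_dvd Fact.out).2 hn).symm
  · have := pow_mem hα (p ^ k) x
    exact H5.commutator_le_frattini h (W_le hs (by simp [this.1, this.2]))

omit [Finite K] in
theorem conj_PP (t : Uf K) : MulAut.conj t ∈ PP K := fun x => by simp

theorem DD_norm : DD K ≤ normalizer (PP K : Set (MulAut (Uf K))) := H93.R3.le_norm (by
  rintro δ ⟨l, m, h, σ, -, -, e⟩ π hπ x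
  have := e (δ⁻¹ x)
  rw [MulAut.apply_inv_self] at this
  rw [MulAut.mul_apply, MulAut.mul_apply, e, dl_t, dl_c, (hπ _).1, (hπ _).2]
  exact ⟨(congrArg Uf.t this).symm, (congrArg Uf.c this).symm⟩)

omit [Finite K] in
theorem DD_PP {δ : MulAut (Uf K)} (h : δ ∈ DD K) (h' : δ ∈ PP K) : δ = 1 := by
  obtain ⟨l, m, hm, σ, -, -, e⟩ := h
  have k : ∀ a : K, l * σ a = a ∧ m * σ 1 = 1 := fun a => by
    have := h' ⟨a, 0, 0, 1, by simp, by simp⟩
    rwa [e, dl_t, dl_c] at this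
  have l1 : l = 1 := by simpa using (k 1).1
  have m1 : m = 1 := by simpa using (k 1).2
  have s : ∀ a, σ a = a := fun a => by simpa [l1] using (k a).1
  ext x <;> simp [e, l1, m1, s]

theorem exists_DD (hs : ∃ e : K, star e ≠ e) (α : MulAut (Uf K)) : ∃ δ ∈ DD K, α * δ⁻¹ ∈ PP K := by
  obtain ⟨l, m, σ, hl, hm, h, k⟩ := sl_act hs α
  have i : Function.Injective (dl l m h σ) := (injective_iff_map_eq_one _).2 fun x hx => by
    simpa [eq_one, hl, hm] using hx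
  let δ : MulAut (Uf K) := MulEquiv.ofBijective (dl l m h σ) (Finite.injective_iff_bijective.1 i)
  refine ⟨δ, ⟨l, m, h, σ, hl, hm, fun _ => rfl⟩, fun x => ?_⟩
  obtain ⟨y, rfl⟩ := δ.surjective x
  rw [MulAut.mul_apply, MulAut.inv_apply_self]
  exact k y

theorem eqns_ST : True := by
  have := @PP.eq_1.{0}
  have := @DD.eq_1.{0}
  trivial

end ST

open ST in
open U5F.TopB (AA inner) in
theorem exists_std (hs : ∃ e : K, star e ≠ e) (F : Cf p ι) : ∃ η : Uf K ≃* Uf K, Std (ι.comp η.toMonoidHom) := by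
  have hP := pg_PP hs F.pg
  have hA : AA ι ≤ normalizer (PP K : Set (MulAut (Uf K))) := fun α _ => by
    obtain ⟨δ, hδ, e⟩ := exists_DD hs α
    simpa using mul_mem (le_normalizer e) (DD_norm hδ)
  have hD : ∀ δ ∈ DD K ⊓ (PP K ⊔ AA ι), ∃ π ∈ PP K, π * δ ∈ AA ι := fun δ hδ => by
    obtain ⟨π, hπ, α, hα, e⟩ := (H68.mem_sup_of_le_normalizer' hA).1 hδ.2
    exact ⟨π⁻¹, inv_mem hπ, by rwa [e, inv_mul_cancel_left]⟩
  have cop : (Nat.card (DD K ⊓ (PP K ⊔ AA ι) : Subgroup _)).Coprime (Nat.card (PP K)) := by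
    obtain ⟨n, hn⟩ := hP.exists_card_eq
    rw [hn]
    refine ((Nat.Prime.coprime_iff_not_dvd Fact.out).2 fun h => ?_).symm.pow_right n
    obtain ⟨⟨δ, hδ⟩, o⟩ := exists_prime_orderOf_dvd_card' p h
    rw [Subgroup.orderOf_mk] at o
    obtain ⟨π, hπ, e⟩ := hD δ hδ
    have hz : IsPGroup p (zpowers δ) := IsPGroup.of_card (n := 1) (by rw [Nat.card_zpowers, o, pow_one])
    obtain ⟨t, ht⟩ := inner F (hP.to_sup_of_normal_left' hz (zpowers_le.2 (DD_norm hδ.1)))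
      (fun t => mem_sup_left (conj_PP t)) (mul_mem_sup hπ (mem_zpowers δ)) e
    have : π * δ ∈ PP K := (MulEquiv.ext ht : π * δ = MulAut.conj t) ▸ conj_PP t
    rw [DD_PP hδ.1 ((mul_mem_cancel_left hπ).1 this), orderOf_one] at o
    exact (Fact.out : p.Prime).ne_one o.symm
  haveI := hP.isNilpotent
  obtain ⟨k, hk, e⟩ := H2.exists_conj_le_of_forall_mul_mem (inf_le_left.trans DD_norm) cop
    (Or.inr inferInstance) hD
  refine ⟨k, fun g hg => ?_⟩
  obtain ⟨α, hα⟩ := U5F.TopB.exists_aut F.inj (g := g) (mem_nr fun x _ => by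
    obtain ⟨y, -, e⟩ := nr_cj hg (mem_top (k.symm x))
    exact ⟨k y, mem_top _, by simpa [Cj.comp] using e⟩)
  have hα' : α ∈ AA ι := ⟨g, hα⟩
  obtain ⟨δ, hδ, e1⟩ := exists_DD hs α
  have e2 := e δ ⟨hδ, by simpa using mul_mem_sup (inv_mem e1) hα'⟩
  obtain ⟨t, ht⟩ := inner F hP conj_PP (α := α * (k * δ * k⁻¹)⁻¹) (by
    have := mul_mem (mul_mem e1 (H93.R3.conj_mem (DD_norm hδ) hk)) (inv_mem hk)
    simpa [mul_assoc] using this) (mul_mem hα' (inv_mem e2))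
  obtain ⟨l, m, hs', σ, hl, hm, e3⟩ := hδ
  refine ⟨k.symm t, l, m, hs', σ, hl, hm, fun x => ?_⟩
  have := ht (k (δ x))
  simp only [mul_inv_rev, inv_inv, MulAut.mul_apply, MulAut.inv_apply_self] at this
  have e4 := hα (k x)
  rw [this] at e4
  rw [← e3, Cj.comp]
  simpa using e4

end U4F
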