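import Mathlib
import Cfsg.Agent.Base
import Cfsg.Agent.Lib.U4F.Crd
import Cfsg.Agent.Lib.U4F.Cv
import Cfsg.Agent.Lib.U4F.Dg

set_option autoImplicit false

namespace U4F

open Subgroup H93.SX
open H68 (SylowIn)
open U5F (qq)
open scoped commutatorElement

universe u v

variable {K : Type*} {Γ : Type u} {Γ' : Type v} [Field K] [StarRing K] [Finite K] [Group Γ] [Finite Γ]
  [Group Γ'] [Finite Γ'] {p : ℕ} [Fact p.Prime] [CharP K p] {ι : Uf K →* Γ} {ψ : Uf K →* Γ'}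
  {E : Subgroup (Uf K)} {g : Γ} {k : Γ'} {x y : Uf K} {t n l n' l' : K} {σ σ' : K ≃⋆+* K}

omit [Finite K] in
theorem V2.exists_eta (α : K →+ K) (hα : ∀ c, star c = c → star (α c) = α c) :
    ∃ η : Uf K ≃* Uf K, ∀ x, (η x).t = x.t ∧ (η x).a = x.a + α x.c ∧ (η x).b = x.b ∧ (η x).c = x.c :=
  ⟨{ toFun := fun x => ⟨x.t, x.a + α x.c, x.b, x.c, by rw [star_add, x.ha, hα _ x.hc], x.hc⟩
     invFun := fun x => ⟨x.t, x.a - α x.c, x.b, x.c, by rw [star_sub, x.ha, hα _ x.hc], x.hc⟩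
     left_inv := fun x => by ext <;> simp
     right_inv := fun x => by ext <;> simp
     map_mul' := fun x y => by
      ext <;> simp
      ring }, fun _ => ⟨rfl, rfl, rfl, rfl⟩⟩

omit [Finite K] in
theorem V2.exists_th (α : K →+ K) (hα : ∀ c, star c = c → star (α c) = α c) :
    ∃ Θ : Hm K ≃ₗ[ℤ] Hm K, ∀ v, Θ • v = th α hα v :=
  ⟨AddEquiv.toIntLinearEquiv
    { toFun := th α hα
      invFun := fun v => ⟨v.a - α v.c, v.b, v.c, by rw [star_sub, v.ha, hα _ v.hc], v.hc⟩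
      left_inv := fun x => by ext <;> simp [th]
      right_inv := fun x => by ext <;> simp [th]
      map_add' := fun x y => by
        ext <;> simp [th]
        ring }, fun _ => rfl⟩

omit [Finite K] [Finite Γ] in
theorem V2.ac {η : Uf K ≃* Uf K} {Θ φ : Hm K ≃ₗ[ℤ] Hm K} (h1 : ∀ x, (η x).t = x.t)
    (h2 : ∀ x, cV (η x) = Θ • cV x) :
    Ac (ι.comp η.toMonoidHom) (VV K) cV g φ ↔ Ac ι (VV K) cV g (Θ * φ * Θ⁻¹) := by
  have e : (VV K).map η.toMonoidHom = VV K := by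
    ext x
    rw [mem_map_equiv, mem_VV, mem_VV, ← h1, η.apply_symm_apply]
  have m : ∀ x, η x ∈ VV K ↔ x ∈ VV K := fun x => by rw [mem_VV, mem_VV, h1]
  refine and_congr (by rw [nr, nr, ← map_map, e]) ⟨fun h x hx y hy c => ?_, fun h x hx y hy c => ?_⟩
  · obtain ⟨x, rfl⟩ := η.surjective x
    obtain ⟨y, rfl⟩ := η.surjective y
    rw [h2, h2, mul_smul, inv_smul_smul, mul_smul, h x ((m x).1 hx) y ((m y).1 hy) c]
  · have := h _ ((m x).2 hx) _ ((m y).2 hy) c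
    rwa [h2, h2, mul_smul, inv_smul_smul, mul_smul, smul_left_cancel_iff] at this

theorem V2.comm (hs : ∃ e : K, star e ≠ e) (F : Cf p ι) (t : TV F.inj) {α : K →+ K}
    {hα : ∀ c, star c = c → star (α c) = α c} {γ : Hm K ≃ₗ[ℤ] Hm K} (hγ : γ ∈ au F.inj (VV K) cV ⊤)
    (h : ∀ c hc, ∃ z ∈ hZ K, γ • z = th α hα ⟨0, 0, c, star_zero K, hc⟩) {hl : star l = l} (hn : n ≠ 0)
    (h0 : l ≠ 0) (e : ∀ x, Cj ι g x (dl n l hl σ x)) {c : K} (hc : star c = c) :
    n * star n * l * σ (α c) = α (l * σ c) := by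
  have o := ovV F
  have hg := cj_dl_nr hn h0 e
  obtain ⟨δ, a⟩ := (coV F.inj).exists_ac (top_V hs F.inj hg)
  have dZ := (acV_Z F.inj a).2 (top_Z hs F.inj hg)
  have n1 : γ ∉ sb _ (hZ K) := fun k => by
    obtain ⟨z, hz, ez⟩ := h 1 (star_one K)
    have := (sb_mem k hz).2
    rw [ez] at this
    exact one_ne_zero this
  obtain ⟨u, hu, k⟩ := o.one hs t hγ (mul_mem ⟨g, trivial, a⟩ hγ) n1 fun k =>
    n1 ((mul_mem_cancel_left dZ).1 k)
  obtain ⟨s, es⟩ := o.act u hu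
  have key : ∀ c, star c = c → s * (l * σ c) = 0 ∧
      n * star n * l * σ (α c) + s * star s * (l * σ c) = α (l * σ c) := fun c hc => by
    obtain ⟨z, hz, ez⟩ := h c hc
    have hc' : star (l * σ c) = l * σ c := by rw [star_mul', hl, ← map_star, hc]
    obtain ⟨z', hz', ez'⟩ := h _ hc'
    have m := sb_mem k hz
    have e1 := a.2 ⟨0, 0 + α c, 0, c, by rw [zero_add, hα c hc], hc⟩ rfl _ (by simp) (e _)
    have e2 : γ • ((γ⁻¹ * u * (δ * γ)) • z) =
        sh s (cV (dl n l hl σ ⟨0, 0 + α c, 0, c, by rw [zero_add, hα c hc], hc⟩)) := by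
      rw [mul_smul, mul_smul, smul_inv_smul, mul_smul, ez, es, ← e1]
      rfl
    have e3 : (γ⁻¹ * u * (δ * γ)) • z = z' := by
      by_contra hne
      refine n1 (o.pt hs t hγ (sub_mem m hz') (sub_ne_zero.2 hne) ?_)
      rw [smul_sub, e2, ez']
      simp [sh, cV, th]
    rw [e3, ez'] at e2
    have e4 := congrArg Hm.b e2
    have e5 := congrArg Hm.a e2
    simp only [sh, cV, th, dl_a, dl_b, dl_c, map_zero, mul_zero, zero_add, star_zero, add_zero] at e4 e5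
    exact ⟨e4.symm, e5.symm⟩
  have s0 : s = 0 := by simpa [h0] using (key 1 (star_one K)).1
  simpa [s0] using (key c hc).2

theorem exists_sd (hs : ∃ e : K, star e ≠ e) (F : Cf p ι) (S : Std ι) (t : TV F.inj) (h : ¬ nr ι (VV K) ≤ nr ι (ZZ K)) :
    ∃ η : Uf K ≃* Uf K, Sd (F.comp η).inj := by
  obtain ⟨g0, g1, g2⟩ := SetLike.not_le_iff_exists.1 h
  obtain ⟨φ0, a0⟩ := (coV F.inj).exists_ac g1
  have o := ovV F
  obtain ⟨α, hα, hA, γ, hγ, hB⟩ := o.coord hs t fun k => g2 ((acV_Z F.inj a0).1 (k ⟨g0, trivial, a0⟩))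
  obtain ⟨η, hη⟩ := V2.exists_eta α hα
  obtain ⟨Θ, hΘ⟩ := V2.exists_th α hα
  have h2 : ∀ x, cV (η x) = Θ • cV x := fun x => by
    rw [hΘ]
    exact Hm.ext (hη x).2.1 (hη x).2.2.1 (hη x).2.2.2
  have r : (ι.comp η.toMonoidHom).range = ι.range := by
    rw [MonoidHom.range_comp, MonoidHom.range_eq_top.2 η.surjective, ← MonoidHom.range_eq_map]
  have m : ∀ (L : Subgroup Γ) φ, φ ∈ au (F.comp η).inj (VV K) cV L ↔ Θ * φ * Θ⁻¹ ∈ au F.inj (VV K) cV L :=
    fun L φ => exists_congr fun g => and_congr_right fun _ => V2.ac (fun x => (hη x).1) h2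
  refine ⟨η, fun g hg => ?_, (w2_iff (F.comp η).inj).2 ?_, fun g hg u hu u1 k => ?_⟩
  · rw [nr_top, r, ← nr_top] at hg
    obtain ⟨s, n, l, hl, σ, hn, h0, e⟩ := S g hg
    have e' : ∀ x, Cj ι ((ι s)⁻¹ * g) x (dl n l hl σ x) := fun x => (Cj.self s _).symm.trans (e x)
    refine ⟨η.symm s, n, l, hl, σ, hn, h0, fun x => ?_⟩
    have : η (dl n l hl σ x) = dl n l hl σ (η x) := by
      ext <;> simp only [hη, dl_t, dl_a, dl_b, dl_c]
      rw [← V2.comm hs F t hγ hB hn h0 e' x.hc, map_add, mul_add]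
    change Cj ι g (η x) (η _)
    rw [map_mul, map_mul, map_inv, η.apply_symm_apply, this]
    exact e _
  · obtain ⟨u, hu, eu⟩ := o.ex 1
    obtain ⟨x, hx, ex⟩ := hA (-1)
    have uH : u ∈ au F.inj (VV K) cV ⊤ := let ⟨g, _, a⟩ := hu; ⟨g, trivial, a⟩
    have c : ∀ v, sh 1 (th α hα v) = th α hα (sh 1 v) := fun v => by
      ext <;> simp [sh, th]
      ring
    refine ⟨Θ⁻¹ * (u * x * u) * Θ, (m _ _).2 (by simpa [mul_assoc] using mul_mem (mul_mem uH hx) uH), fun v => ?_⟩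
    rw [mul_smul, mul_smul, inv_smul_eq_iff, mul_smul, mul_smul, hΘ, hΘ, eu, eu, c, ex, c]
    congr 1
    ext <;> simp [sh, sl] <;> ring
  · rw [r] at hu k
    have tZ : Θ ∈ sb _ (hZ K) ⊓ sb _ (hW K) := ⟨fun v => by rw [hΘ]; rfl, fun v => by rw [hΘ]; rfl⟩
    have := t _ ((m _ _).1 hg) _ ((m _ _).1 hu) (by simpa using u1) (by simpa [mul_assoc] using (m _ _).1 k)
    simpa [mul_assoc] using mul_mem (mul_mem (inv_mem tZ) this) tZ

end U4F
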