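import Mathlib
import Cfsg.Agent.Base
import Cfsg.Agent.Lib.U4F.E0
import Cfsg.Agent.Lib.U4F.ST
import Cfsg.Agent.Lib.U4F.Tt
import Cfsg.Agent.Lib.U4F.V2
import Cfsg.Agent.Lib.U4F.QF
import Cfsg.Agent.Lib.U4F.RQ
import Cfsg.Agent.Lib.U4F.EQ
import Cfsg.Agent.Lib.U4F.MD
import Cfsg.Agent.Lib.U4F.G4
import Cfsg.Agent.Lib.U4F.G5
import Cfsg.Agent.Lib.U4F.L2
import Cfsg.Agent.Lib.U4F.LD
import Cfsg.Agent.Lib.U4F.M3
import Cfsg.Agent.Lib.U4F.M4
import Cfsg.Agent.Lib.U4F.ML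

/-!
Saturated fusion systems without normal subgroup over a Sylow subgroup of the four-dimensional unitary
group are realizable.
-/

set_option autoImplicit false

namespace U4F

open Subgroup H93.SX Cfsg

universe u v

section
variable {K : Type v} {Γ : Type u} [Field K] [StarRing K] [Finite K] [Group Γ] [Finite Γ]
  {p : ℕ} [Fact p.Prime] [CharP K p] {ι : Uf K →* Γ} (hs : ∃ e : K, star e ≠ e) (F : Cf p ι)
include hs F

theorem glue {Γ' : Type*} [Group Γ'] [Finite Γ'] {ψ : Uf K →* Γ'} (M : Mo p ψ) (t : TV F.inj)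
    (t' : TV M.cf.inj) (w : W2 ι) (w' : W2 ψ) (a : Eqv ι ψ ⊤) (a' : Eqv ψ ι ⊤)
    (b : Eqv ι ψ (QQ K)) (b' : Eqv ψ ι (QQ K)) : (groupFusionSystem ι.range).IsRealizable p := by
  obtain ⟨P, hP⟩ := M.2
  refine real_of_eqv F M.cf P hP fun E hE => ?_
  have c := And.intro (eqV hs F a t w w') (eqV hs M.cf a' t' w' w)
  rcases hE with rfl | h | h
  · exact ⟨a, a'⟩
  · rcases es_cases hs F h with rfl | rfl | ⟨rfl, t0, h0, rfl⟩
    exacts [⟨b, b'⟩, c, (tv_not_es hs F t h0 h).elim]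
  · rcases es_cases hs M.cf h with rfl | rfl | ⟨rfl, t0, h0, rfl⟩
    exacts [⟨b, b'⟩, c, (tv_not_es hs M.cf t' h0 h).elim]

theorem tv_gen (h : p ≠ 2 ∨ ∃ e : K, star e = e ∧ e ≠ 0 ∧ e ^ 2 ≠ 1) : TV F.inj := by
  by_cases h2 : p = 2
  · exact (ovV F).ti_even hs h2 (h.resolve_left fun e => e h2)
  · exact (ovV F).ti_odd hs h2

theorem exists_sd' (hc : (groupFusionSystem ι.range).core = ⊥)
    (t : ∀ η : Uf K ≃* Uf K, TV (F.comp η).inj) : ∃ η : Uf K ≃* Uf K, Sd (F.comp η).inj := by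
  obtain ⟨η, S⟩ := exists_std hs F
  obtain ⟨θ, S'⟩ := exists_sd hs (F.comp η) S (t η) (not_VZ hs (F.comp η) (by rwa [range_comp])
    fun t0 h0 e => by subst e; exact tv_not_es hs (F.comp η) (t η) h0)
  exact ⟨θ.trans η, S'⟩

theorem real_gen (hc : (groupFusionSystem ι.range).core = ⊥) (S : Sd F.inj)
    (h : p = 2 ∨ ∃ e : K, star e = e ∧ e ≠ 0 ∧ e ^ 2 ≠ 1)
    (tv : ∀ (G : Type v) [Group G] [Finite G] (ψ : Uf K →* G) (F' : Cf p ψ), T2 ψ → TV F'.inj) :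
    (groupFusionSystem ι.range).IsRealizable p := by
  have T := t2_of F S.std S.w2
  have q : SQ ι := by
    by_cases h2 : p = 2
    exacts [sq_even hs F h2, sq_odd hs F h2 (h.resolve_left h2) T]
  have w := w1_of hs F q (not_QW hs F hc)
  have T' := t1_of hs F S.std w
  obtain ⟨G, _, _, ψ, M, S', D, w', v'⟩ := exists_model hs F T' T
  have U := t2_of M.cf S' v'
  have q' : SQ ψ := by
    by_cases h2 : p = 2
    exacts [sq_even hs M.cf h2, sq_odd hs M.cf h2 (h.resolve_left h2) U]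
  have a : Eqv ι ψ ⊤ := eqT S.std (fun n l σ a b => (D n l σ a b).2) F.inj
  have a' : Eqv ψ ι ⊤ := eqT S' (fun n l σ a b => (D n l σ a b).1) M.1
  obtain ⟨r, h1, h2, d⟩ := exists_rho hs T' T
  have d' := (D r 1 _ (left_ne_zero_of_mul_eq_one h1) one_ne_zero).2 d
  obtain ⟨g, hg⟩ := w
  obtain ⟨k, hk⟩ := w'
  obtain ⟨k', b⟩ := rq hs F M.cf h1 h2 d d' hg hk fun v => by simp
  obtain ⟨g', b'⟩ := rq hs M.cf F h1 h2 d' d hk hg fun v => by simp
  exact glue hs F M S.tv (tv G ψ M.cf U) S.w2 v' a a' (eqQ hs F a q hg b) (eqQ hs M.cf a' q' hk b')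

end

variable {Γ : Type u} [Group Γ] [Finite Γ]

open H19.Cov in
theorem real9 {ι : Uf F9 →* Γ} (F : Cf 3 ι) (hc : (groupFusionSystem ι.range).core = ⊥) :
    (groupFusionSystem ι.range).IsRealizable 3 := by
  haveI : Fact (Nat.Prime 3) := ⟨by norm_num⟩
  obtain ⟨η, S⟩ := exists_sd' hs9 F hc fun η => tv_gen hs9 (F.comp η) (.inl (by norm_num))
  obtain ⟨θ, X, S', T⟩ := exists_ty (F.comp η) S (not_QW hs9 (F.comp η) (by rwa [range_comp]))
  obtain ⟨Γ', _, _, Λ, _, _, ψ, u, L⟩ := exists_ld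
  obtain ⟨G, _, _, χ, M, S1, w, D, sg⟩ := L.model T
  have F' := (F.comp η).comp θ
  have a := eqT S'.std (fun n l σ a b => (D n l σ a b).2) F'.inj
  have a' := eqT S1 (fun n l σ a b => (D n l σ a b).1) M.1
  have t := t2_of F' S'.std S'.w2
  have t' := t2_of M.cf S1 w
  have := glue hs9 F' M S'.tv (tv_gen hs9 M.cf (.inl (by norm_num))) S'.w2 w a a'
    (eqQ3 F' M.1 t t' a fun k => (sg k).2) (eqQ3 M.cf F'.inj t' t a' fun k => (sg k).1)
  rwa [range_comp, range_comp] at this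

open H30

theorem tv_of_t2 {ι : Uf F4 →* Γ} (F : Cf 2 ι) (T : T2 ι) : TV F.inj := by
  by_contra h
  obtain ⟨t, s, m⟩ := mv_of_not_tv F h
  obtain ⟨e, he⟩ := hs4
  have h0 : e ≠ 0 := fun h => he (by simp [h])
  obtain ⟨hl, g, hg⟩ := T e h0
  obtain ⟨x, hx⟩ := m.inn F g (cj_dl_nr (pow_ne_zero 2 h0)
    (inv_ne_zero (mul_ne_zero h0 (star_ne_zero.2 h0))) hg)
  have := congrArg Uf.t ((hg ⟨1, 0, 0, 0, by simp, by simp⟩).uniq F.inj (hx _))
  simp only [dl_t, Uf.mul_t, Uf.inv_t, add_neg_cancel_comm, map_one, mul_one] at this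
  exact (by decide : ∀ e : F4, star e ≠ e → e ^ 2 ≠ 1) e he this

theorem three_aux : ∀ t s t' s' x y : F4, (t ≠ 0 ∧ s ≠ 0 ∧ t ≠ s) → (t' ≠ 0 ∧ s' ≠ 0 ∧ t' ≠ s') →
    (x ≠ 0 ∧ y ≠ 0 ∧ x ≠ y) → t ≠ t' → (t = t' ↔ s * t' = s' * t) → (t = x ↔ s * x = y * t) →
    (t' = x ↔ s' * x = y * t') → (x = t ∧ y = s) ∨ (x = t' ∧ y = s') := by
  intro t s t' s'
  revert t s t' s'
  decide +kernel

theorem mv_three {Γ' : Type v} [Group Γ'] [Finite Γ'] {ι : Uf F4 →* Γ} {ψ : Uf F4 →* Γ'} (F : Cf 2 ι)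
    {t s t' s' : F4} (a : Mv ι t s) (b : Mv ι t' s') (ne : t ≠ t') (a' : Mv ψ t s) (b' : Mv ψ t' s')
    (x y : F4) (c : Mv ι x y) : Mv ψ x y := by
  have := three_aux t s t' s' x y ⟨a.1, a.2.1, a.2.2.1⟩ ⟨b.1, b.2.1, b.2.2.1⟩ ⟨c.1, c.2.1, c.2.2.1⟩ ne
    (a.cmp F b) (a.cmp F c) (b.cmp F c)
  rcases this with ⟨rfl, rfl⟩ | ⟨rfl, rfl⟩ <;> assumption

theorem real4 {ι : Uf F4 →* Γ} (F : Cf 2 ι) (hc : (groupFusionSystem ι.range).core = ⊥) :
    (groupFusionSystem ι.range).IsRealizable 2 := by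
  by_cases h : ∀ η : Uf F4 ≃* Uf F4, TV (F.comp η).inj
  · obtain ⟨η, S⟩ := exists_sd' hs4 F hc h
    have := real_gen hs4 (F.comp η) (by rwa [range_comp]) S (.inl rfl) fun G _ _ ψ F' => tv_of_t2 F'
    rwa [range_comp] at this
  push Not at h
  obtain ⟨η, h⟩ := h
  rw [← range_comp η] at hc ⊢
  generalize F.comp η = F at h
  generalize ι.comp η.toMonoidHom = ι at F hc h ⊢
  obtain ⟨t, s, a⟩ := mv_of_not_tv F h
  obtain ⟨t', s', ne, b⟩ := a.two F hc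
  obtain ⟨G, _, _, ψ, M, a', b', n'⟩ := model2 a.1 a.2.1 a.2.2.1 b.1 b.2.1 b.2.2.1 ne.symm
    fun e => ne ((a.cmp F b).2 e).symm
  obtain ⟨P, hP⟩ := M.2
  have F' := M.cf
  have t1 : Eqv ι ψ ⊤ := eqT' (a.inn F) F.inj
  have t2 : Eqv ψ ι ⊤ := eqT' (a'.inn F') F'.inj
  have q := sq_even hs4 F rfl
  have q' := sq_even hs4 F' rfl
  obtain ⟨g, hg⟩ := w1_of hs4 F q (not_QW hs4 F hc)
  obtain ⟨k, hk⟩ := w1_of hs4 F' q' n'
  have h3 : ∀ e : F4, star e = e → ∃ z : ℤ, e = z := fun e he =>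
    (by revert e; decide : e = 0 ∨ e = 1).elim (fun e => ⟨0, by simp [e]⟩) fun e => ⟨1, by simp [e]⟩
  obtain ⟨k', c⟩ := rq_prime hs4 F.inj F'.inj h3 hg hk
  obtain ⟨g', c'⟩ := rq_prime hs4 F'.inj F.inj h3 hk hg
  have eQ := And.intro (eqQ hs4 F t1 q hg c) (eqQ hs4 F' t2 q' hk c')
  have eE := fun (x : F4) (hx : x ≠ 0) => And.intro (eqE F F' (mv_three F a b ne.symm a' b') hx)
    (eqE F' F (mv_three F' a' b' ne.symm a b) hx)
  refine real_of_eqv F F' P hP fun E hE => ?_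
  rcases hE with rfl | h | h
  · exact ⟨t1, t2⟩
  · rcases es_cases hs4 F h with rfl | rfl | ⟨-, t0, h0, rfl⟩
    exacts [eQ, (a.not_es F h).elim, eE t0 h0]
  · rcases es_cases hs4 F' h with rfl | rfl | ⟨-, t0, h0, rfl⟩
    exacts [eQ, (a'.not_es F' h).elim, eE t0 h0]

theorem realizable {K : Type v} [Field K] [StarRing K] [Finite K] {p : ℕ} [hp : Fact p.Prime] [CharP K p]
    {ι : Uf K →* Γ} (hs : ∃ e : K, star e ≠ e) (F : Cf p ι)
    (hc : (groupFusionSystem ι.range).core = ⊥) : (groupFusionSystem ι.range).IsRealizable p := by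
  have key : ∀ r k : ℕ, r.Prime → Nat.card K = r ^ k → p = r := fun r k hr e => by
    have := Fintype.ofFinite K
    obtain ⟨n, -, hn⟩ := FiniteField.card K p
    rw [← Nat.card_eq_fintype_card, e] at hn
    exact (Nat.prime_dvd_prime_iff_eq hp.out hr).1
      (hp.out.dvd_of_dvd_pow (hn ▸ dvd_pow_self p n.ne_zero))
  have rg : ∀ {W : Type} [Group W] (j : W ≃* Uf K), (ι.comp j.toMonoidHom).range = ι.range :=
    fun j => by
      rw [MonoidHom.range_comp, MonoidHom.range_eq_top.2 j.surjective, ← MonoidHom.range_eq_map]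
  rcases field_cases hs with h | h | h
  · obtain rfl := key 2 2 Nat.prime_two h
    obtain ⟨j⟩ := tr4 hs h
    exact rg j ▸ real4 (F.comp j) (by rwa [rg])
  · obtain rfl := key 3 2 Nat.prime_three h
    obtain ⟨j⟩ := tr9 hs h
    exact rg j ▸ real9 (F.comp j) (by rwa [rg])
  · obtain ⟨η, S⟩ := exists_sd' hs F hc fun η => tv_gen hs (F.comp η) (.inr h)
    have := real_gen hs (F.comp η) (by rwa [range_comp]) S (.inr h)
      fun G _ _ ψ F' _ => tv_gen hs F' (.inr h)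
    rwa [range_comp] at this

end U4F
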